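/-
An elementary abelian 2-group acting without fixed points modulo a central subgroup.
-/
import Mathlib

set_option autoImplicit false
set_option linter.unusedSectionVars false

namespace Cfsg.Agent.Classical.OTPow

variable {E : Type*} [CommGroup E] [Finite E]

/-- Fixed points of a set of operators. -/
def fixBy {H : Type*} [Group H] (α : E →* MulAut H) (A : Subgroup E) : Subgroup H where
  carrier := {x | ∀ a ∈ A, α a x = x}
  one_mem' := fun a _ => map_one _
  mul_mem' := fun hx hy a ha => by rw [map_mul, hx a ha, hy a ha]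
  inv_mem' := fun hx a ha => by rw [map_inv, hx a ha]

theorem fixBy_inv {H : Type*} [Group H] (α : E →* MulAut H) (A : Subgroup E) (e : E) {x : H}
    (hx : x ∈ fixBy α A) : α e x ∈ fixBy α A := fun a ha => by
  rw [← MulAut.mul_apply, ← map_mul, mul_comm, map_mul, MulAut.mul_apply, hx a ha]

/-- Without common fixed points the order is odd, and some hyperplane has fixed points. -/
theorem fpf_core {H : Type*} [Group H] [Finite H] (α : E →* MulAut H) (hE : ∀ e : E, e * e = 1)
    (hfix : fixBy α ⊤ = ⊥) :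
    Odd (Nat.card H) ∧
      ((⊤ : Subgroup H) = ⊥ ∨ ∃ A : Subgroup E, A.index = 2 ∧ ∃ x : H, x ≠ 1 ∧ x ∈ fixBy α A) := by
  classical
  by_cases htriv : (⊤ : Subgroup H) = ⊥
  · refine ⟨?_, Or.inl htriv⟩
    have : Nat.card ↥(⊤ : Subgroup H) = 1 := by rw [htriv, Subgroup.card_bot]
    rw [Subgroup.card_top] at this
    rw [this]; exact odd_one
  obtain ⟨A, hA, hmax⟩ : ∃ A : Subgroup E, fixBy α A ≠ ⊥ ∧ ∀ B : Subgroup E, A < B → fixBy α B = ⊥ := by
    obtain ⟨A, hA⟩ := Set.Finite.exists_maximal (Set.toFinite {A : Subgroup E | fixBy α A ≠ ⊥})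
      ⟨⊥, fun h => htriv (eq_bot_iff.2 fun x _ => h.le (show x ∈ fixBy α ⊥ from fun a ha => by
        rw [Subgroup.mem_bot.1 ha, map_one]; rfl))⟩
    exact ⟨A, hA.1, fun B hB => by_contra fun h => hB.not_ge (hA.2 h hB.le)⟩
  have hAtop : A ≠ ⊤ := fun h => hA (h ▸ hfix)
  -- outside the maximal subgroup everything inverts
  have hinv : ∀ e, e ∉ A → ∀ x ∈ fixBy α A, α e x = x⁻¹ := by
    intro e he x hx
    let φ : ↥(fixBy α A) →* ↥(fixBy α A) :=
      ((α e).toMonoidHom.comp (fixBy α A).subtype).codRestrict _ fun y => fixBy_inv α A e y.2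
    have hφ : MonoidHom.FixedPointFree φ := fun y hy => by
      refine Subtype.ext (Subgroup.mem_bot.1 ((hmax _ (lt_of_le_of_ne le_sup_left fun h => he (h ▸
        Subgroup.mem_sup_right (Subgroup.mem_zpowers e)))).le ?_))
      have hy' : α e y.1 = y.1 := congrArg Subtype.val hy
      intro a ha
      obtain ⟨b, hb, c, hc, rfl⟩ := Subgroup.mem_sup.1 ha
      obtain ⟨n, rfl⟩ := Subgroup.mem_zpowers_iff.1 hc
      rw [map_mul, MulAut.mul_apply]
      have hz : α (e ^ n) y.1 = y.1 := by
        rcases Int.even_or_odd n with ⟨r, rfl⟩ | ⟨r, rfl⟩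
        · rw [zpow_add, ← mul_zpow, hE, one_zpow, map_one]; rfl
        · rw [show 2 * r + 1 = r + r + 1 by ring, zpow_add, zpow_add, ← mul_zpow, hE, one_zpow, one_mul, zpow_one, hy']
      rw [hz, y.2 b hb]
    have h2 : Function.Involutive φ := fun y => Subtype.ext (by
      show α e (α e y.1) = y.1
      rw [← MulAut.mul_apply, ← map_mul, hE, map_one]; rfl)
    exact congrArg Subtype.val (congrFun (MonoidHom.FixedPointFree.coe_eq_inv_of_involutive hφ h2) ⟨x, hx⟩)
  have hidx : A.index = 2 := by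
    rw [Subgroup.index_eq_two_iff]
    obtain ⟨e, he⟩ : ∃ e, e ∉ A := by
      by_contra h
      push Not at h
      exact hAtop (eq_top_iff.2 fun x _ => h x)
    refine ⟨e, fun f => ?_⟩
    by_cases hf : f ∈ A
    · exact Or.inr ⟨hf, fun h => he ((Subgroup.mul_mem_cancel_left A hf).1 h)⟩
    · refine Or.inl ⟨?_, hf⟩
      by_contra hfe
      refine hA ((Subgroup.eq_bot_iff_forall _).2 fun x hx => ?_)
      have h1 := hinv _ hfe x hx
      rw [map_mul, MulAut.mul_apply, hinv e he x hx, map_inv, hinv f hf x hx, inv_inv] at h1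
      have h2 : fixBy α (A ⊔ Subgroup.zpowers f) = ⊥ := hmax _ (lt_of_le_of_ne le_sup_left fun h => hf (h ▸
        Subgroup.mem_sup_right (Subgroup.mem_zpowers f)))
      refine Subgroup.mem_bot.1 (h2.le fun a ha => ?_)
      obtain ⟨b, hb, c, hc, rfl⟩ := Subgroup.mem_sup.1 ha
      obtain ⟨n, rfl⟩ := Subgroup.mem_zpowers_iff.1 hc
      rw [map_mul, MulAut.mul_apply]
      have hfx : α f x = x := by rw [hinv f hf x hx, ← h1]
      have hz : α (f ^ n) x = x := by
        rcases Int.even_or_odd n with ⟨r, rfl⟩ | ⟨r, rfl⟩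
        · rw [zpow_add, ← mul_zpow, hE, one_zpow, map_one]; rfl
        · rw [show 2 * r + 1 = r + r + 1 by ring, zpow_add, zpow_add, ← mul_zpow, hE, one_zpow, one_mul, zpow_one, hfx]
      rw [hz, hx b hb]
  refine ⟨?_, Or.inr ⟨A, hidx, ?_⟩⟩
  · by_contra hodd
    rw [Nat.not_odd_iff_even] at hodd
    haveI := Fintype.ofFinite H
    haveI : Fact (Nat.Prime 2) := ⟨Nat.prime_two⟩
    -- the solutions of x² = 1 form an even set permuted by the operators
    letI : MulAction E {x : H // x * x = 1} :=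
      { smul := fun e x => ⟨α e x.1, by rw [← map_mul, x.2, map_one]⟩
        one_smul := fun x => Subtype.ext (by show α 1 x.1 = x.1; rw [map_one]; rfl)
        mul_smul := fun a b x => Subtype.ext (by show α (a * b) x.1 = α a (α b x.1); rw [map_mul]; rfl) }
    have hp : IsPGroup 2 E := fun g => ⟨1, by rw [pow_one, pow_two, hE]⟩
    have h1 := hp.card_modEq_card_fixedPoints {x : H // x * x = 1}
    have hfp : Nat.card ↥(MulAction.fixedPoints E {x : H // x * x = 1}) = 1 := by
      rw [Nat.card_eq_one_iff_unique]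
      refine ⟨⟨fun u v => Subtype.ext (Subtype.ext ?_)⟩,
        ⟨⟨1, by simp⟩, fun e => Subtype.ext (map_one (α e))⟩⟩
      have : ∀ w : ↥(MulAction.fixedPoints E {x : H // x * x = 1}), w.1.1 = 1 := fun w =>
        Subgroup.mem_bot.1 (hfix.le fun e _ => congrArg Subtype.val (w.2 e))
      rw [this u, this v]
    have heven : Even (Nat.card {x : H // x * x = 1}) := by
      have h3 := Equiv.Perm.card_fixedPoints_modEq (α := H) (f := fun x : H => x⁻¹) (p := 2) (n := 1)
        (funext fun x => inv_inv x)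
      have e1 : Fintype.card ↥(Function.fixedPoints fun x : H => x⁻¹) = Nat.card {x : H // x * x = 1} := by
        rw [← Nat.card_eq_fintype_card]
        exact Nat.card_congr (Equiv.subtypeEquivRight fun x => inv_eq_iff_mul_eq_one)
      rw [e1] at h3
      rw [Nat.card_eq_fintype_card] at hodd
      unfold Nat.ModEq at h3
      rw [Nat.even_iff.1 hodd] at h3
      exact Nat.even_iff.2 h3.symm
    rw [hfp] at h1
    unfold Nat.ModEq at h1
    rw [Nat.even_iff.1 heven] at h1
    omega
  · by_contra h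
    push Not at h
    exact hA ((Subgroup.eq_bot_iff_forall _).2 fun x hx => by_contra fun hx1 => h x hx1 hx)

/-- Outside a central subgroup, some element of odd order is fixed modulo it by a hyperplane of operators. -/
theorem exists_index_two {H : Type*} [Group H] [Finite H] (α : E →* MulAut H) (hE : ∀ e : E, e * e = 1)
    (N : Subgroup H) (hc : N ≤ Subgroup.center H) (hN : ∀ e, ∀ x ∈ N, α e x ∈ N)
    (hfix : ∀ x, (∀ e, ∃ z ∈ N, α e x = x * z) → x ∈ N) (hne : N ≠ ⊤) :
    ∃ A : Subgroup E, A.index = 2 ∧ ∃ x : H, x ∉ N ∧ Odd (orderOf x) ∧ ∀ a ∈ A, ∃ z ∈ N, α a x = x * z := by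
  haveI : N.Normal := ⟨fun x hx h => by rw [Subgroup.mem_center_iff.1 (hc hx) h, mul_inv_cancel_right]; exact hx⟩
  have hmap : ∀ e, N.map (α e : H →* H) = N := fun e => by
    refine le_antisymm (fun y ⟨x, hx, h⟩ => h ▸ hN e x hx) fun y hy => ⟨α e y, hN e y hy, ?_⟩
    show α e (α e y) = y
    rw [← MulAut.mul_apply, ← map_mul, hE, map_one]; rfl
  let β : E →* MulAut (H ⧸ N) :=
    { toFun := fun e => QuotientGroup.congr N N (α e) (hmap e)
      map_one' := MulEquiv.ext fun x => by
        induction x using QuotientGroup.induction_on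
        show QuotientGroup.congr N N (α 1) _ _ = _
        rw [QuotientGroup.congr_mk]
        simp
      map_mul' := fun a b => MulEquiv.ext fun x => by
        induction x using QuotientGroup.induction_on
        rw [MulAut.mul_apply]
        show QuotientGroup.congr N N (α (a * b)) _ _ = QuotientGroup.congr N N (α a) _ (QuotientGroup.congr N N (α b) _ _)
        rw [QuotientGroup.congr_mk, QuotientGroup.congr_mk, QuotientGroup.congr_mk]
        simp }
  have hβ : ∀ e (x : H), β e (x : H ⧸ N) = ((α e x : H) : H ⧸ N) := fun e x =>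
    QuotientGroup.congr_mk N N (α e) (hmap e) x
  have hz : ∀ e (x : H), β e (x : H ⧸ N) = (x : H ⧸ N) ↔ ∃ z ∈ N, α e x = x * z := fun e x => by
    rw [hβ, eq_comm, QuotientGroup.eq]
    exact ⟨fun h => ⟨_, h, (mul_inv_cancel_left x _).symm⟩, fun ⟨z, hz, h⟩ => by rw [h, inv_mul_cancel_left]; exact hz⟩
  obtain ⟨hodd, h⟩ := fpf_core β hE ((Subgroup.eq_bot_iff_forall _).2 fun y hy => by
    induction y using QuotientGroup.induction_on with
    | _ x => exact (QuotientGroup.eq_one_iff x).2 (hfix x fun e => (hz e x).1 (hy e (Subgroup.mem_top e))))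
  rcases h with h | ⟨A, hA, y, hy1, hy⟩
  · exact absurd (eq_top_iff.2 fun x _ => (QuotientGroup.eq_one_iff x).1
      (Subgroup.mem_bot.1 (h.le (Subgroup.mem_top (x : H ⧸ N))))) hne
  obtain ⟨x, rfl⟩ := QuotientGroup.mk_surjective y
  obtain ⟨r, n, hn, hrn⟩ := Nat.exists_eq_pow_mul_and_not_dvd (orderOf_pos x).ne' 2 (by norm_num)
  refine ⟨A, hA, x ^ (2 ^ r), fun h => hy1 ?_, ?_, fun a ha => (hz a _).1 ?_⟩
  · have h' : ((x : H ⧸ N)) ^ (2 ^ r) = 1 := by rw [← QuotientGroup.mk_pow]; exact (QuotientGroup.eq_one_iff _).2 h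
    have hco : Nat.Coprime (2 ^ r) (Nat.card (H ⧸ N)) := (Nat.coprime_two_left.2 hodd).pow_left r
    rw [← orderOf_eq_one_iff]
    exact Nat.eq_one_of_dvd_coprimes hco (orderOf_dvd_of_pow_eq_one h') (orderOf_dvd_natCard _)
  · rw [orderOf_pow_of_dvd (by positivity) ⟨n, hrn⟩, hrn, Nat.mul_div_cancel_left _ (by positivity)]
    exact Nat.odd_iff.2 (Nat.two_dvd_ne_zero.1 hn)
  · rw [QuotientGroup.mk_pow, map_pow, hy a ha]

/-- Lifting of fixed points: an element of odd order moved only by a central involution is fixed. -/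
theorem eq_self_of_odd {H : Type*} [Group H] {x z : H} (hxz : Commute x z) (hx : Odd (orderOf x)) (β : MulAut H)
    (hb : β x = x * z) (h2 : z * z = 1) : β x = x := by
  rw [hb]
  have hn : (x * z) ^ orderOf x = 1 := by rw [← hb, ← map_pow, pow_orderOf_eq_one, map_one]
  rw [hxz.mul_pow, pow_orderOf_eq_one, one_mul] at hn
  obtain ⟨r, hr⟩ := hx
  rw [hr, pow_succ, pow_mul, pow_two, h2, one_pow, one_mul] at hn
  rw [hn, mul_one]

end Cfsg.Agent.Classical.OTPow
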