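/-
Pure tensors, slot algebras and the stabiliser of a tensor decomposition over an arbitrary finite set of slots.
-/
import Cfsg.Agent.Lib.Classical.TensorPowerMax.Basic

set_option autoImplicit false
set_option linter.unusedSectionVars false

namespace Cfsg.Agent.Classical.OTPow

open Matrix
open Cfsg.Agent.Classical

variable {F : Type*} [Field F] {k : ℕ} {σ : Type} [Fintype σ] [DecidableEq σ]

/-- The tensor product of a family of matrices. -/
def pureS (A : σ → Matrix (Fin k) (Fin k) F) : Matrix (σ → Fin k) (σ → Fin k) F :=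
  Matrix.of fun a b => ∏ l, A l (a l) (b l)

theorem pureS_apply (A : σ → Matrix (Fin k) (Fin k) F) (a b : σ → Fin k) : pureS A a b = ∏ l, A l (a l) (b l) := rfl

theorem pureS_mul (A B : σ → Matrix (Fin k) (Fin k) F) : pureS A * pureS B = pureS fun l => A l * B l := by
  ext a b
  simp only [pureS, Matrix.mul_apply, Matrix.of_apply, ← Finset.prod_mul_distrib]
  rw [Finset.prod_univ_sum, Fintype.piFinset_univ]

theorem pureS_one : pureS (fun _ : σ => (1 : Matrix (Fin k) (Fin k) F)) = 1 := by
  ext a b
  simp only [pureS, Matrix.of_apply]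
  by_cases h : a = b
  · subst h; simp
  · obtain ⟨l, hl⟩ := Function.ne_iff.mp h
    rw [Matrix.one_apply_ne h]
    exact Finset.prod_eq_zero (Finset.mem_univ l) (Matrix.one_apply_ne hl)

theorem pureS_transpose (A : σ → Matrix (Fin k) (Fin k) F) : (pureS A)ᵀ = pureS fun l => (A l)ᵀ := rfl

theorem pureS_diagonal (v : σ → Fin k → F) :
    pureS (fun l => Matrix.diagonal (v l)) = Matrix.diagonal fun a => ∏ l, v l (a l) := by
  ext a b
  rw [pureS_apply]
  by_cases h : a = b
  · subst h; simp
  · obtain ⟨l, hl⟩ := Function.ne_iff.mp h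
    rw [Matrix.diagonal_apply_ne _ h]
    exact Finset.prod_eq_zero (Finset.mem_univ l) (Matrix.diagonal_apply_ne _ hl)

theorem pureS_smul (c : σ → F) (A : σ → Matrix (Fin k) (Fin k) F) :
    (pureS fun l => c l • A l) = (∏ l, c l) • pureS A := by
  ext a b
  simp [pureS, Finset.prod_mul_distrib]

/-- A matrix acting on one slot. -/
def facS (l : σ) (Y : Matrix (Fin k) (Fin k) F) : Matrix (σ → Fin k) (σ → Fin k) F :=
  pureS (Function.update (fun _ => 1) l Y)

theorem facS_apply (l : σ) (Y : Matrix (Fin k) (Fin k) F) (a b : σ → Fin k) :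
    facS l Y a b = if ∀ j, j ≠ l → a j = b j then Y (a l) (b l) else 0 := by
  simp only [facS, pureS, Matrix.of_apply]
  rw [← Finset.mul_prod_erase Finset.univ _ (Finset.mem_univ l), Function.update_self]
  split_ifs with h
  · rw [Finset.prod_eq_one fun j hj => ?_, mul_one]
    rw [Function.update_of_ne (Finset.ne_of_mem_erase hj), h j (Finset.ne_of_mem_erase hj), Matrix.one_apply_eq]
  · push Not at h
    obtain ⟨j, hjl, hj⟩ := h
    rw [Finset.prod_eq_zero (Finset.mem_erase.mpr ⟨hjl, Finset.mem_univ j⟩), mul_zero]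
    rw [Function.update_of_ne hjl, Matrix.one_apply_ne hj]

theorem facS_apply_update (l : σ) (Y : Matrix (Fin k) (Fin k) F) (a : σ → Fin k) (u v : Fin k) :
    facS l Y (Function.update a l u) (Function.update a l v) = Y u v := by
  rw [facS_apply, if_pos (fun j hj => by rw [Function.update_of_ne hj, Function.update_of_ne hj]),
    Function.update_self, Function.update_self]

theorem mul_facS_apply (G : Matrix (σ → Fin k) (σ → Fin k) F) (l : σ) (Y : Matrix (Fin k) (Fin k) F)
    (a b : σ → Fin k) : (G * facS l Y) a b = ∑ c, G a (Function.update b l c) * Y c (b l) := by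
  classical
  rw [Matrix.mul_apply, ← Finset.sum_subset (Finset.subset_univ (Finset.univ.image (Function.update b l)))]
  · rw [Finset.sum_image (fun u _ v _ h => by simpa using congrFun h l)]
    refine Finset.sum_congr rfl fun c _ => ?_
    rw [facS_apply, if_pos fun j hj => Function.update_of_ne hj _ _, Function.update_self]
  · intro z _ hz
    rw [facS_apply, if_neg fun h => hz ?_, mul_zero]
    exact Finset.mem_image.mpr ⟨z l, Finset.mem_univ _, funext fun j => by
      rcases eq_or_ne j l with rfl | hj
      · rw [Function.update_self]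
      · rw [Function.update_of_ne hj, h j hj]⟩

theorem facS_mul_apply (G : Matrix (σ → Fin k) (σ → Fin k) F) (l : σ) (Y : Matrix (Fin k) (Fin k) F)
    (a b : σ → Fin k) : (facS l Y * G) a b = ∑ c, Y (a l) c * G (Function.update a l c) b := by
  classical
  rw [Matrix.mul_apply, ← Finset.sum_subset (Finset.subset_univ (Finset.univ.image (Function.update a l)))]
  · rw [Finset.sum_image (fun u _ v _ h => by simpa using congrFun h l)]
    refine Finset.sum_congr rfl fun c _ => ?_
    rw [facS_apply, if_pos fun j hj => (Function.update_of_ne hj _ _).symm, Function.update_self]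
  · intro z _ hz
    rw [facS_apply, if_neg fun h => hz ?_, zero_mul]
    exact Finset.mem_image.mpr ⟨z l, Finset.mem_univ _, funext fun j => by
      rcases eq_or_ne j l with rfl | hj
      · rw [Function.update_self]
      · rw [Function.update_of_ne hj, h j hj]⟩

theorem facS_one (l : σ) : facS l (1 : Matrix (Fin k) (Fin k) F) = 1 := by
  rw [facS, Function.update_eq_self, pureS_one]

theorem facS_mul (l : σ) (A B : Matrix (Fin k) (Fin k) F) : facS l A * facS l B = facS l (A * B) := by
  rw [facS, facS, pureS_mul, facS]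
  congr 1
  funext j
  rcases eq_or_ne j l with rfl | hj
  · simp
  · simp [Function.update_of_ne hj]

theorem facS_add (l : σ) (A B : Matrix (Fin k) (Fin k) F) : facS l (A + B) = facS l A + facS l B := by
  ext a b
  simp only [Matrix.add_apply, facS_apply]
  split_ifs <;> simp

theorem facS_smul (l : σ) (c : F) (A : Matrix (Fin k) (Fin k) F) : facS l (c • A) = c • facS l A := by
  ext a b
  simp only [Matrix.smul_apply, facS_apply]
  split_ifs <;> simp

theorem facS_commute {l m : σ} (h : l ≠ m) (A B : Matrix (Fin k) (Fin k) F) :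
    facS l A * facS m B = facS m B * facS l A := by
  rw [facS, facS, pureS_mul, pureS_mul]
  congr 1
  funext j
  rcases eq_or_ne j l with rfl | hj
  · rw [Function.update_of_ne h, Matrix.mul_one, Matrix.one_mul]
  · rw [Function.update_of_ne hj, Matrix.mul_one, Matrix.one_mul]

theorem facS_diagonal (l : σ) (v : Fin k → F) :
    facS l (Matrix.diagonal v) = Matrix.diagonal fun a : σ → Fin k => v (a l) := by
  ext a b
  rw [facS_apply]
  rcases eq_or_ne a b with rfl | h
  · simp
  · rw [Matrix.diagonal_apply_ne _ h]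
    split_ifs with h'
    · refine Matrix.diagonal_apply_ne _ fun e => h (funext fun j => ?_)
      rcases eq_or_ne j l with rfl | hj
      · exact e
      · exact h' j hj
    · rfl

theorem facS_inj [NeZero k] (l : σ) {A B : Matrix (Fin k) (Fin k) F} (h : facS l A = facS l B) : A = B := by
  ext u v
  have := congrFun (congrFun h (Function.update (fun _ => 0) l u)) (Function.update (fun _ => 0) l v)
  rwa [facS_apply_update, facS_apply_update] at this

/-- Two slot algebras meet in the scalars. -/
theorem facS_eq_facS [NeZero k] {l m : σ} (h : l ≠ m) {A B : Matrix (Fin k) (Fin k) F}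
    (e : facS l A = facS m B) : ∃ c : F, A = c • 1 := by
  refine ⟨B 0 0, Matrix.ext fun u v => ?_⟩
  have := congrFun (congrFun e (Function.update (fun _ => 0) l u)) (Function.update (fun _ => 0) l v)
  rw [facS_apply_update, facS_apply, Function.update_of_ne h.symm, Function.update_of_ne h.symm] at this
  rw [this]
  rcases eq_or_ne u v with rfl | huv
  · rw [if_pos fun j _ => rfl, Matrix.smul_apply, Matrix.one_apply_eq, smul_eq_mul, mul_one]
  · rw [if_neg fun hh => huv (by simpa using hh l h), Matrix.smul_apply, Matrix.one_apply_ne huv, smul_zero]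

/-- The invertible pure tensor. -/
def pureG : (σ → GL (Fin k) F) →* GL (σ → Fin k) F where
  toFun A :=
    { val := pureS fun l => (A l : Matrix (Fin k) (Fin k) F)
      inv := pureS fun l => (((A l)⁻¹ : GL (Fin k) F) : Matrix (Fin k) (Fin k) F)
      val_inv := by rw [pureS_mul]; simp only [Units.mul_inv]; exact pureS_one
      inv_val := by rw [pureS_mul]; simp only [Units.inv_mul]; exact pureS_one }
  map_one' := Units.ext (by simp only [Pi.one_apply, Units.val_one]; exact pureS_one)
  map_mul' A B := Units.ext (by simp only [Pi.mul_apply, Units.val_mul, pureS_mul])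

theorem pureG_val (A : σ → GL (Fin k) F) :
    (pureG A : Matrix (σ → Fin k) (σ → Fin k) F) = pureS fun l => (A l : Matrix (Fin k) (Fin k) F) := rfl

/-- An element of one slot. -/
def facG (l : σ) : GL (Fin k) F →* GL (σ → Fin k) F :=
  pureG.comp (MonoidHom.mulSingle (fun _ : σ => GL (Fin k) F) l)

theorem facG_val (l : σ) (a : GL (Fin k) F) :
    (facG l a : Matrix (σ → Fin k) (σ → Fin k) F) = facS l (a : Matrix (Fin k) (Fin k) F) := by
  rw [facS]
  show pureS _ = _
  congr 1
  funext j
  rcases eq_or_ne j l with rfl | hj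
  · simp
  · simp [Function.update_of_ne hj, Pi.mulSingle_eq_of_ne hj]

theorem facG_commute {l m : σ} (h : l ≠ m) (a b : GL (Fin k) F) : Commute (facG l a) (facG m b) :=
  Units.ext (by rw [Units.val_mul, Units.val_mul, facG_val, facG_val, facS_commute h])

theorem facG_inj [NeZero k] (l : σ) : Function.Injective (facG (F := F) (k := k) l) := fun a b h => by
  refine Units.ext (facS_inj l ?_)
  rw [← facG_val, ← facG_val, h]

/-- The permutation of the slots. -/
def permS (k : ℕ) (F : Type*) [Field F] (π : Equiv.Perm σ) : Matrix (σ → Fin k) (σ → Fin k) F :=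
  Matrix.of fun a b => if b = a ∘ π then 1 else 0

theorem permS_mul_apply (π : Equiv.Perm σ) (G : Matrix (σ → Fin k) (σ → Fin k) F) (a b : σ → Fin k) :
    (permS k F π * G) a b = G (a ∘ π) b := by
  simp [permS, Matrix.mul_apply]

theorem mul_permS_apply (π : Equiv.Perm σ) (G : Matrix (σ → Fin k) (σ → Fin k) F) (a b : σ → Fin k) :
    (G * permS k F π) a b = G a (b ∘ π.symm) := by
  simp only [Matrix.mul_apply, permS, Matrix.of_apply, mul_ite, mul_one, mul_zero]
  rw [Finset.sum_eq_single (b ∘ π.symm) (fun z _ hz => if_neg fun e => hz (by rw [e]; ext; simp))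
    (fun h => absurd (Finset.mem_univ _) h)]
  exact if_pos (by ext; simp)

theorem permS_mul (π τ : Equiv.Perm σ) : permS k F π * permS k F τ = permS k F (π * τ) := by
  ext a b
  rw [permS_mul_apply]
  rfl

theorem permS_one : permS k F (1 : Equiv.Perm σ) = 1 := by
  ext a b
  simp [permS, Matrix.one_apply, eq_comm]

/-- The invertible slot permutation. -/
def permG (k : ℕ) (F : Type*) [Field F] : Equiv.Perm σ →* GL (σ → Fin k) F where
  toFun π := ⟨permS k F π, permS k F π⁻¹,
    by rw [permS_mul, mul_inv_cancel, permS_one], by rw [permS_mul, inv_mul_cancel, permS_one]⟩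
  map_one' := Units.ext permS_one
  map_mul' π τ := Units.ext (permS_mul π τ).symm

theorem permG_val (π : Equiv.Perm σ) : (permG k F π : Matrix (σ → Fin k) (σ → Fin k) F) = permS k F π := rfl

theorem permS_pureS (π : Equiv.Perm σ) (A : σ → Matrix (Fin k) (Fin k) F) :
    permS k F π * pureS A = pureS (fun l => A (π.symm l)) * permS k F π := by
  ext a b
  rw [permS_mul_apply, mul_permS_apply]
  simp only [pureS, Matrix.of_apply, Function.comp_apply]
  rw [← Equiv.prod_comp π.symm]
  simp

theorem perm_pure (π : Equiv.Perm σ) (A : σ → GL (Fin k) F) :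
    permG k F π * pureG A = pureG (fun l => A (π.symm l)) * permG k F π :=
  Units.ext (permS_pureS π fun l => (A l : Matrix (Fin k) (Fin k) F))

theorem permS_facS (π : Equiv.Perm σ) (l : σ) (Y : Matrix (Fin k) (Fin k) F) :
    permS k F π * facS l Y = facS (π l) Y * permS k F π := by
  rw [facS, permS_pureS, facS]
  congr 2
  funext j
  rcases eq_or_ne j (π l) with rfl | hj
  · simp
  · rw [Function.update_of_ne hj, Function.update_of_ne fun e => hj (by rw [← e, Equiv.apply_symm_apply])]

/-- The stabiliser of the decomposition. -/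
def Std (F : Type*) [Field F] (k : ℕ) (σ : Type) [Fintype σ] [DecidableEq σ] : Subgroup (GL (σ → Fin k) F) where
  carrier := {g | ∃ (A : σ → GL (Fin k) F) (π : Equiv.Perm σ), g = pureG A * permG k F π}
  one_mem' := ⟨1, 1, by rw [map_one, map_one, mul_one]⟩
  mul_mem' := by
    rintro g h ⟨A, π, rfl⟩ ⟨B, τ, rfl⟩
    refine ⟨A * fun l => B (π.symm l), π * τ, ?_⟩
    rw [map_mul, map_mul, mul_assoc, ← mul_assoc _ (pureG B), perm_pure]
    simp only [mul_assoc]
  inv_mem' := by
    rintro g ⟨A, π, rfl⟩
    refine ⟨fun l => (A (π l))⁻¹, π⁻¹, ?_⟩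
    rw [_root_.mul_inv_rev, ← map_inv, ← map_inv, perm_pure]
    rfl

theorem mem_std {g : GL (σ → Fin k) F} :
    g ∈ Std F k σ ↔ ∃ (A : σ → GL (Fin k) F) (π : Equiv.Perm σ), g = pureG A * permG k F π := Iff.rfl

theorem pureG_mem (A : σ → GL (Fin k) F) : pureG A ∈ Std F k σ := ⟨A, 1, by rw [map_one, mul_one]⟩

theorem facG_mem (l : σ) (a : GL (Fin k) F) : facG l a ∈ Std F k σ := pureG_mem _

theorem permG_mem (π : Equiv.Perm σ) : permG k F π ∈ Std F k σ := ⟨1, π, by rw [map_one, one_mul]⟩

/-- Conjugation of a slot matrix by a standard element. -/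
theorem std_facS (A : σ → GL (Fin k) F) (π : Equiv.Perm σ) (l : σ) (Y : Matrix (Fin k) (Fin k) F) :
    ((pureG A * permG k F π : GL (σ → Fin k) F) : Matrix (σ → Fin k) (σ → Fin k) F) * facS l Y =
      facS (π l) ((A (π l) : Matrix (Fin k) (Fin k) F) * Y * (((A (π l))⁻¹ : GL (Fin k) F) : Matrix (Fin k) (Fin k) F)) *
        ((pureG A * permG k F π : GL (σ → Fin k) F) : Matrix (σ → Fin k) (σ → Fin k) F) := by
  have key : pureS (fun j => (A j : Matrix (Fin k) (Fin k) F)) * facS (π l) Y =
      facS (π l) ((A (π l) : Matrix (Fin k) (Fin k) F) * Y * (((A (π l))⁻¹ : GL (Fin k) F) : Matrix (Fin k) (Fin k) F)) *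
        pureS (fun j => (A j : Matrix (Fin k) (Fin k) F)) := by
    rw [facS, facS, pureS_mul, pureS_mul]
    congr 1
    funext j
    rcases eq_or_ne j (π l) with rfl | hj
    · rw [Function.update_self, Function.update_self, Matrix.mul_assoc _ _ (A (π l) : Matrix (Fin k) (Fin k) F),
        Units.inv_mul, Matrix.mul_one]
    · rw [Function.update_of_ne hj, Function.update_of_ne hj, Matrix.mul_one, Matrix.one_mul]
  rw [Units.val_mul, pureG_val, permG_val, Matrix.mul_assoc, permS_facS, ← Matrix.mul_assoc, key, Matrix.mul_assoc]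

theorem std_facG (A : σ → GL (Fin k) F) (π : Equiv.Perm σ) (l : σ) (a : GL (Fin k) F) :
    (pureG A * permG k F π) * facG l a * (pureG A * permG k F π)⁻¹ = facG (π l) (A (π l) * a * (A (π l))⁻¹) := by
  refine mul_inv_eq_iff_eq_mul.2 (Units.ext ?_)
  rw [Units.val_mul, facG_val, std_facS, Units.val_mul (facG _ _), facG_val]
  rfl

/-- Matrices normalising each slot algebra are pure tensors. -/
theorem exists_pureG [Nonempty σ] (hk : 0 < k) (g : GL (σ → Fin k) F)
    (h : ∀ l Y, ∃ Y', (g : Matrix (σ → Fin k) (σ → Fin k) F) * facS l Y =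
      facS l Y' * (g : Matrix (σ → Fin k) (σ → Fin k) F)) : ∃ A, g = pureG A := by
  classical
  obtain ⟨e⟩ : Nonempty (σ ≃ Fin (Fintype.card σ)) := ⟨Fintype.equivFin σ⟩
  obtain ⟨E, hE⟩ : ∃ E : (σ → Fin k) ≃ (Fin (Fintype.card σ) → Fin k), E = Equiv.arrowCongr e (Equiv.refl _) :=
    ⟨_, rfl⟩
  have hp : ∀ B : σ → Matrix (Fin k) (Fin k) F,
      Matrix.reindex E E (pureS B) = pureM fun i => B (e.symm i) := fun B => by
    ext x y
    simp only [Matrix.reindex_apply, Matrix.submatrix_apply, pureS_apply, pureM, Matrix.of_apply, hE]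
    rw [← e.prod_comp]
    simp [Equiv.arrowCongr]
  have hf : ∀ l Y, Matrix.reindex E E (facS (F := F) (k := k) l Y) = facM (e l) Y := fun l Y => by
    rw [facS, hp, facM]
    congr 1
    funext i
    rcases eq_or_ne i (e l) with rfl | hi
    · simp
    · rw [Function.update_of_ne hi, Function.update_of_ne fun h' => hi (by rw [← h', Equiv.apply_symm_apply])]
  obtain ⟨A, hA⟩ := exists_pure_of_normalises (F := F) (G := Matrix.reindex E E (g : Matrix _ _ F)) Fintype.card_pos hk
    ((g.isUnit).map (Matrix.reindexAlgEquiv F F E)) fun i Y => by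
      obtain ⟨Y', hY⟩ := h (e.symm i) Y
      refine ⟨Y', ?_⟩
      have := congrArg (Matrix.reindex E E) hY
      simp only [Matrix.reindex_apply] at this hf ⊢
      rw [← Matrix.submatrix_mul_equiv _ _ _ E.symm, ← Matrix.submatrix_mul_equiv _ _ _ E.symm, hf, hf] at this
      simpa using this
  refine ⟨fun l => A (e l), Units.ext ((Matrix.reindex E E).injective ?_)⟩
  rw [hA, pureG_val, hp]
  simp

/-- Matrices permuting the slot algebras are standard. -/
theorem mem_std_of_conj [Nonempty σ] (hk : 2 ≤ k) (g : GL (σ → Fin k) F)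
    (h : ∀ l, ∃ m, ∀ Y, ∃ Y', (g : Matrix (σ → Fin k) (σ → Fin k) F) * facS l Y =
      facS m Y' * (g : Matrix (σ → Fin k) (σ → Fin k) F)) : g ∈ Std F k σ := by
  classical
  haveI : NeZero k := ⟨by omega⟩
  choose m hm using h
  have hinj : Function.Injective m := by
    intro l l' he
    by_contra hne
    choose φ hφ using hm l
    choose ψ hψ using hm l'
    have hu := g.isUnit
    have φinj : Function.Injective φ := fun Y Z e' => facS_inj l (hu.mul_left_cancel (by rw [hφ, hφ, e']))
    have φlin : IsLinearMap F φ :=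
      { map_add := fun Y Z => facS_inj (m l) (hu.mul_right_cancel (by
          rw [← hφ, facS_add, facS_add, Matrix.mul_add, Matrix.add_mul, hφ, hφ]))
        map_smul := fun c Y => facS_inj (m l) (hu.mul_right_cancel (by
          rw [← hφ, facS_smul, facS_smul, Matrix.mul_smul, Matrix.smul_mul, hφ])) }
    have φsurj : Function.Surjective φ := (LinearMap.injective_iff_surjective (f := φlin.mk' φ)).1 φinj
    -- the image of the other slot is central in this slot algebra
    have hc : ∀ Z, ∃ c : F, Z = c • (1 : Matrix (Fin k) (Fin k) F) := fun Z => by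
      have hcomm : ∀ Y, ψ Z * φ Y = φ Y * ψ Z := fun Y => facS_inj (m l) (hu.mul_right_cancel (by
        rw [← facS_mul, ← facS_mul, Matrix.mul_assoc, ← hφ, ← Matrix.mul_assoc]
        nth_rewrite 1 [he]
        rw [← hψ, Matrix.mul_assoc, facS_commute (Ne.symm hne), ← Matrix.mul_assoc, hφ, Matrix.mul_assoc, hψ, ← he,
          ← Matrix.mul_assoc]))
      obtain ⟨c, hc⟩ : ψ Z ∈ Set.range (Matrix.scalar (Fin k) : F →+* _) :=
        Matrix.mem_range_scalar_iff_commute_single.2 fun i j _ => by
          obtain ⟨Y, hY⟩ := φsurj (Matrix.single i j 1)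
          exact hY ▸ (hcomm Y).symm
      refine ⟨c, facS_inj l' (hu.mul_left_cancel ?_)⟩
      rw [hψ, ← hc, Matrix.scalar_apply, ← Matrix.smul_one_eq_diagonal, facS_smul, facS_smul, facS_one, facS_one,
        Matrix.smul_mul, Matrix.mul_smul, Matrix.one_mul, Matrix.mul_one]
    obtain ⟨c, hc⟩ := hc (Matrix.single ⟨0, by omega⟩ ⟨1, by omega⟩ 1)
    simpa [Matrix.single_apply, Matrix.one_apply, Fin.ext_iff] using
      congrFun (congrFun hc ⟨0, by omega⟩) ⟨1, by omega⟩
  obtain ⟨π, hπ⟩ : ∃ π : Equiv.Perm σ, π = Equiv.ofBijective m (Finite.injective_iff_bijective.1 hinj) := ⟨_, rfl⟩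
  have hπm : ∀ l, π l = m l := fun l => by rw [hπ]; rfl
  obtain ⟨A, hA⟩ := exists_pureG (by omega) ((permG k F π)⁻¹ * g) fun l Y => by
    obtain ⟨Y', hY⟩ := hm l Y
    refine ⟨Y', ?_⟩
    rw [Units.val_mul, Matrix.mul_assoc, hY, ← Matrix.mul_assoc, ← Matrix.mul_assoc, ← map_inv, permG_val, permS_facS,
      ← hπm]
    simp
  rw [show g = permG k F π * pureG A by rw [← hA, mul_inv_cancel_left]]
  exact mul_mem (permG_mem π) (pureG_mem A)

end Cfsg.Agent.Classical.OTPow
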