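/-
Diagonal forms on tensor powers: isometries, sign groups of the slots, and blocks with respect to a set of slots.
-/
import Cfsg.Agent.Lib.Classical.OTPow.Tensor

set_option autoImplicit false
set_option linter.unusedSectionVars false

namespace Cfsg.Agent.Classical.OTPow

open Matrix

variable {F : Type*} [Field F] {k : ℕ} {σ : Type} [Fintype σ] [DecidableEq σ]

/-- The isometries of a diagonal form. -/
def IsoD {ι : Type*} [Fintype ι] [DecidableEq ι] (w : ι → F) : Subgroup (GL ι F) where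
  carrier := {g | (g : Matrix ι ι F)ᵀ * Matrix.diagonal w * (g : Matrix ι ι F) = Matrix.diagonal w}
  one_mem' := by simp
  mul_mem' := by
    intro g h (hg : _ = _) (hh : _ = _)
    show _ = _
    rw [Units.val_mul, Matrix.transpose_mul]
    calc (h : Matrix ι ι F)ᵀ * (g : Matrix ι ι F)ᵀ * Matrix.diagonal w * ((g : Matrix ι ι F) * (h : Matrix ι ι F))
        = (h : Matrix ι ι F)ᵀ * ((g : Matrix ι ι F)ᵀ * Matrix.diagonal w * (g : Matrix ι ι F)) * (h : Matrix ι ι F) := by
          simp only [Matrix.mul_assoc]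
      _ = _ := by rw [hg, hh]
  inv_mem' := by
    intro g (hg : _ = _)
    show _ = _
    conv_lhs => rw [← hg]
    simp only [← Matrix.mul_assoc, ← Matrix.transpose_mul, Units.mul_inv, Matrix.transpose_one, Matrix.one_mul]
    rw [Matrix.mul_assoc, Units.mul_inv, Matrix.mul_one]

theorem mem_isoD {ι : Type*} [Fintype ι] [DecidableEq ι] {w : ι → F} {g : GL ι F} :
    g ∈ IsoD w ↔ (g : Matrix ι ι F)ᵀ * Matrix.diagonal w * (g : Matrix ι ι F) = Matrix.diagonal w := Iff.rfl

/-- The derived group of the isometries of one slot. -/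
def Om (d : Fin k → F) : Subgroup (GL (Fin k) F) := ⁅IsoD d, IsoD d⁆

theorem om_le (d : Fin k → F) : Om d ≤ IsoD d := Subgroup.commutator_le_self _

/-- The weight of a simple basis tensor. -/
def wt (d : Fin k → F) (a : σ → Fin k) : F := ∏ l, d (a l)

theorem wt_ne_zero {d : Fin k → F} (hd : ∀ i, d i ≠ 0) (a : σ → Fin k) : wt d a ≠ 0 :=
  Finset.prod_ne_zero_iff.2 fun l _ => hd _

theorem pureG_iso {d : Fin k → F} {A : σ → GL (Fin k) F} (hA : ∀ l, A l ∈ IsoD d) : pureG A ∈ IsoD (wt d) := by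
  show _ = _
  rw [pureG_val, pureS_transpose, show Matrix.diagonal (wt d) = pureS (fun _ : σ => Matrix.diagonal d) from
    (pureS_diagonal fun _ => d).symm, pureS_mul, pureS_mul]
  exact congrArg pureS (funext hA)

theorem facG_iso {d : Fin k → F} (l : σ) {a : GL (Fin k) F} (ha : a ∈ IsoD d) : facG l a ∈ IsoD (wt d) :=
  pureG_iso fun j => by
    rcases eq_or_ne j l with rfl | hj
    · simpa using ha
    · rw [MonoidHom.mulSingle_apply, Pi.mulSingle_eq_of_ne hj]; exact one_mem _

theorem permG_iso {d : Fin k → F} (π : Equiv.Perm σ) : permG k F π ∈ IsoD (wt d) := by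
  show _ = _
  rw [permG_val]
  have hT : (permS k F π)ᵀ = permS k F π⁻¹ := by
    ext a b
    simp only [Matrix.transpose_apply, permS, Matrix.of_apply]
    refine if_congr ⟨fun e => ?_, fun e => ?_⟩ rfl rfl <;> (rw [e]; ext; simp)
  rw [Matrix.mul_assoc, show Matrix.diagonal (wt d) = pureS (fun _ : σ => Matrix.diagonal d) from
      (pureS_diagonal fun _ => d).symm,
    show pureS (fun _ : σ => Matrix.diagonal d) * permS k F π = permS k F π * pureS (fun _ : σ => Matrix.diagonal d) from
      (permS_pureS π fun _ => Matrix.diagonal d).symm,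
    hT, ← Matrix.mul_assoc, permS_mul, inv_mul_cancel, permS_one, Matrix.one_mul]

/-- The first indices, with weight one. -/
def Main (i : Fin k) : Prop := (i : ℕ) + 1 < k ∨ Odd k

/-- The shape of the form of one slot. -/
structure Shape [Fintype F] (d : Fin k → F) : Prop where
  two : (2 : F) ≠ 0
  three : 3 ≤ k
  ne : ∀ i, d i ≠ 0
  one : ∀ i, Main i → d i = 1
  four : k = 4 → ∀ i : Fin k, ¬ Main i → ¬ IsSquare (d i)
  q3 : ¬ (Fintype.card F = 3 ∧ k = 3)

/-- The sets of signs that generate the sign group of a slot. -/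
def Gen (S : Finset (Fin k)) : Prop := (k = 4 ∧ S.card = 1) ∨ (k ≠ 4 ∧ S.card = 2 ∧ ∀ i ∈ S, Main i)

theorem Gen.trace {S : Finset (Fin k)} (h : Gen S) : 2 * S.card ≠ k := by
  rcases h with ⟨h4, h1⟩ | ⟨h4, h2, -⟩ <;> omega

/-- The vector of signs of a set. -/
def sv (S : Finset (Fin k)) (i : Fin k) : F := if i ∈ S then -1 else 1

theorem sv_sq (S : Finset (Fin k)) (i : Fin k) : (sv S i : F) * sv S i = 1 := by
  unfold sv; split_ifs <;> ring

/-- The diagonal matrix of signs of a set. -/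
def sg (S : Finset (Fin k)) : GL (Fin k) F where
  val := Matrix.diagonal (sv S)
  inv := Matrix.diagonal (sv S)
  val_inv := by rw [Matrix.diagonal_mul_diagonal, funext (sv_sq S), Matrix.diagonal_one]
  inv_val := by rw [Matrix.diagonal_mul_diagonal, funext (sv_sq S), Matrix.diagonal_one]

theorem sg_val (S : Finset (Fin k)) : ((sg S : GL (Fin k) F) : Matrix (Fin k) (Fin k) F) = Matrix.diagonal (sv S) := rfl

theorem sg_iso (d : Fin k → F) (S : Finset (Fin k)) : (sg S : GL (Fin k) F) ∈ IsoD d := by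
  show _ = _
  rw [sg_val, Matrix.diagonal_transpose, Matrix.diagonal_mul_diagonal, Matrix.diagonal_mul_diagonal]
  exact congrArg _ (funext fun i => by rw [mul_right_comm, sv_sq, one_mul])

theorem sg_mul_self (S : Finset (Fin k)) : (sg S : GL (Fin k) F) * sg S = 1 :=
  Units.ext (by rw [Units.val_mul, sg_val, Matrix.diagonal_mul_diagonal, funext (sv_sq S), Matrix.diagonal_one]; rfl)

theorem facG_sg_val (l : σ) (S : Finset (Fin k)) :
    ((facG l (sg S) : GL (σ → Fin k) F) : Matrix (σ → Fin k) (σ → Fin k) F) = Matrix.diagonal fun a => sv S (a l) := by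
  rw [facG_val, sg_val, facS_diagonal]

/-- A group of isometries containing the slot groups, all of their isometries for even `k`. -/
structure Ctx [Fintype F] (d : Fin k → F) (X : Subgroup (GL (σ → Fin k) F)) : Prop where
  shape : Shape d
  iso : X ≤ IsoD (wt d)
  omega : ∀ l, ∀ g ∈ Om d, facG l g ∈ X
  ext : Even k → ∀ l, ∀ g ∈ IsoD d, facG l g ∈ X

/-- The centraliser of the sign groups of the slots in `J`. -/
def Blk (F : Type*) [Field F] (k : ℕ) (J : Finset σ) : Subgroup (GL (σ → Fin k) F) :=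
  Subgroup.centralizer {e | ∃ l ∈ J, ∃ S, Gen S ∧ e = facG l (sg S)}

theorem mem_Blk_iff {J : Finset σ} {g : GL (σ → Fin k) F} :
    g ∈ Blk F k J ↔ ∀ l ∈ J, ∀ S, Gen S → Commute g (facG l (sg S)) := by
  rw [Blk, Subgroup.mem_centralizer_iff]
  exact ⟨fun h l hl S hS => (h _ ⟨l, hl, S, hS, rfl⟩).symm, fun h e ⟨l, hl, S, hS, he⟩ => he ▸ (h l hl S hS).symm⟩

theorem Blk_anti {J J' : Finset σ} (h : J ⊆ J') : (Blk F k J' : Subgroup (GL (σ → Fin k) F)) ≤ Blk F k J := fun g hg =>
  mem_Blk_iff.2 fun l hl => mem_Blk_iff.1 hg l (h hl)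

/-- A matrix commutes with a diagonal one iff its entries connect equal values. -/
theorem commute_diagonal_iff {ι : Type*} [Fintype ι] [DecidableEq ι] (G : Matrix ι ι F) (f : ι → F) :
    Commute G (Matrix.diagonal f) ↔ ∀ a b, G a b ≠ 0 → f a = f b := by
  constructor
  · intro h a b hab
    have := congrFun (congrFun h.eq a) b
    rw [Matrix.mul_diagonal, Matrix.diagonal_mul] at this
    exact mul_right_cancel₀ hab ((mul_comm _ _).trans this).symm
  · intro h
    refine Matrix.ext fun a b => ?_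
    rw [Matrix.mul_diagonal, Matrix.diagonal_mul]
    by_cases hab : G a b = 0
    · rw [hab, zero_mul, mul_zero]
    · rw [h a b hab, mul_comm]

theorem sv_ne {S : Finset (Fin k)} (h2 : (2 : F) ≠ 0) {u v : Fin k} (h : ¬ (u ∈ S ↔ v ∈ S)) :
    (sv S u : F) ≠ sv S v := fun e => h2 (by
  unfold sv at e
  split_ifs at e with h1 h3 h3
  · exact absurd (iff_of_true h1 h3) h
  · linear_combination -e
  · linear_combination e
  · exact absurd (iff_of_false h1 h3) h)

theorem exists_main_avoid (hk : 3 ≤ k) (h4 : k ≠ 4) (u v : Fin k) : ∃ w : Fin k, Main w ∧ w ≠ u ∧ w ≠ v := by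
  obtain ⟨j, hj, hju, hjv⟩ : ∃ j : ℕ, j < 3 ∧ j ≠ u.val ∧ j ≠ v.val := by
    by_contra hcon
    push Not at hcon
    have := hcon 0 (by omega); have := hcon 1 (by omega); have := hcon 2 (by omega); omega
  refine ⟨⟨j, by omega⟩, ?_, fun e => hju (congrArg Fin.val e), fun e => hjv (congrArg Fin.val e)⟩
  by_cases hk3 : k = 3
  · exact Or.inr (by subst hk3; decide)
  · exact Or.inl (by show j + 1 < k; omega)

/-- The sign sets separate the indices. -/
theorem exists_gen_sep (hk : 3 ≤ k) {u v : Fin k} (h : u ≠ v) :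
    ∃ S : Finset (Fin k), Gen S ∧ ¬ (u ∈ S ↔ v ∈ S) := by
  by_cases h4 : k = 4
  · exact ⟨{u}, Or.inl ⟨h4, rfl⟩, by simp [h.symm]⟩
  obtain ⟨w, hw, hwu, hwv⟩ := exists_main_avoid hk h4 u v
  by_cases hu : Main u
  · exact ⟨{u, w}, Or.inr ⟨h4, Finset.card_pair hwu.symm, by simp [hu, hw]⟩, by simp [h.symm, hwv.symm]⟩
  · have hv : Main v := by
      by_contra hv
      have := u.2; have := v.2
      refine h (Fin.ext ?_)
      simp only [Main, not_or, not_lt] at hu hv
      omega
    exact ⟨{v, w}, Or.inr ⟨h4, Finset.card_pair hwv.symm, by simp [hv, hw]⟩, by simp [h, hwu.symm]⟩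

theorem mem_Blk (hk : 3 ≤ k) (h2 : (2 : F) ≠ 0) {J : Finset σ} {g : GL (σ → Fin k) F} :
    g ∈ Blk F k J ↔ ∀ a b, (g : Matrix (σ → Fin k) (σ → Fin k) F) a b ≠ 0 → ∀ l ∈ J, a l = b l := by
  rw [mem_Blk_iff]
  constructor
  · intro h a b hab l hl
    by_contra hne
    obtain ⟨S, hS, hsep⟩ := exists_gen_sep hk hne
    refine sv_ne h2 hsep ((commute_diagonal_iff (g : Matrix (σ → Fin k) (σ → Fin k) F)
      fun x => sv S (x l)).1 ?_ a b hab)
    rw [← facG_sg_val]
    exact congrArg Units.val (h l hl S hS).eq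
  · intro h l hl S _
    refine Units.ext ?_
    rw [Units.val_mul, Units.val_mul, facG_sg_val]
    exact ((commute_diagonal_iff _ _).2 fun a b hab => by rw [h a b hab l hl]).eq

/-- Elements outside the slots of `J` keep the blocks. -/
theorem facG_mem_Blk {J : Finset σ} {m : σ} (hm : m ∉ J) (a : GL (Fin k) F) : facG m a ∈ Blk F k J :=
  mem_Blk_iff.2 fun l hl _ _ => facG_commute (fun (e : m = l) => hm (e.symm ▸ hl)) _ _

/-- Elements of one slot that commute with the signs of that slot. -/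
theorem facG_sg_mem_Blk (J : Finset σ) (m : σ) (S : Finset (Fin k)) : facG m (sg S) ∈ Blk F k J :=
  mem_Blk_iff.2 fun l _ T _ => Units.ext (by
    rw [Units.val_mul, Units.val_mul, facG_sg_val, facG_sg_val, Matrix.diagonal_mul_diagonal,
      Matrix.diagonal_mul_diagonal]
    exact congrArg _ (funext fun a => mul_comm _ _))

/-! ### Blocks -/

/-- The indices of the slots outside `J`. -/
abbrev Off (J : Finset σ) : Type := {l : σ // l ∉ J}

/-- The index with the coordinates of `a` on `J` and of `c` elsewhere. -/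
def glue (J : Finset σ) (a : σ → Fin k) (c : Off J → Fin k) : σ → Fin k :=
  fun l => if h : l ∈ J then a l else c ⟨l, h⟩

theorem glue_mem {J : Finset σ} (a : σ → Fin k) (c : Off J → Fin k) {l : σ} (h : l ∈ J) : glue J a c l = a l := by
  rw [glue, dif_pos h]

theorem glue_off {J : Finset σ} (a : σ → Fin k) (c : Off J → Fin k) (l : Off J) : glue J a c l = c l := by
  rw [glue, dif_neg l.2]

theorem glue_self (J : Finset σ) (a : σ → Fin k) : glue J a (fun l => a l) = a := by
  funext l
  unfold glue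
  split_ifs <;> rfl

theorem glue_congr {J : Finset σ} {a a' : σ → Fin k} (h : ∀ l ∈ J, a l = a' l) : glue J a = glue J a' := by
  funext c l
  unfold glue
  split_ifs with hl
  · exact h l hl
  · rfl

theorem glue_inj (J : Finset σ) (a : σ → Fin k) : Function.Injective (glue J a) := fun c c' h => funext fun l => by
  rw [← glue_off a c l, h, glue_off]

theorem glue_eq {J : Finset σ} {a b : σ → Fin k} (h : ∀ l ∈ J, b l = a l) : glue J a (fun l => b l) = b := by
  rw [← glue_congr h, glue_self]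

/-- The block of a matrix at the `J`-coordinates of `a`. -/
def blkM (J : Finset σ) (G : Matrix (σ → Fin k) (σ → Fin k) F) (a : σ → Fin k) :
    Matrix (Off J → Fin k) (Off J → Fin k) F :=
  G.submatrix (glue J a) (glue J a)

/-- Matrices respecting the blocks. -/
def BlkM (J : Finset σ) (G : Matrix (σ → Fin k) (σ → Fin k) F) : Prop := ∀ a b, G a b ≠ 0 → ∀ l ∈ J, a l = b l

theorem blkM_ext {J : Finset σ} {G H : Matrix (σ → Fin k) (σ → Fin k) F} (hG : BlkM J G) (hH : BlkM J H)
    (h : ∀ a, blkM J G a = blkM J H a) : G = H := by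
  ext a b
  by_cases hab : ∀ l ∈ J, a l = b l
  · have := congrFun (congrFun (h a) fun l => a l) fun l => b l
    rwa [blkM, blkM, Matrix.submatrix_apply, Matrix.submatrix_apply, glue_self,
      glue_eq fun l hl => (hab l hl).symm] at this
  · rw [by_contra fun h0 => hab (hG a b h0), by_contra fun h0 => hab (hH a b h0)]

theorem blkM_mul {J : Finset σ} {G : Matrix (σ → Fin k) (σ → Fin k) F} (hG : BlkM J G)
    (H : Matrix (σ → Fin k) (σ → Fin k) F) (a : σ → Fin k) : blkM J (G * H) a = blkM J G a * blkM J H a := by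
  classical
  ext c c'
  rw [blkM, Matrix.submatrix_apply, Matrix.mul_apply, Matrix.mul_apply,
    ← Finset.sum_subset (Finset.subset_univ (Finset.univ.image (glue J a)))]
  · rw [Finset.sum_image fun x _ y _ h => glue_inj J a h]
    rfl
  · intro z _ hz
    by_contra hne
    refine hz (Finset.mem_image.2 ⟨fun l => z l, Finset.mem_univ _, glue_eq fun l hl => ?_⟩)
    rw [← hG _ _ (left_ne_zero_of_mul hne) l hl, glue_mem _ _ hl]

theorem blkM_one (J : Finset σ) (a : σ → Fin k) : blkM J (1 : Matrix (σ → Fin k) (σ → Fin k) F) a = 1 :=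
  Matrix.submatrix_one _ (glue_inj J a)

theorem blkM_facS {J : Finset σ} (m : Off J) (Y : Matrix (Fin k) (Fin k) F) (a : σ → Fin k) :
    blkM J (facS (m : σ) Y) a = facS m Y := by
  ext c c'
  rw [blkM, Matrix.submatrix_apply, facS_apply, facS_apply, glue_off, glue_off]
  refine if_congr ⟨fun h j hj => ?_, fun h j hj => ?_⟩ rfl rfl
  · simpa [glue_off] using h j fun e => hj (Subtype.ext e)
  · by_cases hJ : j ∈ J
    · rw [glue_mem _ _ hJ, glue_mem _ _ hJ]
    · simpa [glue, hJ] using h ⟨j, hJ⟩ fun e => hj (congrArg Subtype.val e)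

/-- The block of an element centralising the sign groups of `J`. -/
def blk [hF : Fact (3 ≤ k ∧ (2 : F) ≠ 0)] (J : Finset σ) (a : σ → Fin k) :
    ↥(Blk F k J) →* GL (Off J → Fin k) F where
  toFun g :=
    { val := blkM J (g : GL (σ → Fin k) F) a
      inv := blkM J ((g⁻¹ : ↥(Blk F k J)) : GL (σ → Fin k) F) a
      val_inv := by
        rw [← blkM_mul ((mem_Blk hF.out.1 hF.out.2).1 g.2), ← Units.val_mul, ← Subgroup.coe_mul, mul_inv_cancel,
          Subgroup.coe_one, Units.val_one, blkM_one]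
      inv_val := by
        rw [← blkM_mul ((mem_Blk hF.out.1 hF.out.2).1 (g⁻¹).2), ← Units.val_mul, ← Subgroup.coe_mul,
          inv_mul_cancel, Subgroup.coe_one, Units.val_one, blkM_one] }
  map_one' := Units.ext (blkM_one J a)
  map_mul' g h := Units.ext (blkM_mul ((mem_Blk hF.out.1 hF.out.2).1 g.2) _ a)

theorem blk_val [hF : Fact (3 ≤ k ∧ (2 : F) ≠ 0)] (J : Finset σ) (a : σ → Fin k) (g : ↥(Blk F k J)) :
    (blk J a g : Matrix (Off J → Fin k) (Off J → Fin k) F) = blkM J (g : GL (σ → Fin k) F) a := rfl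

theorem blk_congr [hF : Fact (3 ≤ k ∧ (2 : F) ≠ 0)] {J : Finset σ} {a a' : σ → Fin k} (h : ∀ l ∈ J, a l = a' l)
    (g : ↥(Blk F k J)) : blk J a g = blk J a' g := Units.ext (by rw [blk_val, blk_val, blkM, blkM, glue_congr h])

theorem blk_ext [hF : Fact (3 ≤ k ∧ (2 : F) ≠ 0)] {J : Finset σ} {g h : ↥(Blk F k J)}
    (e : ∀ a, blk J a g = blk J a h) : g = h :=
  Subtype.ext (Units.ext (blkM_ext ((mem_Blk hF.out.1 hF.out.2).1 g.2) ((mem_Blk hF.out.1 hF.out.2).1 h.2)
    fun a => congrArg Units.val (e a)))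

theorem blk_facG [hF : Fact (3 ≤ k ∧ (2 : F) ≠ 0)] {J : Finset σ} (m : Off J) (y : GL (Fin k) F) (a : σ → Fin k) :
    blk J a ⟨facG (m : σ) y, facG_mem_Blk m.2 y⟩ = facG m y :=
  Units.ext (by
    rw [blk_val, facG_val, facG_val, blkM_facS])

theorem wt_glue (d : Fin k → F) (J : Finset σ) (a : σ → Fin k) (c : Off J → Fin k) :
    wt d (glue J a c) = (∏ l ∈ J, d (a l)) * wt d c := by
  rw [wt, ← Finset.prod_mul_prod_compl J, wt, Finset.prod_congr rfl fun l hl => by rw [glue_mem a c hl]]
  congr 1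
  rw [Finset.prod_subtype Jᶜ (fun l => Finset.mem_compl) (fun l => d (glue J a c l))]
  exact Finset.prod_congr rfl fun l _ => by rw [glue_off]

theorem blk_iso [hF : Fact (3 ≤ k ∧ (2 : F) ≠ 0)] {d : Fin k → F} (hd : ∀ i, d i ≠ 0) {J : Finset σ} (a : σ → Fin k)
    {g : ↥(Blk F k J)} (hg : (g : GL (σ → Fin k) F) ∈ IsoD (wt d)) : blk J a g ∈ IsoD (wt d) := by
  have hT : BlkM J ((g : GL (σ → Fin k) F).val)ᵀ := fun x y hxy l hl =>
    ((mem_Blk hF.out.1 hF.out.2).1 g.2 y x hxy l hl).symm
  have hD : BlkM J (Matrix.diagonal (wt (σ := σ) d)) := fun x y hxy l _ => by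
    by_contra hne
    exact hxy (Matrix.diagonal_apply_ne _ fun e => hne (congrFun e l))
  have e0 := congrArg (blkM J · a) (mem_isoD.1 hg)
  rw [Matrix.mul_assoc, blkM_mul hT, blkM_mul hD] at e0
  have hdiag : blkM J (Matrix.diagonal (wt (σ := σ) d)) a = (∏ l ∈ J, d (a l)) • Matrix.diagonal (wt d) := by
    rw [blkM, Matrix.submatrix_diagonal _ _ (glue_inj J a), ← Matrix.diagonal_smul]
    exact congrArg _ (funext fun c => wt_glue d J a c)
  rw [hdiag, Matrix.smul_mul, Matrix.mul_smul] at e0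
  have e1 := smul_right_injective _ (Finset.prod_ne_zero_iff.2 fun l _ => hd (a l)) e0
  rw [mem_isoD, blk_val, Matrix.mul_assoc]
  exact e1

end Cfsg.Agent.Classical.OTPow
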