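/-
The slot group: the diagonal quadratic form, monomial elements and the centraliser of the derived group.
-/
import Cfsg.Agent.Lib.Classical.OTPow.Iso
import Cfsg.Agent.Lib.Classical.OrthCenter
import Cfsg.Agent.Lib.Classical.OrthMatrix

set_option autoImplicit false
set_option linter.unusedSectionVars false

namespace Cfsg.Agent.Classical.OTPow

open Matrix QuadraticMap
open Cfsg.Agent.Classical
open Cfsg.Agent.Classical.OCount (PND)
open Cfsg.Agent.Classical.ORefl (Iso toMat refl refl_apply refl_mem)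
open Cfsg.Agent.Classical.OOmega (rf)

variable {F : Type*} [Field F] {k : ℕ}

/-- The quadratic form of a slot. -/
noncomputable def Qd (d : Fin k → F) : QuadraticForm F (Fin k → F) := QuadraticMap.weightedSumSquares F d

theorem Qd_apply (d : Fin k → F) (x : Fin k → F) : Qd d x = ∑ i, d i * (x i * x i) := by
  simp [Qd]

theorem polar_Qd (d : Fin k → F) (x y : Fin k → F) : polar (Qd d) x y = 2 * ∑ i, d i * (x i * y i) := by
  simp only [polar, Qd_apply, Pi.add_apply, Finset.mul_sum, ← Finset.sum_sub_distrib]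
  exact Finset.sum_congr rfl fun i _ => by ring

theorem polar_Qd_single (d : Fin k → F) (x : Fin k → F) (i : Fin k) :
    polar (Qd d) x (Pi.single i 1) = 2 * (d i * x i) := by
  rw [polar_Qd, Finset.sum_eq_single i (fun j _ hj => by simp [Pi.single_eq_of_ne hj]) (by simp), Pi.single_eq_same,
    mul_one]

theorem pnd_Qd {d : Fin k → F} (h2 : (2 : F) ≠ 0) (hd : ∀ i, d i ≠ 0) : PND (Qd d) := fun v hv => by
  funext i
  have h := hv (Pi.single i 1)
  rw [polar_Qd_single] at h
  simpa [h2, hd i] using h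

theorem dot_diag (d : Fin k → F) (x y : Fin k → F) : x ⬝ᵥ (Matrix.diagonal d *ᵥ y) = ∑ i, d i * (x i * y i) := by
  simp only [dotProduct, Matrix.mulVec_diagonal]
  exact Finset.sum_congr rfl fun i _ => by ring

theorem mem_isoD_iff_Qd {d : Fin k → F} (h2 : (2 : F) ≠ 0) {g : GL (Fin k) F} :
    g ∈ IsoD d ↔ ∀ x, Qd d ((g : Matrix (Fin k) (Fin k) F) *ᵥ x) = Qd d x := by
  constructor
  · intro h x
    rw [Qd_apply, Qd_apply, ← dot_diag, ← dot_diag]
    conv_rhs => rw [← mem_isoD.1 h, Matrix.mul_assoc, ← Matrix.mulVec_mulVec, ← Matrix.mulVec_mulVec,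
      Matrix.dotProduct_mulVec, Matrix.vecMul_transpose]
  · intro h
    have hp : ∀ x y, polar (Qd d) ((g : Matrix (Fin k) (Fin k) F) *ᵥ x) ((g : Matrix (Fin k) (Fin k) F) *ᵥ y) =
        polar (Qd d) x y := fun x y => by simp only [polar, ← Matrix.mulVec_add, h]
    refine mem_isoD.2 (Matrix.ext fun i j => ?_)
    have e := hp (Pi.single i 1) (Pi.single j 1)
    rw [polar_Qd, polar_Qd, ← dot_diag, ← dot_diag, ← Matrix.vecMul_transpose, ← Matrix.dotProduct_mulVec,
      Matrix.mulVec_mulVec, Matrix.mulVec_mulVec, single_one_dotProduct, single_one_dotProduct,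
      Matrix.mulVec_single_one, Matrix.mulVec_single_one] at e
    exact mul_left_cancel₀ h2 e

theorem isoD_eq {d : Fin k → F} (h2 : (2 : F) ≠ 0) : IsoD d = Cfsg.isometryGroup F ⇑(Qd d) := by
  ext g
  rw [mem_isoD_iff_Qd h2]
  exact ⟨fun h x _ => h x, fun h x => h x x⟩

/-- The matrix of an isometry of the slot. -/
noncomputable def slotHom (d : Fin k → F) : ↥(Iso (Qd d)) →* GL (Fin k) F :=
  (Cfsg.isometryGroup F ⇑(Qd d)).subtype.comp (toMat (Qd d)).toMonoidHom

theorem slotHom_apply (d : Fin k → F) (g : ↥(Iso (Qd d))) (x : Fin k → F) :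
    (slotHom d g : Matrix (Fin k) (Fin k) F) *ᵥ x = g.1 x := ORefl.toMat_apply g x

theorem slotHom_injective (d : Fin k → F) : Function.Injective (slotHom d) := fun a b h =>
  (toMat (Qd d)).injective (Subtype.ext h)

theorem slotHom_range {d : Fin k → F} (h2 : (2 : F) ≠ 0) : (slotHom d).range = IsoD d := by
  rw [isoD_eq h2, slotHom, MonoidHom.range_comp, MonoidHom.range_eq_top_of_surjective _ (toMat (Qd d)).surjective,
    ← MonoidHom.range_eq_map, Subgroup.range_subtype]

theorem om_eq_map {d : Fin k → F} (h2 : (2 : F) ≠ 0) : Om d = (commutator ↥(Iso (Qd d))).map (slotHom d) := by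
  rw [commutator_def, Subgroup.map_commutator, ← MonoidHom.range_eq_map, slotHom_range h2]
  rfl

/-- A monomial matrix with equal weights is an isometry. -/
def permMat (F : Type*) [Field F] (π : Equiv.Perm (Fin k)) : GL (Fin k) F where
  val := π.permMatrix F
  inv := π⁻¹.permMatrix F
  val_inv := by rw [← Matrix.permMatrix_mul, inv_mul_cancel, Matrix.permMatrix_one]
  inv_val := by rw [← Matrix.permMatrix_mul, mul_inv_cancel, Matrix.permMatrix_one]

theorem permMat_mulVec (π : Equiv.Perm (Fin k)) (x : Fin k → F) :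
    (permMat F π : Matrix (Fin k) (Fin k) F) *ᵥ x = x ∘ π := Matrix.permMatrix_mulVec ..

theorem permMat_iso {d : Fin k → F} (h2 : (2 : F) ≠ 0) {π : Equiv.Perm (Fin k)} (h : ∀ i, d (π i) = d i) :
    permMat F π ∈ IsoD d := (mem_isoD_iff_Qd h2).2 fun x => by
  rw [permMat_mulVec, Qd_apply, Qd_apply, ← Equiv.sum_comp π fun i => d i * (x i * x i)]
  exact Finset.sum_congr rfl fun i _ => by rw [h, Function.comp_apply]

theorem permMat_mul (π τ : Equiv.Perm (Fin k)) : permMat F π * permMat F τ = permMat F (τ * π) :=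
  Units.ext (Matrix.permMatrix_mul τ π).symm

theorem permMat_one : permMat F (1 : Equiv.Perm (Fin k)) = 1 := Units.ext Matrix.permMatrix_one

theorem permMat_inv (π : Equiv.Perm (Fin k)) : (permMat F π)⁻¹ = permMat F π⁻¹ :=
  inv_eq_of_mul_eq_one_right (by rw [permMat_mul, inv_mul_cancel, permMat_one])

theorem permMat_sg (π : Equiv.Perm (Fin k)) (S : Finset (Fin k)) :
    permMat F π * sg S * (permMat F π)⁻¹ = sg (S.map π⁻¹.toEmbedding) := by
  refine mul_inv_eq_iff_eq_mul.2 (Units.ext (Matrix.ext_iff_mulVec.2 fun x => ?_))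
  rw [Units.val_mul, Units.val_mul, ← Matrix.mulVec_mulVec, ← Matrix.mulVec_mulVec, permMat_mulVec, permMat_mulVec]
  funext i
  simp only [sg_val, Function.comp_apply, Matrix.mulVec_diagonal]
  congr 1
  simp [sv, Equiv.Perm.inv_def]

/-- Three cycles of main indices lie in the derived group. -/
theorem three_cycle_mem {d : Fin k → F} (h2 : (2 : F) ≠ 0) (h1 : ∀ i, Main i → d i = 1) {a b c : Fin k}
    (ha : Main a) (hb : Main b) (hc : Main c) (hab : a ≠ b) (hbc : b ≠ c) (hac : a ≠ c) :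
    permMat F (Equiv.swap a b * Equiv.swap b c) ∈ Om d := by
  have hsw : ∀ {u v : Fin k}, Main u → Main v → permMat F (Equiv.swap u v) ∈ IsoD d := fun {u v} hu hv =>
    permMat_iso h2 fun i => by
      rw [Equiv.swap_apply_def]
      split_ifs with e e'
      · rw [e, h1 _ hu, h1 _ hv]
      · rw [e', h1 _ hu, h1 _ hv]
      · rfl
  have := Subgroup.commutator_mem_commutator (hsw hb hc) (hsw (u := a) (v := c) ha hc)
  rw [commutatorElement_def, permMat_inv, permMat_inv, permMat_mul, permMat_mul, permMat_mul] at this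
  rw [show Equiv.swap a b * Equiv.swap b c =
    (Equiv.swap a c)⁻¹ * ((Equiv.swap b c)⁻¹ * (Equiv.swap a c * Equiv.swap b c)) from ?_]
  · exact this
  refine Equiv.ext fun i => ?_
  simp only [Equiv.swap_inv, Equiv.Perm.mul_apply, Equiv.swap_apply_def]
  split_ifs <;> simp_all

/-- Pairs of main signs lie in the derived group. -/
theorem sg_pair_mem {d : Fin k → F} (h2 : (2 : F) ≠ 0) (h1 : ∀ i, Main i → d i = 1) {a b : Fin k}
    (ha : Main a) (hb : Main b) (hab : a ≠ b) : (sg {a, b} : GL (Fin k) F) ∈ Om d := by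
  have hsw : permMat F (Equiv.swap a b) ∈ IsoD d := permMat_iso h2 fun i => by
    rw [Equiv.swap_apply_def]
    split_ifs with e e'
    · rw [e, h1 _ ha, h1 _ hb]
    · rw [e', h1 _ ha, h1 _ hb]
    · rfl
  have h : permMat F (Equiv.swap a b) * sg {a} * (permMat F (Equiv.swap a b))⁻¹ * (sg {a})⁻¹ ∈ Om d :=
    Subgroup.commutator_mem_commutator hsw (sg_iso d {a})
  rw [permMat_sg, inv_eq_of_mul_eq_one_left (sg_mul_self {a})] at h
  convert h using 1
  refine Units.ext ?_
  rw [Units.val_mul, sg_val, sg_val, sg_val, Matrix.diagonal_mul_diagonal]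
  refine congrArg _ (funext fun i => ?_)
  simp only [sv, Finset.map_singleton, Finset.mem_singleton, Finset.mem_insert, Equiv.toEmbedding, Equiv.swap_inv,
    Equiv.swap_apply_left, Function.Embedding.coeFn_mk]
  by_cases e : i = a <;> by_cases e' : i = b <;> simp_all

variable [Fintype F]

theorem Shape.cycle_mem {d : Fin k → F} (hd : Shape d) {a b c : Fin k} (ha : Main a) (hb : Main b) (hc : Main c)
    (hab : a ≠ b) (hbc : b ≠ c) (hac : a ≠ c) : permMat F (Equiv.swap a b * Equiv.swap b c) ∈ Om d :=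
  three_cycle_mem hd.two hd.one ha hb hc hab hbc hac

theorem Shape.pair_mem {d : Fin k → F} (hd : Shape d) {a b : Fin k} (ha : Main a) (hb : Main b) (hab : a ≠ b) :
    (sg {a, b} : GL (Fin k) F) ∈ Om d :=
  sg_pair_mem hd.two hd.one ha hb hab

theorem Shape.exists_main_avoid {d : Fin k → F} (hd : Shape d) (u v : Fin k) :
    ∃ w : Fin k, Main w ∧ w ≠ u ∧ w ≠ v := by
  obtain ⟨j, hj, hju, hjv⟩ : ∃ j : ℕ, j < 3 ∧ j ≠ u.val ∧ j ≠ v.val := by
    by_contra hcon
    push Not at hcon
    have := hcon 0 (by omega); have := hcon 1 (by omega); have := hcon 2 (by omega); omega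
  have := hd.three
  refine ⟨⟨j, by omega⟩, ?_, fun e => hju (congrArg Fin.val e), fun e => hjv (congrArg Fin.val e)⟩
  by_cases hk3 : k = 3
  · exact Or.inr (by subst hk3; decide)
  · exact Or.inl (by show j + 1 < k; omega)

theorem not_main_unique {u v : Fin k} (hu : ¬ Main u) (hv : ¬ Main v) : u = v := by
  have := u.2; have := v.2
  refine Fin.ext ?_
  simp only [Main, not_or, not_lt] at hu hv
  omega

theorem Shape.om_normalised {d : Fin k → F} {R g : GL (Fin k) F} (hR : R ∈ IsoD d) (hg : g ∈ Om d) :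
    R * g * R⁻¹ ∈ Om d := by
  have hmap : (IsoD d).map (MulAut.conj R).toMonoidHom = IsoD d := by
    ext x
    refine ⟨fun ⟨y, hy, e⟩ => e ▸ mul_mem (mul_mem hR hy) (inv_mem hR), fun hx => ⟨R⁻¹ * x * R, mul_mem (mul_mem (inv_mem hR) hx) hR, ?_⟩⟩
    show R * (R⁻¹ * x * R) * R⁻¹ = x
    group
  have := Subgroup.mem_map_of_mem (MulAut.conj R).toMonoidHom hg
  rw [Om, Subgroup.map_commutator, hmap] at this
  exact this

theorem Shape.diag_of_commute {d : Fin k → F} (hd : Shape d) {C : Matrix (Fin k) (Fin k) F}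
    (hC : ∀ g ∈ Om d, (g : Matrix (Fin k) (Fin k) F) * C = C * (g : Matrix (Fin k) (Fin k) F)) :
    ∀ u v, u ≠ v → C u v = 0 := by
  intro u v huv
  obtain ⟨w, hw, hwu, hwv⟩ := hd.exists_main_avoid u v
  obtain ⟨x, hx, hxw, hsep⟩ : ∃ x, Main x ∧ x ≠ w ∧
      ¬ (u ∈ ({x, w} : Finset (Fin k)) ↔ v ∈ ({x, w} : Finset (Fin k))) := by
    by_cases hu : Main u
    · exact ⟨u, hu, hwu.symm, by simp [huv.symm, hwv.symm]⟩
    · have hv : Main v := by
        by_contra hv
        exact huv (not_main_unique hu hv)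
      exact ⟨v, hv, hwv.symm, by simp [huv, hwu.symm]⟩
  by_contra hne
  exact sv_ne hd.two hsep ((commute_diagonal_iff C _).1 (hC _ (hd.pair_mem hx hw hxw)).symm u v hne)

theorem Shape.main_of_commute {d : Fin k → F} (hd : Shape d) {C : Matrix (Fin k) (Fin k) F}
    (hC : ∀ g ∈ Om d, (g : Matrix (Fin k) (Fin k) F) * C = C * (g : Matrix (Fin k) (Fin k) F)) :
    ∀ u v, Main u → Main v → C u u = C v v := by
  have hdiag := hd.diag_of_commute hC
  intro u v hu hv
  rcases eq_or_ne u v with rfl | huv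
  · rfl
  obtain ⟨w, hw, hwu, hwv⟩ := hd.exists_main_avoid u v
  obtain ⟨π, hπ⟩ : ∃ π, π = Equiv.swap u v * Equiv.swap v w := ⟨_, rfl⟩
  have hπu : π u = v := by
    rw [hπ, Equiv.Perm.mul_apply, Equiv.swap_apply_of_ne_of_ne huv hwu.symm, Equiv.swap_apply_left]
  have hm : permMat F π ∈ Om d := hπ ▸ hd.cycle_mem hu hv hw huv hwv.symm hwu.symm
  have e : ((permMat F π : Matrix (Fin k) (Fin k) F) *ᵥ (C *ᵥ Pi.single v 1)) u =
      (C *ᵥ ((permMat F π : Matrix (Fin k) (Fin k) F) *ᵥ Pi.single v 1)) u := by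
    rw [Matrix.mulVec_mulVec, Matrix.mulVec_mulVec, hC _ hm]
  rw [permMat_mulVec, permMat_mulVec, Function.comp_apply, hπu, Matrix.mulVec_single_one] at e
  rw [Matrix.mulVec, dotProduct, Finset.sum_eq_single u (fun j _ hj => by rw [hdiag u j hj.symm, zero_mul])
    (by simp)] at e
  simpa [hπu, Matrix.col] using e.symm

theorem slot_rf_entry (d : Fin k → F) (w : Fin k → F) (x y : Fin k) :
    (slotHom d (rf (Qd d) w) : Matrix (Fin k) (Fin k) F) x y =
      (Pi.single y 1 : Fin k → F) x - (Qd d w)⁻¹ * (2 * (d y * w y)) * w x := by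
  have e := congrFun (slotHom_apply d (rf (Qd d) w) (Pi.single y 1)) x
  rw [Matrix.mulVec_single_one, show (rf (Qd d) w).1 = refl (Qd d) w from rfl, refl_apply, Pi.sub_apply,
    Pi.smul_apply, polar_Qd_single, smul_eq_mul] at e
  exact e

/-- A matrix commuting with the derived group is scalar. -/
theorem Shape.scalar_of_commute {d : Fin k → F} (hd : Shape d) {C : Matrix (Fin k) (Fin k) F}
    (hC : ∀ g ∈ Om d, (g : Matrix (Fin k) (Fin k) F) * C = C * (g : Matrix (Fin k) (Fin k) F)) :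
    ∃ c : F, C = c • 1 := by
  have := hd.three
  have hdiag := hd.diag_of_commute hC
  have hmain := hd.main_of_commute hC
  obtain ⟨i₀, hi₀, -, -⟩ := hd.exists_main_avoid ⟨0, by omega⟩ ⟨0, by omega⟩
  refine ⟨C i₀ i₀, Matrix.ext fun u v => ?_⟩
  rcases eq_or_ne u v with rfl | huv
  swap
  · rw [hdiag u v huv, Matrix.smul_apply, Matrix.one_apply_ne huv, smul_zero]
  rw [Matrix.smul_apply, Matrix.one_apply_eq, smul_eq_mul, mul_one]
  by_cases hu : Main u
  · exact hmain u i₀ hu hi₀
  by_contra hne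
  -- a main vector which makes a non-singular one with the last index
  obtain ⟨a, ha, hai, -⟩ := hd.exists_main_avoid i₀ i₀
  obtain ⟨z, hz, hza, hzi⟩ := hd.exists_main_avoid a i₀
  obtain ⟨s, hs⟩ : ∃ s : F, 1 + d u + s * s ≠ 0 := by
    by_cases h : 1 + d u = 0
    · exact ⟨1, by rw [h, zero_add, one_mul]; exact one_ne_zero⟩
    · exact ⟨0, by simpa using h⟩
  have hui : u ≠ i₀ := fun e => hu (e ▸ hi₀)
  have hua : u ≠ a := fun e => hu (e ▸ ha)
  have huz : u ≠ z := fun e => hu (e ▸ hz)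
  obtain ⟨w, hw⟩ : ∃ w : Fin k → F, w = Pi.single i₀ 1 + Pi.single u 1 + Pi.single a s := ⟨_, rfl⟩
  have hwi : w i₀ = 1 := by simp [hw, hui.symm, hai.symm]
  have hwu : w u = 1 := by simp [hw, hui, hua]
  have hwa : w a = s := by simp [hw, hua.symm, hai]
  have hw0 : ∀ i, i ≠ i₀ → i ≠ u → i ≠ a → w i = 0 := fun i h1 h2 h3 => by simp [hw, h1, h2, h3]
  have hQw : Qd d w = 1 + d u + s * s := by
    rw [Qd_apply, ← Finset.sum_subset (Finset.subset_univ ({i₀, u, a} : Finset (Fin k))) (fun i _ hi => by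
      simp only [Finset.mem_insert, Finset.mem_singleton, not_or] at hi
      rw [hw0 i hi.1 hi.2.1 hi.2.2]; simp),
      Finset.sum_insert (by simp [hui.symm, hai.symm]), Finset.sum_pair hua, hwi, hwu, hwa, hd.one _ hi₀, hd.one _ ha]
    ring
  obtain ⟨R, hR⟩ : ∃ R, R = slotHom d (rf (Qd d) w) := ⟨_, rfl⟩
  have hRO : R ∈ IsoD d := hR ▸ slotHom_range hd.two ▸ ⟨_, rfl⟩
  have hRi : R⁻¹ = R := inv_eq_of_mul_eq_one_left (by rw [hR, ← map_mul, OOmega.rf_mul_self, map_one])
  have hC'c : ∀ g ∈ Om d, (g : Matrix (Fin k) (Fin k) F) * ((R : Matrix (Fin k) (Fin k) F) * C * (R : Matrix (Fin k) (Fin k) F)) =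
      ((R : Matrix (Fin k) (Fin k) F) * C * (R : Matrix (Fin k) (Fin k) F)) * (g : Matrix (Fin k) (Fin k) F) := by
    intro g hg
    have hm : R * g * R ∈ Om d := by
      have := Shape.om_normalised hRO hg
      rwa [hRi] at this
    have hRR : (R : Matrix (Fin k) (Fin k) F) * (R : Matrix (Fin k) (Fin k) F) = 1 := by
      nth_rewrite 1 [← hRi]
      exact R.inv_mul
    have e := hC _ hm
    simp only [Units.val_mul] at e
    have := congrArg (fun M => (R : Matrix (Fin k) (Fin k) F) * M * (R : Matrix (Fin k) (Fin k) F)) e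
    simpa only [← Matrix.mul_assoc, hRR, Matrix.one_mul, Matrix.mul_assoc _ (R : Matrix (Fin k) (Fin k) F) (R : Matrix (Fin k) (Fin k) F),
      Matrix.mul_one] using this
  have hval : ∀ x, ((R : Matrix (Fin k) (Fin k) F) * C * (R : Matrix (Fin k) (Fin k) F)) x x = C i₀ i₀ +
      (C u u - C i₀ i₀) * ((R : Matrix (Fin k) (Fin k) F) x u * (R : Matrix (Fin k) (Fin k) F) u x) := by
    intro x
    have hCe : C = C i₀ i₀ • 1 + (C u u - C i₀ i₀) • Matrix.single u u 1 := by
      ext p q
      rcases eq_or_ne p q with rfl | hpq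
      · rcases eq_or_ne p u with rfl | hp
        · simp
        · have hpm : Main p := by
            by_contra hp'
            exact hp (not_main_unique hp' hu)
          simp [Matrix.single_apply, hp.symm, hmain p i₀ hpm hi₀]
      · simp [hdiag p q hpq, Matrix.single_apply, hpq]
        intro h1 h2; exact absurd (h1.symm.trans h2) hpq
    have hRR : (R : Matrix (Fin k) (Fin k) F) * (R : Matrix (Fin k) (Fin k) F) = 1 := by
      nth_rewrite 1 [← hRi]
      exact R.inv_mul
    conv_lhs => rw [hCe]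
    rw [Matrix.mul_add, Matrix.add_mul, Matrix.mul_smul, Matrix.mul_one, Matrix.smul_mul, hRR, Matrix.mul_smul,
      Matrix.smul_mul, Matrix.add_apply, Matrix.smul_apply, Matrix.smul_apply, Matrix.one_apply_eq, smul_eq_mul,
      smul_eq_mul, mul_one]
    congr 2
    rw [Matrix.mul_apply, Finset.sum_eq_single u (fun j _ hj => by
      rw [Matrix.mul_single_apply_of_ne (hbj := hj), zero_mul]) (by simp), Matrix.mul_single_apply_same, mul_one]
  have e := hd.main_of_commute hC'c i₀ z hi₀ hz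
  rw [hval, hval, add_right_inj, hR, slot_rf_entry, slot_rf_entry, slot_rf_entry, slot_rf_entry,
    hw0 z hzi huz.symm hza, hwi, hwu, hQw, hd.one _ hi₀, Pi.single_eq_of_ne hui.symm, Pi.single_eq_of_ne hui,
    Pi.single_eq_of_ne huz, Pi.single_eq_of_ne huz.symm] at e
  simp [sub_ne_zero.2 hne, hs, hd.ne u, hd.two] at e

end Cfsg.Agent.Classical.OTPow
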