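/-
Perfectness and simplicity modulo the centre of the derived group of an orthogonal group of dimension at least five
in odd characteristic.
-/
import Cfsg.Agent.Lib.Classical.OrthSimple

set_option autoImplicit false
set_option linter.unusedSectionVars false

namespace Cfsg.Agent.Classical.OTPow.Five

open Module QuadraticMap
open Cfsg.Agent.Classical Cfsg.Agent.Classical.OCount Cfsg.Agent.Classical.ORefl Cfsg.Agent.Classical.OOmega
open scoped commutatorElement

variable {F : Type*} [Field F] {V : Type*} [AddCommGroup V] [Module F V] [FiniteDimensional F V]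
  {Q : QuadraticForm F V}

theorem el_mem5 (hQ : PND Q) (hn : 5 ≤ finrank F V) {e v : V} (he : Q e = 0) (hv : polar Q e v = 0) :
    el he hv ∈ commutator ↥(Iso Q) :=
  siegel_mem_commutator hQ (Or.inr (by omega)) he hv

theorem exists_two_pairs [Finite F] (hQ : PND Q) (hn : 5 ≤ finrank F V) (h2 : (2 : F) ≠ 0) :
    ∃ (p : V × V) (_ : IsHPair Q p) (q : comp Q p × comp Q p), IsHPair (res Q p) q := by
  haveI := Fintype.ofFinite F
  obtain ⟨x, hx0, hx⟩ := OOmega.exists_singular h2 hQ (by omega)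
  obtain ⟨f, hp⟩ := OOmega.exists_pair hQ hx0 hx
  have hR := finrank_comp hp
  obtain ⟨y, hy0, hy⟩ := OOmega.exists_singular h2 (res_pnd hQ hp) (by omega)
  obtain ⟨z, hq⟩ := OOmega.exists_pair (res_pnd hQ hp) hy0 hy
  exact ⟨_, hp, _, hq⟩

theorem eq_root5 [Finite F] (hQ : PND Q) (hn : 5 ≤ finrank F V) (h2 : (2 : F) ≠ 0) :
    commutator ↥(Iso Q) = rootGroup Q := by
  obtain ⟨p, hp, hq⟩ := exists_two_pairs hQ hn h2
  exact commutator_eq_root_of_pair hQ (Or.inr (by omega)) hp hq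

/-- The derived group is perfect. -/
theorem perfect5 [Finite F] (hQ : PND Q) (hn : 5 ≤ finrank F V) (h2 : (2 : F) ≠ 0) :
    ⁅commutator ↥(Iso Q), commutator ↥(Iso Q)⁆ = commutator ↥(Iso Q) := by
  haveI := Fintype.ofFinite F
  obtain ⟨⟨e, f⟩, hp, ⟨⟨a, a'⟩, hq⟩⟩ := exists_two_pairs hQ hn h2
  obtain ⟨he, hf, hef⟩ := id hp
  -- the parameters at the first point
  obtain ⟨D, hD⟩ : ∃ D : V → Prop, D = fun v => ∃ hv : polar Q e v = 0,
      el he hv ∈ ⁅commutator ↥(Iso Q), commutator ↥(Iso Q)⁆ := ⟨_, rfl⟩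
  have hadd : ∀ v w, D v → D w → D (v + w) := by
    rw [hD]
    rintro v w ⟨hv, h⟩ ⟨hw, h'⟩
    exact ⟨_, el_mul he hv hw ▸ mul_mem h h'⟩
  -- images of the root elements of the complement
  have hmove : ∀ a b x : comp Q (e, f), ∀ (ha : res Q (e, f) a = 0), polar (res Q (e, f)) a b = 0 →
      D (polar Q a.1 x.1 • b.1 - (polar Q b.1 x.1 + Q b.1 * polar Q a.1 x.1) • a.1) := by
    intro a b x ha hab
    rw [hD]
    have hab' : polar Q a.1 b.1 = 0 := hab
    have ha' : Q a.1 = 0 := ha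
    obtain ⟨t, ht⟩ : ∃ t, t = el (e := a.1) (v := b.1) ha' hab' := ⟨_, rfl⟩
    have hex : polar Q e x.1 = 0 := (mem_comp.mp x.2).1
    have hte : t.1 e = e := by
      rw [ht, el_apply, polar_comm Q a.1 e, show polar Q e a.1 = 0 from (mem_comp.mp a.2).1, polar_comm Q b.1 e,
        show polar Q e b.1 = 0 from (mem_comp.mp b.2).1]
      simp
    have hm := Subgroup.commutator_mem_commutator (ht ▸ el_mem5 hQ hn ha' hab' : t ∈ commutator ↥(Iso Q))
      (el_mem5 hQ hn he hex)
    rw [commutatorElement_def, el_conj, el_inv he hex] at hm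
    have htx : t.1 x.1 = x.1 + (polar Q a.1 x.1 • b.1 - (polar Q b.1 x.1 + Q b.1 * polar Q a.1 x.1) • a.1) := by
      rw [ht, el_apply, ← add_sub_assoc]
    have hev : polar Q e (t.1 x.1) = 0 := by
      have := polar_iso t.2 e x.1
      rw [hte] at this
      rw [this, hex]
    rw [el_congr _ _ he hev hte rfl, el_mul] at hm
    have e1 : t.1 x.1 + -x.1 = polar Q a.1 x.1 • b.1 - (polar Q b.1 x.1 + Q b.1 * polar Q a.1 x.1) • a.1 := by
      rw [htx]; abel
    have hew : polar Q e (polar Q a.1 x.1 • b.1 - (polar Q b.1 x.1 + Q b.1 * polar Q a.1 x.1) • a.1) = 0 := by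
      rw [← e1, polar_add_right, hev, polar_neg_right, hex, neg_zero, add_zero]
    exact ⟨hew, el_congr _ _ he hew rfl e1 ▸ hm⟩
  -- a hyperbolic pair of the complement gives all of it
  have hhalf : ∀ a a' : comp Q (e, f), IsHPair (res Q (e, f)) (a, a') →
      ∀ b : comp Q (e, f), polar (res Q (e, f)) a b = 0 → D b.1 := by
    rintro a a' ⟨ha, ha', haa'⟩ b hab
    have hline : ∀ c : F, D (c • a.1) := by
      intro c
      have hR := finrank_comp hp
      have hR2 := finrank_comp (p := (a, a')) ⟨ha, ha', haa'⟩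
      obtain ⟨r, hr⟩ := OOmega.exists_nonsing (Q := res (res Q (e, f)) (a, a')) h2
        (res_pnd (res_pnd hQ hp) ⟨ha, ha', haa'⟩) (by omega)
      obtain ⟨r1, -⟩ := mem_comp.mp r.2
      have hr' : Q r.1.1 ≠ 0 := hr
      have har : polar Q a.1 r.1.1 = 0 := r1
      have := hmove a r.1 ((-c / (2 * Q r.1.1)) • r.1) ha r1
      simp only [Submodule.coe_smul, polar_smul_right, har, smul_zero, zero_smul, mul_zero, add_zero, zero_sub,
        smul_eq_mul, polar_self, nsmul_eq_mul, Nat.cast_ofNat] at this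
      rwa [← neg_smul, show -(-c / (2 * Q r.1.1) * (2 * Q r.1.1)) = c by field_simp] at this
    have := hmove a b a' ha hab
    have haa : polar Q a.1 a'.1 = 1 := haa'
    rw [haa, one_smul] at this
    have h3 := hadd _ _ this (hline (polar Q b.1 a'.1 + Q b.1 * 1))
    rwa [sub_add_cancel] at h3
  have hall : ∀ r : comp Q (e, f), D r.1 := by
    intro r
    have h1 : polar (res Q (e, f)) a (r - polar (res Q (e, f)) a r • a') = 0 := by
      rw [polar_sub_right, polar_smul_right, hq.2.2, smul_eq_mul, mul_one, sub_self]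
    have h3 : polar (res Q (e, f)) a' (polar (res Q (e, f)) a r • a') = 0 := by
      rw [polar_smul_right, polar_self_zero hq.2.1, smul_zero]
    have := hadd _ _ (hhalf a a' hq _ h1)
      (hhalf a' a ⟨hq.2.1, hq.1, by rw [polar_comm]; exact hq.2.2⟩ _ h3)
    simpa using this
  refine le_antisymm (Subgroup.commutator_le_self _) ?_
  conv_lhs => rw [eq_root5 hQ hn h2]
  refine (Subgroup.closure_le _).mpr ?_
  rintro g ⟨b, v, hb, hv, -, hg⟩
  rw [SetLike.mem_coe, show g = el hb hv from Subtype.ext hg]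
  by_cases hb0 : b = 0
  · rw [show el hb hv = 1 from Subtype.ext (LinearEquiv.ext fun x => by rw [el_apply, hb0]; simp)]
    exact one_mem _
  have he0 : e ≠ 0 := fun h => by
    rw [h, polar_zero_left] at hef
    exact zero_ne_one hef
  obtain ⟨h, hh⟩ := exists_conj hQ he0 hb0 (hb.trans he.symm)
  obtain ⟨w, hw⟩ : ∃ w, w = h.1.symm v := ⟨_, rfl⟩
  have hew : polar Q e w = 0 := by rw [hw, ← polar_iso h.2, hh, h.1.apply_symm_apply, hv]
  obtain ⟨r, hr⟩ : ∃ r : comp Q (e, f), (r : V) = w - polar Q f w • e := by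
    refine ⟨⟨w - polar Q f w • e, mem_comp.mpr ⟨?_, ?_⟩⟩, rfl⟩
    · rw [polar_sub_right, polar_smul_right, polar_self_zero he, hew]; simp
    · rw [polar_sub_right, polar_smul_right, polar_comm Q f e, hef]; simp
  obtain ⟨hr', hm⟩ : ∃ hr' : polar Q e r.1 = 0, el he hr' ∈ ⁅commutator ↥(Iso Q), commutator ↥(Iso Q)⁆ :=
    (hD ▸ hall r :)
  have hel : el he hr' = el he hew := by
    refine Subtype.ext (LinearEquiv.ext fun x => ?_)
    rw [el_apply, el_apply, hr, map_sub_two, QuadraticMap.map_smul, he, polar_sub_left, polar_smul_left,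
      polar_smul_right, polar_comm Q w e, hew]
    simp only [smul_eq_mul]
    module
  have := (Subgroup.commutator_normal _ _).conj_mem _ (hel ▸ hm) h
  rwa [el_conj, el_congr _ _ hb hv hh (by rw [hw, h.1.apply_symm_apply])] at this

/-- Some element of `N` carries the line of `a` to that of `x`. -/
def Reach (N : Subgroup ↥(commutator ↥(Iso Q))) (a x : V) : Prop :=
  ∃ n ∈ N, ∃ c : F, c ≠ 0 ∧ n.1.1 a = c • x

variable {N : Subgroup ↥(commutator ↥(Iso Q))}

theorem Reach.symm' {a x : V} (h : Reach N a x) : Reach N x a := by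
  obtain ⟨n, hn, c, hc, he⟩ := h
  refine ⟨n⁻¹, inv_mem hn, c⁻¹, inv_ne_zero hc, ?_⟩
  change n.1.1.symm x = _
  rw [LinearEquiv.symm_apply_eq, map_smul, he, smul_smul, inv_mul_cancel₀ hc, one_smul]

theorem Reach.trans' {a b x : V} (h : Reach N a b) (h' : Reach N b x) : Reach N a x := by
  obtain ⟨n, hn, c, hc, he⟩ := h
  obtain ⟨n', hn', c', hc', he'⟩ := h'
  refine ⟨n' * n, mul_mem hn' hn, c * c', mul_ne_zero hc hc', ?_⟩
  change n'.1.1 (n.1.1 a) = _
  rw [he, map_smul, he', smul_smul]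

variable [N.Normal]

/-- From one non-orthogonal point to all. -/
theorem reach_nonperp (hQ : PND Q) (hn5 : 5 ≤ finrank F V) (h2 : (2 : F) ≠ 0) {a b c : V} (ha : Q a = 0) (hb : Q b = 0) (hc : Q c = 0)
    (hab : polar Q a b ≠ 0) (hac : polar Q a c ≠ 0) (h : Reach N a b) : Reach N a c := by
  obtain ⟨n, hn, k, hk, he⟩ := h
  obtain ⟨b', hb'⟩ : ∃ b', b' = (polar Q a b)⁻¹ • b := ⟨_, rfl⟩
  obtain ⟨c', hc'⟩ : ∃ c', c' = (polar Q a c)⁻¹ • c := ⟨_, rfl⟩
  have hb1 : polar Q a b' = 1 := by rw [hb', polar_smul_right, smul_eq_mul, inv_mul_cancel₀ hab]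
  have hc1 : polar Q a c' = 1 := by rw [hc', polar_smul_right, smul_eq_mul, inv_mul_cancel₀ hac]
  have hQb : Q b' = 0 := by rw [hb', QuadraticMap.map_smul, hb, smul_zero]
  have hQc : Q c' = 0 := by rw [hc', QuadraticMap.map_smul, hc, smul_zero]
  obtain ⟨u, hu⟩ : ∃ u, u = c' - b' - polar Q b' c' • a := ⟨_, rfl⟩
  have hau : polar Q a u = 0 := by
    rw [hu, polar_sub_right, polar_sub_right, polar_smul_right, hb1, hc1, polar_self_zero ha]; simp
  have hbu : polar Q u b' = 0 := by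
    rw [hu, polar_sub_left, polar_sub_left, polar_smul_left, polar_comm Q c' b', polar_self_zero hQb, hb1]; simp
  have hQu : Q u = -polar Q b' c' := by
    rw [hu, map_sub_two, map_sub_two, QuadraticMap.map_smul, hQc, hQb, ha, polar_sub_left, polar_smul_right,
      polar_smul_right, polar_comm Q c' a, hc1, polar_comm Q b' a, hb1, polar_comm Q c' b']
    simp
  obtain ⟨g, hg⟩ : ∃ g : ↥(commutator ↥(Iso Q)), g = ⟨el ha hau, el_mem5 hQ hn5 ha hau⟩ := ⟨_, rfl⟩
  have hga : g.1.1 a = a := by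
    rw [hg, el_apply, polar_self_zero ha, polar_comm Q u a, hau]; simp
  have hgb : g.1.1 b' = c' := by
    rw [hg, el_apply, hb1, hbu, hQu, hu]; module
  refine ⟨g * n * g⁻¹, Subgroup.Normal.conj_mem inferInstance n hn g,
    k * polar Q a b * (polar Q a c)⁻¹, mul_ne_zero (mul_ne_zero hk hab) (inv_ne_zero hac), ?_⟩
  change g.1.1 (n.1.1 (g.1.1.symm a)) = _
  conv_lhs => rw [show g.1.1.symm a = a by rw [LinearEquiv.symm_apply_eq, hga]]
  rw [he, show b = polar Q a b • b' by rw [hb', smul_smul, mul_inv_cancel₀ hab, one_smul], map_smul, map_smul, hgb,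
    hc', smul_smul, smul_smul, polar_smul_right, hb1, smul_eq_mul, mul_one]

/-- A normal subgroup moving one singular line is transitive on them. -/
theorem reach_all (hQ : PND Q) (hn5 : 5 ≤ finrank F V) (h2 : (2 : F) ≠ 0) {a x : V} (ha0 : a ≠ 0) (ha : Q a = 0)
    (hax : ∀ c : F, x ≠ c • a) (h : Reach N a x) {p : V} (hp : Q p = 0) (hp0 : p ≠ 0) : Reach N a p := by
  
  have hx : Q x = 0 := by
    obtain ⟨n, -, c, hc, he⟩ := h
    have := n.1.2 a
    rw [he, QuadraticMap.map_smul, ha, smul_eq_mul, mul_eq_zero] at this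
    exact this.resolve_left (mul_ne_zero hc hc)
  -- a non-orthogonal point
  obtain ⟨y, hy, hay, hreach⟩ : ∃ y, Q y = 0 ∧ polar Q a y ≠ 0 ∧ Reach N a y := by
    by_cases h0 : polar Q a x ≠ 0
    · exact ⟨x, hx, h0, h⟩
    push Not at h0
    have hx0 : x ≠ 0 := fun e => hax 0 (by rw [e, zero_smul])
    obtain ⟨z₀, hz₀, hz₀a⟩ := exists_polar_sep hQ (H := Submodule.span F {x}) (x := a)
      (fun hm => by
        obtain ⟨c, hc⟩ := Submodule.mem_span_singleton.mp hm
        have hc0 : c ≠ 0 := fun e => ha0 (by rw [← hc, e, zero_smul])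
        exact hax c⁻¹ (by rw [← hc, smul_smul, inv_mul_cancel₀ hc0, one_smul])) 1
    have hz₀x : polar Q z₀ x = 0 := hz₀ x (Submodule.mem_span_singleton_self x)
    obtain ⟨z, hz⟩ : ∃ z, z = z₀ - Q z₀ • a := ⟨_, rfl⟩
    have hza : polar Q a z = 1 := by
      rw [hz, polar_sub_right, polar_smul_right, polar_comm Q a z₀, hz₀a, polar_self_zero ha]; simp
    have hzx : polar Q z x = 0 := by rw [hz, polar_sub_left, polar_smul_left, hz₀x, h0]; simp
    have hQz : Q z = 0 := by
      rw [hz, map_sub_two, QuadraticMap.map_smul, ha, polar_smul_right, hz₀a]; simp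
    have hpair : IsHPair Q (a, z) := ⟨ha, hQz, hza⟩
    have hR := finrank_comp hpair
    have hRQ := res_pnd hQ hpair
    obtain ⟨xR, hxR⟩ : ∃ xR : comp Q (a, z), (xR : V) = x := ⟨⟨x, mem_comp.mpr ⟨h0, hzx⟩⟩, rfl⟩
    obtain ⟨w₀, hw₀⟩ := exists_pair hRQ (e := xR) (fun e => hx0 (by rw [← hxR, e]; rfl))
      (by rw [res_apply, hxR]; exact hx)
    have hR2 := finrank_comp hw₀
    have hR2Q := res_pnd hRQ hw₀
    obtain ⟨v, hv⟩ : ∃ v, res (res Q (a, z)) (xR, w₀) v ≠ 0 := by
      by_contra hcon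
      push Not at hcon
      haveI : Nontrivial (comp (res Q (a, z)) (xR, w₀)) := Module.nontrivial_of_finrank_pos (R := F) (by omega)
      obtain ⟨v, hv⟩ := exists_ne (0 : comp (res Q (a, z)) (xR, w₀))
      exact hv (hR2Q v fun w => by rw [polar, hcon, hcon, hcon]; ring)
    obtain ⟨v1, v2⟩ := mem_comp.mp v.1.2
    have hvx : polar Q (v.1 : V) x = 0 := by
      rw [polar_comm, ← hxR]
      exact (mem_comp.mp v.2).1
    have hav : polar Q a (v.1 : V) = 0 := v1
    have hzv : polar Q z (v.1 : V) = 0 := v2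
    obtain ⟨n, hn, k, hk, he⟩ := h
    obtain ⟨g, hg⟩ : ∃ g : ↥(commutator ↥(Iso Q)), g = ⟨el hQz hzv, el_mem5 hQ hn5 hQz hzv⟩ := ⟨_, rfl⟩
    have hgx : g.1.1 x = x := by rw [hg, el_apply, hzx, hvx]; simp
    refine ⟨g.1.1 a, (g.1.2 a).trans ha, ?_, (g * n * g⁻¹)⁻¹ * n,
      mul_mem (inv_mem (Subgroup.Normal.conj_mem inferInstance n hn g)) hn, 1, one_ne_zero, ?_⟩
    · rw [hg, el_apply, polar_comm Q z a, hza, polar_comm Q (v.1 : V) a, hav, polar_sub_right, polar_add_right,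
        polar_self_zero ha, polar_smul_right, polar_smul_right, hav, hza]
      simpa [res_apply] using hv
    · change (g * n * g⁻¹).1.1.symm (n.1.1 a) = _
      rw [one_smul, LinearEquiv.symm_apply_eq, he]
      change _ = g.1.1 (n.1.1 (g.1.1.symm (g.1.1 a)))
      rw [LinearEquiv.symm_apply_apply, he, map_smul, hgx]
  by_cases hap : polar Q a p ≠ 0
  · exact reach_nonperp hQ hn5 h2 ha hy hp hay hap hreach
  push Not at hap
  by_cases hd : ∃ c : F, p = c • a
  · obtain ⟨c, rfl⟩ := hd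
    have hc : c ≠ 0 := fun e => hp0 (by rw [e, zero_smul])
    exact ⟨1, one_mem _, c⁻¹, inv_ne_zero hc, by rw [smul_smul, inv_mul_cancel₀ hc, one_smul]; rfl⟩
  push Not at hd
  obtain ⟨q₁, hq₁, hq₁p⟩ := exists_polar_sep hQ (H := Submodule.span F {a}) (x := p)
    (fun hm => by
      obtain ⟨c, hc⟩ := Submodule.mem_span_singleton.mp hm
      exact hd c hc.symm) 1
  obtain ⟨q₂, hq₂, hq₂a⟩ := exists_polar_sep hQ (H := Submodule.span F {p}) (x := a)
    (fun hm => by
      obtain ⟨c, hc⟩ := Submodule.mem_span_singleton.mp hm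
      have hc0 : c ≠ 0 := fun e => ha0 (by rw [← hc, e, zero_smul])
      exact hd c⁻¹ (by rw [← hc, smul_smul, inv_mul_cancel₀ hc0, one_smul])) 1
  have hq₁a : polar Q q₁ a = 0 := hq₁ a (Submodule.mem_span_singleton_self a)
  have hq₂p : polar Q q₂ p = 0 := hq₂ p (Submodule.mem_span_singleton_self p)
  obtain ⟨q, hq⟩ : ∃ q, q = q₁ + q₂ - Q (q₁ + q₂) • a := ⟨_, rfl⟩
  have hqa : polar Q q a = 1 := by
    rw [hq, polar_sub_left, polar_add_left, polar_smul_left, hq₁a, hq₂a, polar_self_zero ha]; simp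
  have hqp : polar Q q p = 1 := by rw [hq, polar_sub_left, polar_add_left, polar_smul_left, hq₁p, hq₂p, hap]; simp
  have hQq : Q q = 0 := by
    rw [hq, map_sub_two, QuadraticMap.map_smul, ha, polar_smul_right, polar_add_left, hq₁a, hq₂a]; simp
  have h1 : Reach N a q := reach_nonperp hQ hn5 h2 ha hy hQq hay
    (by rw [polar_comm, hqa]; exact one_ne_zero) hreach
  exact h1.trans' (reach_nonperp hQ hn5 h2 hQq ha hp (by rw [hqa]; exact one_ne_zero) (by rw [hqp]; exact one_ne_zero)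
    h1.symm')

/-- A normal subgroup moving one singular line is everything. -/
theorem eq_top_of_moves [Finite F] (hQ : PND Q) (hn5 : 5 ≤ finrank F V) (h2 : (2 : F) ≠ 0) {n : ↥(commutator ↥(Iso Q))} (hn : n ∈ N)
    {a : V} (ha : Q a = 0) (hmove : ∀ c : F, n.1.1 a ≠ c • a) : N = ⊤ := by
  have ha0 : a ≠ 0 := fun e => hmove 0 (by rw [e, map_zero, zero_smul])
  obtain ⟨π, hπ⟩ : ∃ π, π = QuotientGroup.mk' N := ⟨_, rfl⟩
  have himg : ∀ (b v : V) (hb : Q b = 0) (hv : polar Q b v = 0), ∃ (v' : V) (hv' : polar Q a v' = 0),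
      π ⟨el hb hv, el_mem5 hQ hn5 hb hv⟩ = π ⟨el ha hv', el_mem5 hQ hn5 ha hv'⟩ := by
    intro b v hb hv
    by_cases hb0 : b = 0
    · refine ⟨0, polar_zero_right _ _, congrArg π (Subtype.ext (Subtype.ext (LinearEquiv.ext fun x => ?_)))⟩
      rw [el_apply, el_apply, hb0]; simp
    obtain ⟨m, hm, c, hc, he⟩ := reach_all hQ hn5 h2 ha0 ha hmove
      ⟨n, hn, 1, one_ne_zero, by rw [one_smul]⟩ hb hb0
    have hv' : polar Q a (m.1.1.symm (c⁻¹ • v)) = 0 := by
      rw [← polar_iso m.1.2, he, m.1.1.apply_symm_apply, polar_smul_left, polar_smul_right, hv, smul_zero, smul_zero]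
    refine ⟨_, hv', ?_⟩
    have e1 : m.1 * el ha hv' * (m.1)⁻¹ = el hb hv := by
      rw [el_conj, el_congr _ _ (e' := c • b) (v' := c⁻¹ • v) (by rw [QuadraticMap.map_smul, hb, smul_zero])
        (by rw [polar_smul_left, polar_smul_right, hv, smul_zero, smul_zero]) he (m.1.1.apply_symm_apply _),
        el_scale c hb (by rw [polar_smul_right, hv, smul_zero])]
      exact el_congr _ _ _ _ rfl (by rw [smul_smul, mul_inv_cancel₀ hc, one_smul])
    have e2 : (⟨el hb hv, el_mem5 hQ hn5 hb hv⟩ : ↥(commutator ↥(Iso Q))) =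
        m * ⟨el ha hv', el_mem5 hQ hn5 ha hv'⟩ * m⁻¹ := Subtype.ext e1.symm
    rw [e2, map_mul, map_mul, map_inv,
      show π m = 1 by rw [hπ, QuotientGroup.mk'_apply, QuotientGroup.eq_one_iff]; exact hm]
    simp
  obtain ⟨S, hS⟩ : ∃ S : Set ↥(commutator ↥(Iso Q)),
      S = {g | ∃ (b v : V) (hb : Q b = 0) (hv : polar Q b v = 0), g.1 = el hb hv} := ⟨_, rfl⟩
  have hgen : ∀ g : ↥(commutator ↥(Iso Q)), g ∈ Subgroup.closure S := by
    rintro ⟨g, hg⟩
    have hg' : g ∈ rootGroup Q := eq_root5 hQ hn5 h2 ▸ hg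
    suffices H : ∀ x ∈ rootGroup Q, ∃ hx : x ∈ commutator ↥(Iso Q), (⟨x, hx⟩ : ↥(commutator ↥(Iso Q))) ∈
        Subgroup.closure S from (H g hg').2
    intro x hx
    refine Subgroup.closure_induction ?_ ⟨one_mem _, one_mem (Subgroup.closure S)⟩ ?_ ?_ hx
    · rintro y ⟨b, v, hb, hv, -, hy⟩
      have hy' : y = el hb hv := Subtype.ext hy
      exact ⟨hy' ▸ el_mem5 hQ hn5 hb hv, Subgroup.subset_closure (hS ▸ ⟨b, v, hb, hv, hy'⟩)⟩
    · rintro y y' _ _ ⟨h1, h1'⟩ ⟨h2, h2'⟩
      exact ⟨mul_mem h1 h2, mul_mem h1' h2'⟩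
    · rintro y _ ⟨h1, h1'⟩
      exact ⟨inv_mem h1, inv_mem h1'⟩
  have hS2 : ∀ g ∈ S, ∀ h ∈ S, π g * π h = π h * π g := by
    rw [hS]
    rintro g ⟨b, v, hb, hv, hg⟩ h ⟨b', v', hb', hv', hh⟩
    obtain ⟨x, hx, ex⟩ := himg b v hb hv
    obtain ⟨y, hy, ey⟩ := himg b' v' hb' hv'
    rw [show g = ⟨el hb hv, el_mem5 hQ hn5 hb hv⟩ from Subtype.ext hg,
      show h = ⟨el hb' hv', el_mem5 hQ hn5 hb' hv'⟩ from Subtype.ext hh, ex, ey, ← map_mul, ← map_mul]
    exact congrArg π (Subtype.ext (by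
      change el ha hx * el ha hy = el ha hy * el ha hx
      rw [el_mul, el_mul]
      exact el_congr _ _ _ _ rfl (add_comm _ _)))
  have hle : commutator ↥(commutator ↥(Iso Q)) ≤ N := by
    rw [show commutator ↥(commutator ↥(Iso Q)) = ⁅(⊤ : Subgroup ↥(commutator ↥(Iso Q))), ⊤⁆ from commutator_def _,
      Subgroup.commutator_le]
    intro g hgt h hht; clear hgt hht
    rw [← QuotientGroup.eq_one_iff, ← QuotientGroup.mk'_apply, ← hπ, map_commutatorElement]
    refine commutatorElement_eq_one_iff_mul_comm.mpr ?_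
    have : ∀ s ∈ S, π s * π h = π h * π s := fun s hs => by
      induction hgen h using Subgroup.closure_induction with
      | mem y hy => exact hS2 s hs y hy
      | one => rw [map_one, one_mul, mul_one]
      | mul y y' _ _ i1 i2 => rw [map_mul, ← mul_assoc, i1, mul_assoc, i2, mul_assoc]
      | inv y _ i1 => rw [map_inv]; exact Commute.inv_right i1
    induction hgen g using Subgroup.closure_induction with
    | mem y hy => exact this y hy
    | one => rw [map_one, one_mul, mul_one]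
    | mul y y' _ _ i1 i2 => rw [map_mul, mul_assoc, i2, ← mul_assoc, i1, mul_assoc]
    | inv y _ i1 => rw [map_inv]; exact Commute.inv_left i1
  refine eq_top_iff.mpr (le_trans (le_of_eq ?_) hle)
  apply Subgroup.map_injective (Subgroup.subtype_injective (commutator ↥(Iso Q)))
  rw [Subgroup.map_subtype_commutator, perfect5 hQ hn5 h2, ← MonoidHom.range_eq_map, Subgroup.range_subtype]

/-- A normal subgroup is central or everything. -/
theorem normal5 [Finite F] (hQ : PND Q) (hn5 : 5 ≤ finrank F V) (h2 : (2 : F) ≠ 0) :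
    N ≤ Subgroup.center ↥(commutator ↥(Iso Q)) ∨ N = ⊤ := by
  haveI := Fintype.ofFinite F
  by_cases hcent : N ≤ Subgroup.center ↥(commutator ↥(Iso Q))
  · exact Or.inl hcent
  right
  obtain ⟨n, hn, hnc⟩ := SetLike.not_le_iff_exists.mp hcent
  obtain ⟨p, hp, ⟨q, hq⟩⟩ := exists_two_pairs hQ hn5 h2
  have hmove : ∃ a, Q a = 0 ∧ ∀ c : F, n.1.1 a ≠ c • a := by
    by_contra hcon
    push Not at hcon
    refine hnc (Subgroup.mem_center_iff.mpr fun k => Subtype.ext (Subtype.ext (LinearEquiv.ext fun x => ?_)))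
    change k.1.1 (n.1.1 x) = n.1.1 (k.1.1 x)
    rcases central_of_lines hQ (p := p) hp (u := q.1.1) (z := q.2.1) q.1.2 q.2.2 hq hcon with e | e <;> rw [e]
    · rfl
    · rw [negI_apply, negI_apply, map_neg]
  obtain ⟨a, ha, hm⟩ := hmove
  exact eq_top_of_moves hQ hn5 h2 hn ha hm

end Cfsg.Agent.Classical.OTPow.Five
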