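/-
The slot group is perfect and quasi-simple.
-/
import Cfsg.Agent.Lib.Classical.OTPow.SlotBase
import Cfsg.Agent.Lib.Classical.OTPow.SlotFive
import Cfsg.Agent.Lib.Classical.TensorNine.Three
import Cfsg.Agent.Lib.Classical.OrthPSimple
import Cfsg.Agent.Lib.Classical.OrthPOmega
import Cfsg.Agent.Lib.Classical.OrthFourMinus

set_option autoImplicit false
set_option linter.unusedSectionVars false

namespace Cfsg.Agent.Classical.OTPow

open Matrix QuadraticMap
open Cfsg.Agent.Classical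
open Cfsg.Agent.Classical.OCount (PND planeForm)
open Cfsg.Agent.Classical.ORefl (Iso)
open Cfsg.Agent.Classical.OOmega (negI negI_apply formOf)

/-- Perfect, with every normal subgroup central or everything. -/
def QSimple {G : Type*} [Group G] (H : Subgroup G) : Prop :=
  ⁅H, H⁆ = H ∧ ∀ N : Subgroup ↥H, N.Normal → N ≤ Subgroup.center ↥H ∨ N = ⊤

theorem qsimple_of_simple {G : Type*} [Group G] {H : Subgroup G} (hs : IsSimpleGroup ↥H)
    (hc : Subgroup.center ↥H = ⊥) : QSimple H := by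
  refine ⟨?_, fun N hN => ?_⟩
  · have hne : commutator ↥H ≠ ⊥ := by
      intro h0
      rw [commutator_def, Subgroup.commutator_eq_bot_iff_le_centralizer, Subgroup.coe_top,
        Subgroup.centralizer_univ, hc] at h0
      obtain ⟨x, hx⟩ := exists_ne (1 : ↥H)
      exact hx ((Subgroup.mem_bot).1 (h0 (Subgroup.mem_top x)))
    have := ((inferInstance : (commutator ↥H).Normal).eq_bot_or_eq_top).resolve_left hne
    rw [← Subgroup.map_subtype_commutator, this, ← MonoidHom.range_eq_map, Subgroup.range_subtype]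
  · refine hN.eq_bot_or_eq_top.imp (fun h => ?_) id
    rw [h]
    exact bot_le

variable {F : Type*} [Field F] [Fintype F] {k : ℕ}

theorem center_scalar {d : Fin k → F} (hd : Shape d) {x : ↥(commutator ↥(Iso (Qd d)))}
    (hx : x ∈ Subgroup.center ↥(commutator ↥(Iso (Qd d)))) :
    ∃ c : F, (slotHom d x.1 : Matrix (Fin k) (Fin k) F) = c • 1 := by
  refine hd.scalar_of_commute fun g hg => ?_
  rw [om_eq_map hd.two] at hg
  obtain ⟨y, hy, rfl⟩ := hg
  have := congrArg (fun z : ↥(commutator ↥(Iso (Qd d))) => (slotHom d z.1 : Matrix (Fin k) (Fin k) F))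
    (Subgroup.mem_center_iff.1 hx ⟨y, hy⟩)
  simpa [map_mul] using this

theorem qsimple_three {d : Fin 3 → F} (hd : Shape d) : QSimple (commutator ↥(Iso (Qd d))) := by
  haveI : Fact ((2 : F) ≠ 0) := ⟨hd.two⟩
  have hQ : Qd d = TensorNine.Qt F := by
    rw [show d = fun _ => (1 : F) from funext fun i => hd.one i (Or.inr (by decide))]
    rfl
  have h5 : 5 ≤ Nat.card F := by
    rw [Nat.card_eq_fintype_card]
    have hodd : Odd (Fintype.card F) := Nat.odd_iff.mpr (FiniteField.odd_card_of_char_ne_two fun h => hd.two (by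
      haveI := ringChar.of_eq h
      exact CharTwo.two_eq_zero))
    have h3 : Fintype.card F ≠ 3 := fun h => hd.q3 ⟨h, rfl⟩
    have h1 : 1 < Fintype.card F := Fintype.one_lt_card
    obtain ⟨r, hr⟩ := hodd
    omega
  rw [hQ]
  exact qsimple_of_simple (TensorNine.isSimple_omegaT h5) TensorNine.center_omegaT

section Four

universe u

variable {F : Type u} [Field F] [Fintype F]

/-- The minus form in four variables in standard coordinates. -/
theorem exists_minus_std {d : Fin 4 → F} (hd : Shape d) :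
    ∃ (b : F) (L : ((Fin 1 ⊕ Fin 1) ⊕ Fin 2 → F) ≃ₗ[F] (Fin 4 → F)),
      (∀ z₁ z₂ : F, z₁ ^ 2 + 0 * z₁ * z₂ + b * z₂ ^ 2 = 0 → z₁ = 0 ∧ z₂ = 0) ∧
      ∀ x, Qd d (L x) = -formOf 1 (Equiv.refl ((Fin 1 ⊕ Fin 1) ⊕ Fin 2)) (planeForm 0 b) x := by
  classical
  have hd4 := hd.four rfl 3 (by simp [Main]; decide)
  have h0 : ∀ i : Fin 4, i ≠ 3 → d i = 1 := fun i hi => hd.one i (Or.inl (by
    have : (i : ℕ) ≠ 3 := fun h => hi (Fin.ext h)
    omega))
  have hab : ∀ z₁ z₂ : F, z₁ ^ 2 + 0 * z₁ * z₂ + -d 3 * z₂ ^ 2 = 0 → z₁ = 0 ∧ z₂ = 0 := by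
    intro z₁ z₂ h
    by_cases hz : z₂ = 0
    · subst hz
      exact ⟨pow_eq_zero_iff two_ne_zero |>.1 (by linear_combination h), rfl⟩
    · refine absurd ⟨z₁ / z₂, ?_⟩ hd4
      field_simp
      linear_combination -h
  obtain ⟨a, c, hac⟩ : ∃ a c : F, a * a + c * c = -1 := by
    obtain ⟨a, c, h⟩ := OOmega.exists_rep (F := F) hd.two one_ne_zero one_ne_zero (-1)
    exact ⟨a, c, by linear_combination h⟩
  let v : ((Fin 1 ⊕ Fin 1) ⊕ Fin 2) → Fin 4 → F
    | .inl (.inl _) => ![a, c, 1, 0]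
    | .inl (.inr _) => (4 : F)⁻¹ • ![a, c, -1, 0]
    | .inr z => if z = 0 then ![-c, a, 0, 0] else ![0, 0, 0, 1]
  let L₀ : ((Fin 1 ⊕ Fin 1) ⊕ Fin 2 → F) →ₗ[F] (Fin 4 → F) := ∑ i, (LinearMap.proj i).smulRight (v i)
  have h4 : (4 : F) ≠ 0 := by
    rw [show (4 : F) = 2 * 2 by norm_num]
    exact mul_ne_zero hd.two hd.two
  have hL : ∀ x, Qd d (L₀ x) = -formOf 1 (Equiv.refl ((Fin 1 ⊕ Fin 1) ⊕ Fin 2)) (planeForm 0 (-d 3)) x := by
    intro x
    rw [congrFun (OOmega.coe_minus 1 0 (-d 3)) x]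
    simp only [L₀, v, LinearMap.sum_apply, LinearMap.smulRight_apply, LinearMap.proj_apply, Fintype.sum_sum_type,
      Fin.sum_univ_one, Fin.sum_univ_two, Qd_apply, Fin.sum_univ_four, Cfsg.quadFormMinus, Pi.add_apply,
      Pi.smul_apply, smul_eq_mul, h0 0 (by decide), h0 1 (by decide), h0 2 (by decide)]
    simp only [LinearMap.add_apply, LinearMap.smulRight_apply, LinearMap.proj_apply, Pi.add_apply, Pi.smul_apply,
      Matrix.cons_val, ↓reduceIte, Fin.reduceEq, Fin.isValue, smul_eq_mul]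
    field_simp
    linear_combination ((4 * x (.inl (.inl 0)) + x (.inl (.inr 0))) ^ 2 + 16 * x (.inr 0) ^ 2) * hac
  have hinj : Function.Injective L₀ := by
    rw [injective_iff_map_eq_zero]
    intro x hx
    refine OOmega.formOf_pnd (m := 1) (e := Equiv.refl ((Fin 1 ⊕ Fin 1) ⊕ Fin 2)) (OOmega.pnd_plane hab) x fun y => ?_
    have : ∀ z, formOf 1 (Equiv.refl ((Fin 1 ⊕ Fin 1) ⊕ Fin 2)) (planeForm 0 (-d 3)) z = -Qd d (L₀ z) :=
      fun z => by rw [hL, neg_neg]
    simp only [polar, this, map_add, hx, zero_add, QuadraticMap.map_zero, neg_zero, sub_zero, sub_self]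
  exact ⟨-d 3, LinearMap.linearEquivOfInjective L₀ hinj (by simp), hab, hL⟩

theorem qsimple_four {d : Fin 4 → F} (hd : Shape d) : QSimple (commutator ↥(Iso (Qd d))) := by
  classical
  obtain ⟨b, L, hab, hL⟩ := exists_minus_std hd
  obtain ⟨Qm, hQm⟩ : ∃ Qm, Qm = formOf 1 (Equiv.refl ((Fin 1 ⊕ Fin 1) ⊕ Fin 2)) (planeForm (0 : F) b) := ⟨_, rfl⟩
  rw [← hQm] at hL
  have hL' : ∀ y, Qm (L.symm y) = -Qd d y := fun y => by
    rw [show Qd d y = Qd d (L (L.symm y)) by rw [L.apply_symm_apply], hL, neg_neg]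
  let Φ : ↥(Iso Qm) ≃* ↥(Iso (Qd d)) :=
    { toFun := fun g => ⟨L.symm.trans (g.1.trans L), fun x => by
        show Qd d (L (g.1 (L.symm x))) = _
        rw [hL, g.2, hL', neg_neg]⟩
      invFun := fun g => ⟨L.trans (g.1.trans L.symm), fun x => by
        show Qm (L.symm (g.1 (L x))) = _
        rw [hL', g.2, hL, neg_neg]⟩
      left_inv := fun g => Subtype.ext (LinearEquiv.ext fun x => by
        show L.symm (L (g.1 (L.symm (L x)))) = _
        rw [L.symm_apply_apply, L.symm_apply_apply])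
      right_inv := fun g => Subtype.ext (LinearEquiv.ext fun x => by
        show L (L.symm (g.1 (L (L.symm x)))) = _
        rw [L.apply_symm_apply, L.apply_symm_apply])
      map_mul' := fun g g' => Subtype.ext (LinearEquiv.ext fun x => by
        show L (g.1 (g'.1 (L.symm x))) = L (g.1 (L.symm (L (g'.1 (L.symm x)))))
        rw [L.symm_apply_apply]) }
  have hmap : (commutator ↥(Iso Qm)).map Φ.toMonoidHom = commutator ↥(Iso (Qd d)) := by
    rw [commutator_def, Subgroup.map_commutator, Subgroup.map_top_of_surjective _ Φ.surjective, ← commutator_def]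
  have hodd : Odd (Fintype.card F) := Nat.odd_iff.mpr (FiniteField.odd_card_of_char_ne_two fun h => hd.two (by
    haveI := ringChar.of_eq h
    exact CharTwo.two_eq_zero))
  have hneg : negI (Qd d) ∉ commutator ↥(Iso (Qd d)) := by
    intro h
    rw [← hmap] at h
    obtain ⟨g, hg, hge⟩ := h
    have : g = negI Qm := Φ.injective (hge.trans (Subtype.ext (LinearEquiv.ext fun x => by
      show -x = L (-(L.symm x))
      rw [map_neg, L.apply_symm_apply])))
    subst this hQm
    have := (OOmega.negI_minus hodd (m := 2) (by norm_num) 0 b hab).1 hg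
    obtain ⟨r, hr⟩ := hodd
    rw [hr, show (2 * r + 1) ^ 2 = 4 * (r * r + r) + 1 by ring] at this
    omega
  have hcen : Subgroup.center ↥(commutator ↥(Iso (Qd d))) = ⊥ := by
    rw [Subgroup.eq_bot_iff_forall]
    intro x hx
    obtain ⟨c, hc⟩ := center_scalar hd hx
    have hap : ∀ y, x.1.1 y = c • y := fun y => by rw [← slotHom_apply, hc, Matrix.smul_mulVec, Matrix.one_mulVec]
    have hcc : c * c = 1 := by
      have := x.1.2 (Pi.single 0 1)
      rw [hap, QuadraticMap.map_smul, smul_eq_mul] at this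
      refine mul_right_cancel₀ ?_ (this.trans (one_mul _).symm)
      rw [Qd_apply, Finset.sum_eq_single 0 (fun j _ hj => by simp [Pi.single_eq_of_ne hj]) (by simp)]
      simp [hd.ne 0]
    rcases mul_self_eq_one_iff.1 hcc with rfl | rfl
    · exact Subtype.ext (Subtype.ext (LinearEquiv.ext fun y => by rw [hap, one_smul]; rfl))
    · exact absurd ((Subtype.ext (LinearEquiv.ext fun y => by
        rw [hap, negI_apply, neg_one_smul] : x.1.1 = (negI (Qd d)).1)) ▸ x.2 : negI (Qd d) ∈ _) hneg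
  let e₀ : ↥(commutator ↥(Iso Qm)) ≃* ↥(commutator ↥(Iso (Qd d))) :=
    ((commutator ↥(Iso Qm)).equivMapOfInjective _ Φ.injective).trans (MulEquiv.subgroupCongr hmap)
  obtain ⟨E, fE, ftE, hcard, ⟨e⟩⟩ := SmallIso.pOmega_four_minus hab
  rw [← OOmega.coe_minus 1 0 b, ← hQm] at e
  have hcen' : Subgroup.center ↥(commutator ↥(Iso Qm)) = ⊥ := by
    rw [Subgroup.eq_bot_iff_forall]
    intro x hx
    have h1 := (Subgroup.centerCongr e₀ ⟨x, hx⟩).2
    exact e₀.injective (((Subgroup.eq_bot_iff_forall _).mp hcen _ h1).trans (map_one e₀).symm)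
  haveI : IsSimpleGroup (Matrix.ProjectiveSpecialLinearGroup (Fin 2) E) :=
    Matrix.ProjectiveSpecialLinearGroup.rank_two_simple (by
      rw [Nat.card_eq_fintype_card, hcard]
      have := Fintype.one_lt_card (α := F)
      nlinarith)
  let E' : Matrix.ProjectiveSpecialLinearGroup (Fin 2) E ≃* ↥(commutator ↥(Iso (Qd d))) :=
    (((((QuotientGroup.quotientBot).symm.trans (QuotientGroup.quotientMulEquivOfEq hcen'.symm)).trans
      (OOmega.pOmegaEquiv Qm)).trans e).symm).trans e₀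
  haveI : Nontrivial ↥(commutator ↥(Iso (Qd d))) := E'.toEquiv.symm.nontrivial
  exact qsimple_of_simple (IsSimpleGroup.isSimpleGroup_of_surjective E'.toMonoidHom E'.surjective) hcen

end Four

theorem Shape.qsimple {d : Fin k → F} (hd : Shape d) : QSimple (commutator ↥(Iso (Qd d))) := by
  have h3 := hd.three
  rcases (show k = 3 ∨ k = 4 ∨ 5 ≤ k by omega) with h | h | h
  · subst h; exact qsimple_three hd
  · subst h; exact qsimple_four hd
  · have h5 : 5 ≤ Module.finrank F (Fin k → F) := by simpa using h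
    refine ⟨Five.perfect5 (pnd_Qd hd.two hd.ne) h5 hd.two, fun N hN => ?_⟩
    haveI := hN
    exact Five.normal5 (pnd_Qd hd.two hd.ne) h5 hd.two

/-- The slot group is perfect. -/
theorem Shape.om_perfect {d : Fin k → F} (hd : Shape d) : ⁅Om d, Om d⁆ = Om d := by
  rw [om_eq_map hd.two, ← Subgroup.map_commutator, hd.qsimple.1]

/-- A subgroup of the slot group normalised by it is scalar or everything. -/
theorem Shape.om_cases {d : Fin k → F} (hd : Shape d) {N : Subgroup (GL (Fin k) F)} (hN : N ≤ Om d)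
    (hn : ∀ h ∈ Om d, ∀ x ∈ N, h * x * h⁻¹ ∈ N) :
    N = Om d ∨ ∀ g ∈ N, ∃ c : F, (g : Matrix (Fin k) (Fin k) F) = c • 1 := by
  have hm : ∀ {g}, g ∈ Om d → ∃ x : ↥(commutator ↥(Iso (Qd d))), slotHom d x.1 = g := fun {g} hg => by
    rw [om_eq_map hd.two] at hg
    obtain ⟨x, hx, e⟩ := hg
    exact ⟨⟨x, hx⟩, e⟩
  have hin : ∀ x : ↥(commutator ↥(Iso (Qd d))), slotHom d x.1 ∈ Om d := fun x => by
    rw [om_eq_map hd.two]
    exact ⟨x.1, x.2, rfl⟩
  obtain ⟨N', hN'⟩ : ∃ N', N' = N.comap ((slotHom d).comp (commutator ↥(Iso (Qd d))).subtype) := ⟨_, rfl⟩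
  have : N'.Normal := hN' ▸ ⟨fun x hx h => by
    simp only [Subgroup.mem_comap, map_mul, map_inv] at hx ⊢
    exact hn _ (hin h) _ hx⟩
  rcases hd.qsimple.2 N' this with h | h
  · refine Or.inr fun g hg => ?_
    obtain ⟨x, rfl⟩ := hm (hN hg)
    exact center_scalar hd (h (hN' ▸ hg))
  · refine Or.inl (le_antisymm hN fun g hg => ?_)
    obtain ⟨x, rfl⟩ := hm hg
    have : x ∈ N' := h ▸ Subgroup.mem_top x
    rw [hN'] at this
    exact this

end Cfsg.Agent.Classical.OTPow
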