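/-
Signs in the group, fibres along one slot, and sign functions that are products over the slots.
-/
import Cfsg.Agent.Lib.Classical.OTPow.Slot

set_option autoImplicit false
set_option linter.unusedSectionVars false

namespace Cfsg.Agent.Classical.OTPow

open Matrix
open scoped commutatorElement

variable {F : Type*} [Field F] {k : ℕ} {σ : Type} [Fintype σ] [DecidableEq σ]

/-- A scalar matrix. -/
def Scal {ι : Type*} [Fintype ι] [DecidableEq ι] (g : GL ι F) : Prop :=
  ∃ c : F, (g : Matrix ι ι F) = c • 1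

theorem Scal.commute {ι : Type*} [Fintype ι] [DecidableEq ι] {g : GL ι F} (h : Scal g) (x : GL ι F) : Commute g x := by
  obtain ⟨c, hc⟩ := h
  refine Units.ext ?_
  rw [Units.val_mul, Units.val_mul, hc, Matrix.smul_mul, Matrix.one_mul, Matrix.mul_smul, Matrix.mul_one]

theorem scal_one {ι : Type*} [Fintype ι] [DecidableEq ι] : Scal (1 : GL ι F) := ⟨1, by simp⟩

/-- The fibre along slot `l` through `a`. -/
def fibM (l : σ) (G : Matrix (σ → Fin k) (σ → Fin k) F) (a : σ → Fin k) : Matrix (Fin k) (Fin k) F :=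
  G.submatrix (Function.update a l) (Function.update a l)

theorem fibM_apply (l : σ) (G : Matrix (σ → Fin k) (σ → Fin k) F) (a : σ → Fin k) (u v : Fin k) :
    fibM l G a u v = G (Function.update a l u) (Function.update a l v) := rfl

theorem fibM_mul {l : σ} {G : Matrix (σ → Fin k) (σ → Fin k) F} (hG : BlkM {l}ᶜ G)
    (H : Matrix (σ → Fin k) (σ → Fin k) F) (a : σ → Fin k) : fibM l (G * H) a = fibM l G a * fibM l H a := by
  classical
  ext u v
  rw [fibM_apply, Matrix.mul_apply, Matrix.mul_apply,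
    ← Finset.sum_subset (Finset.subset_univ (Finset.univ.image (Function.update a l)))]
  · rw [Finset.sum_image fun x _ y _ h => by simpa using congrFun h l]
    rfl
  · intro z _ hz
    by_contra hne
    refine hz (Finset.mem_image.2 ⟨z l, Finset.mem_univ _, funext fun j => ?_⟩)
    rcases eq_or_ne j l with rfl | hj
    · rw [Function.update_self]
    · rw [← hG _ _ (left_ne_zero_of_mul hne) j (by simp [hj]), Function.update_of_ne hj, Function.update_of_ne hj]

theorem fibM_facS (l : σ) (Y : Matrix (Fin k) (Fin k) F) (a : σ → Fin k) : fibM l (facS l Y) a = Y := by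
  ext u v
  rw [fibM_apply, facS_apply_update]

theorem fibM_diagonal (l : σ) (f : (σ → Fin k) → F) (a : σ → Fin k) :
    fibM l (Matrix.diagonal f) a = Matrix.diagonal fun u => f (Function.update a l u) :=
  Matrix.submatrix_diagonal _ _ fun x y h => by simpa using congrFun h l

theorem fibM_update (l : σ) (G : Matrix (σ → Fin k) (σ → Fin k) F) (a : σ → Fin k) (u : Fin k) :
    fibM l G (Function.update a l u) = fibM l G a := by
  ext x y
  simp [fibM_apply]

theorem fibM_ext {l : σ} {G H : Matrix (σ → Fin k) (σ → Fin k) F} (hG : BlkM {l}ᶜ G) (hH : BlkM {l}ᶜ H)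
    (h : ∀ a, fibM l G a = fibM l H a) : G = H := by
  ext a b
  by_cases hab : ∀ j, j ≠ l → a j = b j
  · have := congrFun (congrFun (h a) (a l)) (b l)
    rwa [fibM_apply, fibM_apply, Function.update_eq_self,
      show Function.update a l (b l) = b from funext fun j => by
        rcases eq_or_ne j l with rfl | hj
        · rw [Function.update_self]
        · rw [Function.update_of_ne hj, hab j hj]] at this
  · push Not at hab
    obtain ⟨j, hj, hne⟩ := hab
    rw [by_contra fun h0 => hne (hG a b h0 j (by simp [hj])), by_contra fun h0 => hne (hH a b h0 j (by simp [hj]))]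

theorem facS_blkM (l : σ) (Y : Matrix (Fin k) (Fin k) F) : BlkM {l}ᶜ (facS l Y) := fun a b hab j hj => by
  rw [facS_apply] at hab
  split_ifs at hab with h
  · exact h j (by simpa using hj)
  · exact absurd rfl hab

theorem diagonal_blkM (J : Finset σ) (f : (σ → Fin k) → F) : BlkM J (Matrix.diagonal f) := fun a b hab _ _ => by
  rw [show a = b from by_contra fun h => hab (Matrix.diagonal_apply_ne _ h)]

theorem BlkM.mul {J : Finset σ} {G H : Matrix (σ → Fin k) (σ → Fin k) F} (hG : BlkM J G) (hH : BlkM J H) :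
    BlkM J (G * H) := fun a b hab l hl => by
  rw [Matrix.mul_apply] at hab
  obtain ⟨c, -, hc⟩ := Finset.exists_ne_zero_of_sum_ne_zero hab
  rw [hG _ _ (left_ne_zero_of_mul hc) l hl, hH _ _ (right_ne_zero_of_mul hc) l hl]

/-- The diagonal element of a sign function. -/
def diagG {ι : Type*} [Fintype ι] [DecidableEq ι] (ε : ι → F) (h : ∀ i, ε i * ε i = 1) : GL ι F where
  val := Matrix.diagonal ε
  inv := Matrix.diagonal ε
  val_inv := by rw [Matrix.diagonal_mul_diagonal, funext h, Matrix.diagonal_one]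
  inv_val := by rw [Matrix.diagonal_mul_diagonal, funext h, Matrix.diagonal_one]

theorem diagG_val {ι : Type*} [Fintype ι] [DecidableEq ι] (ε : ι → F) (h : ∀ i, ε i * ε i = 1) :
    (diagG ε h : Matrix ι ι F) = Matrix.diagonal ε := rfl

theorem diagG_inv {ι : Type*} [Fintype ι] [DecidableEq ι] (ε : ι → F) (h : ∀ i, ε i * ε i = 1) :
    (diagG ε h)⁻¹ = diagG ε h :=
  inv_eq_of_mul_eq_one_left (Units.ext (by
    rw [Units.val_mul, diagG_val, Matrix.diagonal_mul_diagonal, funext h, Matrix.diagonal_one]; rfl))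

variable [Fintype F]

theorem Shape.fact {d : Fin k → F} (hd : Shape d) : Fact (3 ≤ k ∧ (2 : F) ≠ 0) := ⟨hd.three, hd.two⟩

theorem Shape.mem_Blk {d : Fin k → F} (hd : Shape d) {J : Finset σ} {g : GL (σ → Fin k) F} :
    g ∈ Blk F k J ↔ BlkM J (g : Matrix (σ → Fin k) (σ → Fin k) F) :=
  OTPow.mem_Blk hd.three hd.two

theorem Ctx.sg_mem {d : Fin k → F} {X : Subgroup (GL (σ → Fin k) F)} (C : Ctx d X) (l : σ) {S : Finset (Fin k)}
    (hS : Gen S) : facG l (sg S) ∈ X := by
  rcases hS with ⟨h4, -⟩ | ⟨-, h2, hm⟩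
  · exact C.ext (h4 ▸ by decide) l _ (sg_iso d S)
  · obtain ⟨a, b, hab, rfl⟩ := Finset.card_eq_two.1 h2
    exact C.omega l _ (C.shape.pair_mem (hm a (by simp)) (hm b (by simp)) hab)

theorem Ctx.pair_mem {d : Fin k → F} {X : Subgroup (GL (σ → Fin k) F)} (C : Ctx d X) (l : σ) {a b : Fin k}
    (ha : Main a) (hb : Main b) (hab : a ≠ b) : facG l (sg {a, b}) ∈ X :=
  C.omega l _ (C.shape.pair_mem ha hb hab)

/-- An element conjugating every element of the slot group to a scalar multiple of itself is scalar. -/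
theorem Shape.scal_of_twist {d : Fin k → F} (hd : Shape d) {A : GL (Fin k) F}
    (h : ∀ g ∈ Om d, ∃ z, Scal z ∧ A * g * A⁻¹ = z * g) : Scal A := by
  refine hd.scalar_of_commute fun g hg => ?_
  have hc : ∀ g ∈ Om d, Commute g A := by
    intro g hg
    rw [← hd.om_perfect] at hg
    have : ⁅Om d, Om d⁆ ≤ Subgroup.centralizer {A} := by
      rw [Subgroup.commutator_le]
      intro x hx y hy
      obtain ⟨z, hz, e1⟩ := h x hx
      obtain ⟨w, hw, e2⟩ := h y hy
      rw [Subgroup.mem_centralizer_iff]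
      intro B hB
      rw [Set.mem_singleton_iff] at hB
      subst hB
      refine (mul_inv_eq_iff_eq_mul.1 ?_)
      have c1 : ∀ u, Commute z u := fun u => hz.commute u
      have c2 : ∀ u, Commute w u := fun u => hw.commute u
      rw [← MulAut.conj_apply, map_commutatorElement, MulAut.conj_apply, MulAut.conj_apply, e1, e2,
        commutatorElement_def, commutatorElement_def]
      calc z * x * (w * y) * (z * x)⁻¹ * (w * y)⁻¹ = z * (x * w) * y * x⁻¹ * z⁻¹ * y⁻¹ * w⁻¹ := by group
        _ = z * (w * x) * y * x⁻¹ * z⁻¹ * y⁻¹ * w⁻¹ := by rw [(c2 x).eq]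
        _ = (z * w) * (x * y * x⁻¹) * (z⁻¹ * y⁻¹) * w⁻¹ := by group
        _ = (z * w) * (x * y * x⁻¹) * (y⁻¹ * z⁻¹) * w⁻¹ := by rw [((c1 y).inv_inv).eq]
        _ = (z * w) * (x * y * x⁻¹ * y⁻¹) * (w * z)⁻¹ := by group
        _ = (z * w) * ((w * z)⁻¹ * (x * y * x⁻¹ * y⁻¹)) := by
          rw [mul_assoc, ((c2 _).mul_left (c1 (x * y * x⁻¹ * y⁻¹))).inv_left.eq]
        _ = x * y * x⁻¹ * y⁻¹ := by rw [(c1 w).eq, mul_inv_cancel_left]
    exact ((Subgroup.mem_centralizer_iff.1 (this hg)) A rfl).symm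
  exact congrArg Units.val (hc g hg).eq

/-- The elements acting block-diagonally along one slot are proportional on all its fibres. -/
def Pure1 (X : Subgroup (GL (σ → Fin k) F)) : Prop :=
  ∀ l, ∀ g ∈ X, BlkM {l}ᶜ (g : Matrix (σ → Fin k) (σ → Fin k) F) →
    ∀ a a', ∃ c : F, fibM l (g : Matrix (σ → Fin k) (σ → Fin k) F) a = c • fibM l (g : Matrix (σ → Fin k) (σ → Fin k) F) a'

/-- Sign functions giving commutators in the group are proportional along the slot. -/
theorem Pure1.sign_step {d : Fin k → F} (hd : Shape d) {X : Subgroup (GL (σ → Fin k) F)} (hP : Pure1 X)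
    {ε : (σ → Fin k) → F} (hε : ∀ a, ε a * ε a = 1) {l : σ}
    (h : ∀ g ∈ Om d, diagG ε hε * facG l g * (diagG ε hε)⁻¹ * (facG l g)⁻¹ ∈ X) (a a' : σ → Fin k) :
    ∃ c : F, ∀ u, ε (Function.update a l u) = c * ε (Function.update a' l u) := by
  obtain ⟨δ, hδ⟩ : ∃ δ : (σ → Fin k) → GL (Fin k) F,
      δ = fun b => diagG (fun u => ε (Function.update b l u)) fun u => hε _ := ⟨_, rfl⟩
  have hδv : ∀ b, (δ b : Matrix (Fin k) (Fin k) F) = Matrix.diagonal fun u => ε (Function.update b l u) := fun b => by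
    rw [hδ]; rfl
  have hδi : ∀ b, (δ b)⁻¹ = δ b := fun b => by rw [hδ]; exact diagG_inv _ _
  have key : Scal (δ a' * δ a) := by
    refine hd.scal_of_twist fun g hg => ?_
    have hb : ∀ (e : (σ → Fin k) → F) (Y : Matrix (Fin k) (Fin k) F), BlkM {l}ᶜ (Matrix.diagonal e * facS l Y) :=
      fun e Y => (diagonal_blkM _ e).mul (facS_blkM l Y)
    obtain ⟨c, hc⟩ := hP l _ (h g hg) (by
      rw [diagG_inv, ← map_inv, Units.val_mul, Units.val_mul, Units.val_mul, diagG_val, facG_val, facG_val,
        Matrix.mul_assoc (Matrix.diagonal ε * _)]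
      exact (hb _ _).mul (hb _ _)) a a'
    have hfib : ∀ b, fibM l ((diagG ε hε * facG l g * (diagG ε hε)⁻¹ * (facG l g)⁻¹ : GL (σ → Fin k) F) :
        Matrix (σ → Fin k) (σ → Fin k) F) b = ((δ b * g * δ b * g⁻¹ : GL (Fin k) F) : Matrix (Fin k) (Fin k) F) := by
      intro b
      rw [diagG_inv, ← map_inv, Units.val_mul, Units.val_mul, Units.val_mul, diagG_val, facG_val, facG_val,
        Matrix.mul_assoc (Matrix.diagonal ε * _), fibM_mul (hb _ _), fibM_mul (diagonal_blkM _ _),
        fibM_mul (diagonal_blkM _ _), fibM_diagonal, fibM_facS, fibM_facS, Units.val_mul, Units.val_mul,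
        Units.val_mul, hδv, Matrix.mul_assoc (_ * _)]
    rw [hfib, hfib] at hc
    have hc0 : c ≠ 0 := fun h0 => by
      rw [h0, zero_smul] at hc
      haveI : Nonempty (Fin k) := ⟨⟨0, by have := hd.three; omega⟩⟩
      exact (Units.isUnit _).ne_zero hc
    obtain ⟨z, hz⟩ : ∃ z : GL (Fin k) F, z = Units.map (Matrix.scalar (Fin k) : F →+* _).toMonoidHom (Units.mk0 c hc0) :=
      ⟨_, rfl⟩
    have hzv : (z : Matrix (Fin k) (Fin k) F) = c • 1 := by
      rw [hz]
      show Matrix.scalar (Fin k) c = _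
      rw [Matrix.scalar_apply, ← Matrix.smul_one_eq_diagonal]
    have e : δ a * g * δ a * g⁻¹ = z * (δ a' * g * δ a' * g⁻¹) :=
      Units.ext (by rw [Units.val_mul z, hzv, Matrix.smul_mul, Matrix.one_mul, hc])
    refine ⟨z, ⟨c, hzv⟩, ?_⟩
    have e1 : δ a * g * δ a = z * (δ a' * g * δ a') := by
      calc δ a * g * δ a = δ a * g * δ a * g⁻¹ * g := by group
        _ = _ := by rw [e]; group
    have hzc : ∀ u, Commute z u := fun u => Scal.commute ⟨c, hzv⟩ u
    have h' : ∀ b, δ b * δ b = 1 := fun b => by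
      nth_rewrite 2 [← hδi b]
      exact mul_inv_cancel _
    calc δ a' * δ a * g * (δ a' * δ a)⁻¹ = δ a' * (δ a * g * δ a) * δ a' := by
          rw [_root_.mul_inv_rev, hδi, hδi]; group
      _ = z * (δ a' * δ a' * g * (δ a' * δ a')) := by rw [e1, ← mul_assoc (δ a') z, (hzc (δ a')).eq.symm]; group
      _ = z * g := by rw [h', one_mul, mul_one]
  obtain ⟨c, hc⟩ := key
  refine ⟨c, fun u => ?_⟩
  have e := congrFun (congrFun hc u) u
  rw [Units.val_mul, hδv, hδv, Matrix.diagonal_mul_diagonal, Matrix.diagonal_apply_eq, Matrix.smul_apply,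
    Matrix.one_apply_eq, smul_eq_mul, mul_one] at e
  calc ε (Function.update a l u) =
      ε (Function.update a' l u) * (ε (Function.update a' l u) * ε (Function.update a l u)) := by
        rw [← mul_assoc, hε, one_mul]
    _ = _ := by rw [e, mul_comm]

/-- Sign functions proportional along every slot of a set, independent of the others, are pure. -/
theorem prod_form {ε : (σ → Fin k) → F} (hε : ∀ a, ε a * ε a = 1)
    (h : ∀ l a a', ∃ c : F, ∀ u, ε (Function.update a l u) = c * ε (Function.update a' l u)) (a₀ a : σ → Fin k) :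
    ε a = ε a₀ * ∏ l, (ε (Function.update a₀ l (a l)) * ε a₀) := by
  suffices ∀ s : Finset σ, ε (s.piecewise a a₀) = ε a₀ * ∏ l ∈ s, (ε (Function.update a₀ l (a l)) * ε a₀) by
    simpa using this Finset.univ
  intro s
  induction s using Finset.induction with
  | empty => simp
  | insert l s hl ih =>
    obtain ⟨c, hc⟩ := h l (s.piecewise a a₀) a₀
    have h1 := hc (a₀ l)
    rw [show Function.update (s.piecewise a a₀) l (a₀ l) = s.piecewise a a₀ by
      conv_lhs => rw [← Finset.piecewise_eq_of_notMem s a a₀ hl]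
      rw [Function.update_eq_self], Function.update_eq_self, ih] at h1
    rw [Finset.piecewise_insert, hc, Finset.prod_insert hl]
    have hc' : c = ∏ l ∈ s, (ε (Function.update a₀ l (a l)) * ε a₀) := by
      calc c = ε a₀ * (c * ε a₀) := by rw [mul_comm c, ← mul_assoc, hε, one_mul]
        _ = _ := by rw [← h1, ← mul_assoc, hε, one_mul]
    rw [← hc']
    linear_combination (-(c * ε (Function.update a₀ l (a l)))) * hε a₀

/-- Sign functions proportional along every slot give standard elements. -/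
theorem diagG_std [Nonempty σ] {ε : (σ → Fin k) → F} (hε : ∀ a, ε a * ε a = 1)
    (h : ∀ l a a', ∃ c : F, ∀ u, ε (Function.update a l u) = c * ε (Function.update a' l u)) :
    diagG ε hε ∈ Std F k σ := by
  rcases isEmpty_or_nonempty (Fin k) with hk | hk
  · convert one_mem (Std F k σ)
    refine Units.ext (Matrix.ext fun a => ?_)
    exact (IsEmpty.false (a (Classical.arbitrary σ))).elim
  obtain ⟨a₀⟩ : Nonempty (σ → Fin k) := inferInstance
  obtain ⟨l₀⟩ := ‹Nonempty σ›
  obtain ⟨v, hv⟩ : ∃ v : σ → Fin k → F, v = fun l u =>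
      (if l = l₀ then ε a₀ else 1) * (ε (Function.update a₀ l u) * ε a₀) := ⟨_, rfl⟩
  have hv1 : ∀ l u, v l u * v l u = 1 := fun l u => by
    rw [hv]
    dsimp only
    split_ifs
    · linear_combination (ε (Function.update a₀ l u) * ε (Function.update a₀ l u)) * (ε a₀ * ε a₀ + 1) * hε a₀ +
        hε (Function.update a₀ l u)
    · linear_combination (ε (Function.update a₀ l u) * ε (Function.update a₀ l u)) * hε a₀ +
        hε (Function.update a₀ l u)
  convert pureG_mem fun l => diagG (v l) (hv1 l) using 1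
  refine Units.ext ?_
  rw [diagG_val, pureG_val]
  simp only [diagG_val]
  rw [pureS_diagonal]
  refine congrArg _ (funext fun a => ?_)
  rw [prod_form hε h a₀ a, hv]
  dsimp only
  conv_rhs => rw [Finset.prod_mul_distrib, Finset.prod_ite_eq' Finset.univ l₀, if_pos (Finset.mem_univ l₀)]

end Cfsg.Agent.Classical.OTPow
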