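/-
Involutions of the general linear group: diagonal form and the signed count of eigenvalues.
-/
import Cfsg.Agent.Lib.Classical.OTPow.Facts

set_option autoImplicit false
set_option linter.unusedSectionVars false

namespace Cfsg.Agent.Classical.OTPow

open Matrix

variable {F : Type*} [Field F]

section Gen

variable {ι : Type*} [Fintype ι] [DecidableEq ι]

/-- An involution is conjugate to a diagonal one. -/
theorem exists_diag_invol (h2 : (2 : F) ≠ 0) {g : GL ι F} (hg : g * g = 1) :
    ∃ (P : GL ι F) (f : ι → F), (∀ i, f i * f i = 1) ∧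
      ((P⁻¹ * g * P : GL ι F) : Matrix ι ι F) = Matrix.diagonal f := by
  classical
  obtain ⟨L, hL⟩ : ∃ L : Module.End F (ι → F), L = Matrix.toLin' (g : Matrix ι ι F) := ⟨_, rfl⟩
  have hgg : (g : Matrix ι ι F) * (g : Matrix ι ι F) = 1 := by rw [← Units.val_mul, hg, Units.val_one]
  have hLL : ∀ x, L (L x) = x := fun x => by
    rw [hL, Matrix.toLin'_apply, Matrix.toLin'_apply, Matrix.mulVec_mulVec, hgg, Matrix.one_mulVec]
  have hc : IsCompl (L.eigenspace 1) (L.eigenspace (-1)) := by
    constructor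
    · rw [Submodule.disjoint_def]
      intro x hx hy
      rw [Module.End.mem_eigenspace_iff, one_smul] at hx
      rw [Module.End.mem_eigenspace_iff, hx, neg_smul, one_smul] at hy
      have : (2 : F) • x = 0 := by rw [two_smul]; exact eq_neg_iff_add_eq_zero.1 hy
      exact (smul_eq_zero.1 this).resolve_left h2
    · rw [codisjoint_iff, eq_top_iff]
      intro x _
      refine Submodule.mem_sup.2 ⟨(2 : F)⁻¹ • (x + L x), ?_, (2 : F)⁻¹ • (x - L x), ?_, ?_⟩
      · rw [Module.End.mem_eigenspace_iff, one_smul, map_smul, map_add, hLL, add_comm]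
      · rw [Module.End.mem_eigenspace_iff, map_smul, map_sub, hLL, neg_smul, one_smul, ← smul_neg, neg_sub]
      · rw [← smul_add, add_add_sub_cancel, ← two_smul F x, smul_smul, inv_mul_cancel₀ h2, one_smul]
  let b := ((Module.finBasis F (L.eigenspace 1)).prod (Module.finBasis F (L.eigenspace (-1)))).map
    (Submodule.prodEquivOfIsCompl _ _ hc)
  obtain ⟨e⟩ : Nonempty ((Fin (Module.finrank F (L.eigenspace 1)) ⊕ Fin (Module.finrank F (L.eigenspace (-1)))) ≃ ι) :=
    ⟨b.indexEquiv (Pi.basisFun F ι)⟩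
  obtain ⟨v, hv⟩ : ∃ v : Module.Basis ι F (ι → F), v = b.reindex e := ⟨_, rfl⟩
  obtain ⟨f, hf⟩ : ∃ f : ι → F, f = fun i => Sum.elim (fun _ => (1 : F)) (fun _ => -1) (e.symm i) := ⟨_, rfl⟩
  have hf1 : ∀ i, f i * f i = 1 := fun i => by
    rw [hf]
    dsimp only
    rcases e.symm i with x | x <;> simp
  have heig : ∀ i, L (v i) = f i • v i := fun i => by
    rw [hv, hf, Module.Basis.reindex_apply]
    dsimp only
    rcases e.symm i with x | x
    · have h := (Module.finBasis F (L.eigenspace 1) x).2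
      rw [Module.End.mem_eigenspace_iff] at h
      simpa [b] using h
    · have h := (Module.finBasis F (L.eigenspace (-1)) x).2
      rw [Module.End.mem_eigenspace_iff] at h
      simpa [b] using h
  obtain ⟨P, hP⟩ : ∃ P : Matrix ι ι F, P = Matrix.of fun i j => v j i := ⟨_, rfl⟩
  have hPu : IsUnit P := by
    have : P = (Pi.basisFun F ι).toMatrix v := by
      ext i j
      rw [hP, Module.Basis.toMatrix_apply, Pi.basisFun_repr]
      rfl
    rw [this]
    letI := (Pi.basisFun F ι).invertibleToMatrix v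
    exact isUnit_of_invertible _
  refine ⟨hPu.unit, f, hf1, ?_⟩
  have e1 : (g : Matrix ι ι F) * P = P * Matrix.diagonal f := by
    ext i j
    rw [Matrix.mul_diagonal, hP]
    have := congrFun (heig j) i
    rw [hL, Matrix.toLin'_apply] at this
    simpa [Matrix.mul_apply, Matrix.mulVec, dotProduct, mul_comm (f j)] using this
  rw [Units.val_mul, Units.val_mul, IsUnit.unit_spec, Matrix.mul_assoc, e1, ← Matrix.mul_assoc]
  have e2 : ((hPu.unit⁻¹ : GL ι F) : Matrix ι ι F) * P = 1 := by
    nth_rewrite 2 [← hPu.unit_spec]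
    rw [← Units.val_mul, inv_mul_cancel, Units.val_one]
  rw [e2, Matrix.one_mul]

/-- The integer sign of a field sign. -/
def sgn [DecidableEq F] (x : F) : ℤ := if x = 1 then 1 else -1

/-- The signed count of a sign function. -/
def ztr [DecidableEq F] (f : ι → F) : ℤ := ∑ i, sgn (f i)

theorem sgn_one [DecidableEq F] : sgn (1 : F) = 1 := if_pos rfl

theorem sgn_neg_one [DecidableEq F] (h2 : (2 : F) ≠ 0) : sgn (-1 : F) = -1 :=
  if_neg fun h => h2 (by linear_combination -h)

theorem sgn_mul [DecidableEq F] (h2 : (2 : F) ≠ 0) {x y : F} (hx : x * x = 1) (hy : y * y = 1) :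
    sgn (x * y) = sgn x * sgn y := by
  rcases mul_self_eq_one_iff.1 hx with rfl | rfl <;> rcases mul_self_eq_one_iff.1 hy with rfl | rfl <;>
    simp [sgn_one, sgn_neg_one h2]

/-- Conjugate diagonal sign matrices have the same signed count. -/
theorem ztr_conj [DecidableEq F] (h2 : (2 : F) ≠ 0) {f f' : ι → F} (hf : ∀ i, f i * f i = 1)
    (hf' : ∀ i, f' i * f' i = 1) (g : GL ι F)
    (h : (g : Matrix ι ι F) * Matrix.diagonal f = Matrix.diagonal f' * (g : Matrix ι ι F)) : ztr f = ztr f' := by
  have hu : IsUnit ((g : Matrix ι ι F).det) := (Matrix.isUnit_iff_isUnit_det _).1 g.isUnit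
  have e : (g : Matrix ι ι F) * Matrix.diagonal (fun i => 1 - f i) =
      Matrix.diagonal (fun i => 1 - f' i) * (g : Matrix ι ι F) := by
    rw [← Matrix.diagonal_sub, ← Matrix.diagonal_sub, Matrix.diagonal_one, Matrix.mul_sub, Matrix.sub_mul, h,
      Matrix.mul_one, Matrix.one_mul]
  have hr := congrArg Matrix.rank e
  rw [Matrix.rank_mul_eq_right_of_isUnit_det _ _ hu, Matrix.rank_mul_eq_left_of_isUnit_det _ _ hu,
    Matrix.rank_diagonal, Matrix.rank_diagonal] at hr
  have key : ∀ f : ι → F, (∀ i, f i * f i = 1) →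
      ztr f = (Fintype.card ι : ℤ) - 2 * (Fintype.card {i // (1 : F) - f i ≠ 0} : ℤ) := by
    intro f hf
    have hs : ∀ i, sgn (f i) = 1 - 2 * (if (1 : F) - f i ≠ 0 then 1 else 0 : ℤ) := fun i => by
      rcases mul_self_eq_one_iff.1 (hf i) with e | e <;>
        simp [e, sgn_one, sgn_neg_one h2, one_add_one_eq_two, h2]
    rw [ztr, Finset.sum_congr rfl fun i _ => hs i, Finset.sum_sub_distrib, ← Finset.mul_sum, Finset.sum_boole,
      Finset.sum_const, Finset.card_univ, nsmul_one, Fintype.card_subtype]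
  rw [key f hf, key f' hf', hr]

end Gen

variable {k : ℕ} {σ : Type} [Fintype σ] [DecidableEq σ]

theorem ztr_sv [DecidableEq F] (h2 : (2 : F) ≠ 0) (S : Finset (Fin k)) :
    ztr (sv S : Fin k → F) = (k : ℤ) - 2 * S.card := by
  have : ∀ i, sgn (sv S i : F) = 1 - 2 * (if i ∈ S then 1 else 0 : ℤ) := fun i => by
    unfold sv
    split_ifs <;> simp [sgn_one, sgn_neg_one h2]
  rw [ztr, Finset.sum_congr rfl fun i _ => this i, Finset.sum_sub_distrib, ← Finset.mul_sum, Finset.sum_boole]
  simp

/-- The signed count of a product over the slots. -/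
theorem ztr_prod [DecidableEq F] (h2 : (2 : F) ≠ 0) {v : σ → Fin k → F} (hv : ∀ j u, v j u * v j u = 1) :
    ztr (fun a : σ → Fin k => ∏ j, v j (a j)) = ∏ j, ztr (v j) := by
  have hs : ∀ (s : Finset σ) (a : σ → Fin k),
      (∏ j ∈ s, v j (a j)) * (∏ j ∈ s, v j (a j)) = 1 ∧ sgn (∏ j ∈ s, v j (a j)) = ∏ j ∈ s, sgn (v j (a j)) := by
    intro s a
    induction s using Finset.induction with
    | empty => simp [sgn_one]
    | insert j s hj ih =>
      rw [Finset.prod_insert hj, Finset.prod_insert hj]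
      exact ⟨by rw [mul_mul_mul_comm, hv, ih.1, one_mul], by rw [sgn_mul h2 (hv _ _) ih.1, ih.2]⟩
  unfold ztr
  rw [Fintype.prod_sum]
  exact Finset.sum_congr rfl fun a _ => (hs _ a).2

/-- A slot involution times a sign of another slot is not conjugate to that sign unless trivial. -/
theorem twist_one {d : Fin k → F} [Fintype F] (hd : Shape d) {i l : σ} (hil : i ≠ l) {S : Finset (Fin k)}
    (hS : 2 * S.card ≠ k) {h : GL (Fin k) F} (hh : h * h = 1) {g : GL (σ → Fin k) F}
    (he : g * facG i (sg S) * g⁻¹ = facG l h * facG i (sg S)) : h = 1 := by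
  classical
  obtain ⟨P, f, hf, hP⟩ := exists_diag_invol hd.two hh
  obtain ⟨v, hv⟩ : ∃ v : σ → Fin k → F, v = fun j => if j = l then f else if j = i then sv S else fun _ => 1 :=
    ⟨_, rfl⟩
  obtain ⟨w, hw⟩ : ∃ w : σ → Fin k → F, w = fun j => if j = i then sv S else fun _ => 1 := ⟨_, rfl⟩
  have hv1 : ∀ j u, v j u * v j u = 1 := fun j u => by
    rw [hv]; dsimp only; split_ifs <;> simp [hf, sv_sq]
  have hw1 : ∀ j u, w j u * w j u = 1 := fun j u => by
    rw [hw]; dsimp only; split_ifs <;> simp [sv_sq]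
  have hwd : ((facG i (sg S) : GL (σ → Fin k) F) : Matrix (σ → Fin k) (σ → Fin k) F) = Matrix.diagonal fun a => ∏ j, w j (a j) := by
    rw [facG_sg_val]
    refine congrArg _ (funext fun a => ?_)
    rw [Finset.prod_eq_single i (fun j _ hj => by simp [hw, hj]) (by simp), hw]
    simp
  have hvd : ((facG l (P⁻¹ * h * P) * facG i (sg S) : GL (σ → Fin k) F) : Matrix (σ → Fin k) (σ → Fin k) F) =
      Matrix.diagonal fun a => ∏ j, v j (a j) := by
    rw [Units.val_mul, facG_val, hP, facS_diagonal, facG_sg_val, Matrix.diagonal_mul_diagonal]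
    refine congrArg _ (funext fun a => ?_)
    rw [← Finset.prod_subset (Finset.subset_univ {l, i}) (fun j _ hj => by
      simp only [Finset.mem_insert, Finset.mem_singleton, not_or] at hj
      simp [hv, hj.1, hj.2]), Finset.prod_pair hil.symm, hv]
    simp [hil]
  have hconj : facG l P⁻¹ * g * facG i (sg S) = facG l (P⁻¹ * h * P) * facG i (sg S) * (facG l P⁻¹ * g) := by
    rw [map_mul, map_mul, map_inv]
    have c : Commute (facG l P) (facG i (sg S)) := facG_commute hil.symm P (sg S)
    calc (facG l P)⁻¹ * g * facG i (sg S) = (facG l P)⁻¹ * (g * facG i (sg S) * g⁻¹) * g := by group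
      _ = (facG l P)⁻¹ * facG l h * (facG i (sg S) * (facG l P * (facG l P)⁻¹)) * g := by
        rw [he, mul_inv_cancel, mul_one]; group
      _ = _ := by rw [← mul_assoc (facG i (sg S)), ← c.eq]; group
  have e := congrArg Units.val hconj
  rw [Units.val_mul _ (facG i (sg S)), Units.val_mul _ (facG l P⁻¹ * g), hwd, hvd] at e
  have hz := ztr_conj hd.two (fun a => by rw [← Finset.prod_mul_distrib]; simp [hw1])
    (fun a => by rw [← Finset.prod_mul_distrib]; simp [hv1]) _ e
  rw [ztr_prod hd.two hw1, ztr_prod hd.two hv1, ← Finset.mul_prod_erase _ _ (Finset.mem_univ l),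
    ← Finset.mul_prod_erase _ _ (Finset.mem_univ l), Finset.prod_congr rfl (fun j hj => by
      rw [show v j = w j by rw [hv, hw]; simp [Finset.ne_of_mem_erase hj]] :
      ∀ j ∈ Finset.univ.erase l, ztr (v j) = ztr (w j))] at hz
  have hne : ∏ j ∈ Finset.univ.erase l, ztr (w j) ≠ 0 := Finset.prod_ne_zero_iff.2 fun j _ => by
    rw [hw]
    dsimp only
    split_ifs with hji
    · rw [ztr_sv hd.two]; omega
    · have := hd.three
      simp [ztr, sgn_one]
      omega
  have hz' := mul_right_cancel₀ hne hz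
  have hf1 : ∀ u, f u = 1 := by
    intro u
    have h0 : ∀ x : Fin k, sgn (f x) ≤ 1 := fun x => by unfold sgn; split_ifs <;> norm_num
    have hsum : ∑ x, sgn (f x) = ∑ _x : Fin k, (1 : ℤ) := by
      simpa [ztr, hv, hw, hil.symm, sgn_one] using hz'.symm
    have := (Finset.sum_eq_sum_iff_of_le fun x _ => h0 x).1 hsum u (Finset.mem_univ u)
    unfold sgn at this
    split_ifs at this with hu
    · exact hu
  have hP1 : P⁻¹ * h * P = 1 := Units.ext (by rw [hP, funext hf1, Units.val_one, Matrix.diagonal_one])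
  calc h = P * (P⁻¹ * h * P) * P⁻¹ := by group
    _ = 1 := by rw [hP1, mul_one, mul_inv_cancel]

end Cfsg.Agent.Classical.OTPow
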