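/-
Commutants of slot groups, twists of signs, and the lift of an element of the tails.
-/
import Cfsg.Agent.Lib.Classical.OTPow.Facts

set_option autoImplicit false
set_option linter.unusedSectionVars false

namespace Cfsg.Agent.Classical.OTPow

open Matrix
open scoped commutatorElement

variable {F : Type*} [Field F] {k : ℕ} {σ : Type} [Fintype σ] [DecidableEq σ]

theorem exists_piecewise_induction {α : Type*} {J : Finset σ} {P : (σ → α) → Prop} {a : σ → α} (ha : P a)
    (hstep : ∀ x, P x → ∀ l ∈ J, ∀ u, P (Function.update x l u)) (b : σ → α) : P (J.piecewise b a) := by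
  suffices ∀ s : Finset σ, s ⊆ J → P (s.piecewise b a) from this J subset_rfl
  intro s
  induction s using Finset.induction with
  | empty => intro _; simpa using ha
  | insert l s hl ih =>
    intro hs
    rw [Finset.piecewise_insert]
    exact hstep _ (ih fun x hx => hs (Finset.mem_insert_of_mem hx)) l (hs (Finset.mem_insert_self l s)) _

/-- Constancy along the slots of a finite set. -/
theorem eq_of_steps {α β : Type*} {J : Finset σ} {f : (σ → α) → β}
    (h : ∀ x, ∀ l ∈ J, ∀ u, f (Function.update x l u) = f x) {a b : σ → α} (hab : ∀ l, l ∉ J → a l = b l) :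
    f a = f b := by
  have := exists_piecewise_induction (J := J) (P := fun x => f x = f a) rfl
    (fun x hx l hl u => (h x l hl u).trans hx) b
  rw [show J.piecewise b a = b from funext fun l => by
    by_cases hl : l ∈ J
    · simp [hl]
    · simp [hl, hab l hl]] at this
  exact this.symm

variable [Fintype F]

/-- Perfect subgroups of the isometries of a slot lie in the slot group. -/
theorem om_absorb {d : Fin k → F} {H : Subgroup (GL (Fin k) F)} (hH : H ≤ IsoD d) (hp : ⁅H, H⁆ = H) : H ≤ Om d :=
  hp ▸ Subgroup.commutator_mono hH hH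

/-- Conjugation into the isometries preserves the slot group. -/
theorem Shape.conj_om {d : Fin k → F} (hd : Shape d) {A : GL (Fin k) F}
    (h : ∀ g ∈ Om d, A * g * A⁻¹ ∈ IsoD d) {g : GL (Fin k) F} (hg : g ∈ Om d) : A * g * A⁻¹ ∈ Om d := by
  refine om_absorb (H := (Om d).map (MulAut.conj A).toMonoidHom) ?_ ?_ ⟨g, hg, rfl⟩
  · rintro _ ⟨x, hx, rfl⟩
    exact h x hx
  · rw [← Subgroup.map_commutator, hd.om_perfect]

/-- A twist by scalars of a perfect group is trivial. -/
theorem commute_of_twist {ι : Type*} [Fintype ι] [DecidableEq ι] {H : Type*} [Group H] {P : Subgroup H}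
    (hP : ⁅P, P⁆ = P) (φ : H →* GL ι F) {A : GL ι F}
    (h : ∀ g ∈ P, ∃ z, Scal z ∧ A * φ g * A⁻¹ = z * φ g) {g : H} (hg : g ∈ P) : Commute A (φ g) := by
  have : ⁅P, P⁆ ≤ (Subgroup.centralizer {A}).comap φ := by
    rw [Subgroup.commutator_le]
    intro x hx y hy
    obtain ⟨z, hz, e1⟩ := h x hx
    obtain ⟨w, hw, e2⟩ := h y hy
    rw [Subgroup.mem_comap, Subgroup.mem_centralizer_iff]
    intro B hB
    rw [Set.mem_singleton_iff] at hB
    subst hB
    refine (mul_inv_eq_iff_eq_mul.1 ?_)
    have c1 : ∀ u, Commute z u := fun u => hz.commute u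
    have c2 : ∀ u, Commute w u := fun u => hw.commute u
    rw [map_commutatorElement, ← MulAut.conj_apply, map_commutatorElement, MulAut.conj_apply, MulAut.conj_apply, e1,
      e2, commutatorElement_def, commutatorElement_def]
    generalize φ x = x
    generalize φ y = y
    calc z * x * (w * y) * (z * x)⁻¹ * (w * y)⁻¹ = z * (x * w) * y * x⁻¹ * z⁻¹ * y⁻¹ * w⁻¹ := by group
      _ = z * (w * x) * y * x⁻¹ * z⁻¹ * y⁻¹ * w⁻¹ := by rw [(c2 x).eq]
      _ = (z * w) * (x * y * x⁻¹) * (z⁻¹ * y⁻¹) * w⁻¹ := by group
      _ = (z * w) * (x * y * x⁻¹) * (y⁻¹ * z⁻¹) * w⁻¹ := by rw [((c1 y).inv_inv).eq]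
      _ = (z * w) * (x * y * x⁻¹ * y⁻¹) * (w * z)⁻¹ := by group
      _ = (z * w) * ((w * z)⁻¹ * (x * y * x⁻¹ * y⁻¹)) := by
        rw [mul_assoc, ((c2 _).mul_left (c1 (x * y * x⁻¹ * y⁻¹))).inv_left.eq]
      _ = x * y * x⁻¹ * y⁻¹ := by rw [(c1 w).eq, mul_inv_cancel_left]
  rw [hP] at this
  exact (Subgroup.mem_centralizer_iff.1 (this hg)) A rfl

/-- The entries of a matrix commuting with a slot group are constant along the slot. -/
theorem Shape.slot_entries {d : Fin k → F} (hd : Shape d) {G : Matrix (σ → Fin k) (σ → Fin k) F} {l : σ}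
    (h : ∀ g ∈ Om d, G * facS l (g : Matrix (Fin k) (Fin k) F) = facS l (g : Matrix (Fin k) (Fin k) F) * G)
    (a b : σ → Fin k) :
    ∃ c : F, ∀ u v, G (Function.update a l u) (Function.update b l v) = if u = v then c else 0 := by
  obtain ⟨c, hc⟩ := hd.scalar_of_commute (C := G.submatrix (Function.update a l) (Function.update b l))
    fun g hg => Matrix.ext fun u v => by
      have e := congrFun (congrFun (h g hg) (Function.update a l u)) (Function.update b l v)
      rw [mul_facS_apply, facS_mul_apply] at e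
      simp only [Function.update_idem, Function.update_self] at e
      simp only [Matrix.mul_apply, Matrix.submatrix_apply]
      exact e.symm
  refine ⟨c, fun u v => ?_⟩
  have := congrFun (congrFun hc u) v
  rw [Matrix.submatrix_apply, Matrix.smul_apply, Matrix.one_apply, smul_eq_mul] at this
  rw [this]
  split_ifs <;> simp

/-- A matrix commuting with every slot group is scalar. -/
theorem Shape.scalar_of_commute_slots {d : Fin k → F} (hd : Shape d) {G : Matrix (σ → Fin k) (σ → Fin k) F}
    (h : ∀ l, ∀ g ∈ Om d, G * facS l (g : Matrix (Fin k) (Fin k) F) = facS l (g : Matrix (Fin k) (Fin k) F) * G) :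
    ∃ c : F, G = c • 1 := by
  haveI : NeZero k := ⟨by have := hd.three; omega⟩
  obtain ⟨a₀⟩ : Nonempty (σ → Fin k) := ⟨fun _ => 0⟩
  refine ⟨G a₀ a₀, Matrix.ext fun a b => ?_⟩
  rw [Matrix.smul_apply, smul_eq_mul]
  rcases eq_or_ne a b with rfl | hab
  · rw [Matrix.one_apply_eq, mul_one]
    refine eq_of_steps (J := Finset.univ) (f := fun x => G x x) (fun x l _ u => ?_) fun l hl =>
      absurd (Finset.mem_univ l) hl
    obtain ⟨c, hc⟩ := hd.slot_entries (h l) x x
    have h2 := hc (x l) (x l)
    rw [Function.update_eq_self, if_pos rfl] at h2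
    rw [hc u u, if_pos rfl, h2]
  · obtain ⟨l, hl⟩ := Function.ne_iff.1 hab
    rw [Matrix.one_apply_ne hab, mul_zero]
    obtain ⟨c, hc⟩ := hd.slot_entries (h l) a b
    have := hc (a l) (b l)
    rwa [Function.update_eq_self, Function.update_eq_self, if_neg hl] at this

theorem rank_diagonal_sign (l : σ) (v : Fin k → F) :
    (Matrix.diagonal fun a : σ → Fin k => v (a l)).rank =
      Nat.card {u : Fin k // v u ≠ 0} * k ^ (Fintype.card σ - 1) := by
  classical
  rw [Matrix.rank_diagonal, ← Nat.card_eq_fintype_card, Nat.card_congr ((Equiv.subtypeEquiv (Equiv.funSplitAt l (Fin k))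
    (p := fun a : σ → Fin k => v (a l) ≠ 0) (q := fun p => v p.1 ≠ 0) fun a => Iff.rfl).trans
      (Equiv.prodSubtypeFstEquivSubtypeProd (p := fun u => v u ≠ 0))),
    Nat.card_prod, Nat.card_fun, Nat.card_eq_fintype_card (α := Fin k), Fintype.card_fin,
    Nat.card_eq_fintype_card (α := {j // j ≠ l}), Fintype.card_subtype_compl, Fintype.card_subtype_eq]

/-- A generating sign is not conjugate to its negative. -/
theorem sg_twist {d : Fin k → F} (hd : Shape d) {g : GL (σ → Fin k) F} {m : σ} {S : Finset (Fin k)} (hS : Gen S)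
    {c : F} (hc : c * c = 1) (h : (g : Matrix (σ → Fin k) (σ → Fin k) F) *
      Matrix.diagonal (fun a => sv S (a m)) = c • Matrix.diagonal (fun a => sv S (a m)) * (g : Matrix _ _ F)) :
    c = 1 := by
  classical
  haveI : NeZero k := ⟨by have := hd.three; omega⟩
  rcases mul_self_eq_one_iff.1 hc with rfl | rfl
  · rfl
  exfalso
  obtain ⟨E, hE⟩ : ∃ E, E = Matrix.diagonal (fun a : σ → Fin k => (sv S (a m) : F)) := ⟨_, rfl⟩
  rw [← hE] at h
  have hu : IsUnit ((g : Matrix (σ → Fin k) (σ → Fin k) F).det) := (Matrix.isUnit_iff_isUnit_det _).1 g.isUnit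
  have e : (g : Matrix (σ → Fin k) (σ → Fin k) F) * (1 - E) = (1 + E) * (g : Matrix (σ → Fin k) (σ → Fin k) F) := by
    rw [Matrix.mul_sub, Matrix.mul_one, h, Matrix.add_mul, Matrix.one_mul, Matrix.smul_mul, neg_one_smul, sub_neg_eq_add]
  have hr := congrArg Matrix.rank e
  rw [Matrix.rank_mul_eq_right_of_isUnit_det _ _ hu, Matrix.rank_mul_eq_left_of_isUnit_det _ _ hu, hE,
    ← Matrix.diagonal_one, Matrix.diagonal_sub, Matrix.diagonal_add,
    rank_diagonal_sign m (fun u => 1 - sv S u), rank_diagonal_sign m (fun u => 1 + sv S u)] at hr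
  have e1 : Nat.card {u : Fin k // (1 : F) - sv S u ≠ 0} = S.card := by
    rw [← Nat.card_eq_finsetCard]
    refine Nat.card_congr (Equiv.subtypeEquivRight fun u => ?_)
    unfold sv
    split_ifs with hu
    · simp [hu, sub_neg_eq_add, one_add_one_eq_two, hd.two]
    · simp [hu]
  have e2 : Nat.card {u : Fin k // (1 : F) + sv S u ≠ 0} = k - S.card := by
    rw [show k - S.card = Sᶜ.card by rw [Finset.card_compl, Fintype.card_fin], ← Nat.card_eq_finsetCard]
    refine Nat.card_congr (Equiv.subtypeEquivRight fun u => ?_)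
    unfold sv
    split_ifs with hu
    · simp [hu]
    · simp [hu, one_add_one_eq_two, hd.two]
  rw [e1, e2] at hr
  have hk : 0 < k ^ (Fintype.card σ - 1) := pow_pos (by have := hd.three; omega) _
  have := Nat.eq_of_mul_eq_mul_right hk hr
  have := hS.trace
  omega

/-- The same element in every block. -/
def liftM (J : Finset σ) (Y : Matrix (Off J → Fin k) (Off J → Fin k) F) : Matrix (σ → Fin k) (σ → Fin k) F :=
  Matrix.of fun a b => if ∀ l ∈ J, a l = b l then Y (fun l => a l) (fun l => b l) else 0

omit [Fintype F] in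
theorem liftM_blkM (J : Finset σ) (Y : Matrix (Off J → Fin k) (Off J → Fin k) F) : BlkM J (liftM J Y) := by
  intro a b hab l hl
  simp only [liftM, Matrix.of_apply] at hab
  split_ifs at hab with h
  · exact h l hl
  · exact absurd rfl hab

omit [Fintype F] in
theorem blkM_liftM (J : Finset σ) (Y : Matrix (Off J → Fin k) (Off J → Fin k) F) (a : σ → Fin k) :
    blkM J (liftM J Y) a = Y := by
  ext c c'
  simp only [blkM, Matrix.submatrix_apply, liftM, Matrix.of_apply]
  rw [if_pos fun l hl => by rw [glue_mem a c hl, glue_mem a c' hl]]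
  simp only [glue_off]

omit [Fintype F] in
theorem liftM_facS_comm (J : Finset σ) (Y : Matrix (Off J → Fin k) (Off J → Fin k) F) {l : σ} (hl : l ∈ J)
    (M : Matrix (Fin k) (Fin k) F) : liftM J Y * facS l M = facS l M * liftM J Y := by
  ext a b
  rw [mul_facS_apply, facS_mul_apply]
  have hoff : ∀ (x : σ → Fin k) u, (fun j : Off J => Function.update x l u j) = fun j : Off J => x j := fun x u =>
    funext fun j => Function.update_of_ne (fun e : (j : σ) = l => j.2 (e.symm ▸ hl)) _ _
  simp only [liftM, Matrix.of_apply, hoff]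
  by_cases h : ∀ j ∈ J, j ≠ l → a j = b j
  · rw [Finset.sum_eq_single (a l), Finset.sum_eq_single (b l)]
    · rw [if_pos, if_pos, mul_comm]
      · intro j hj
        rcases eq_or_ne j l with rfl | hjl
        · rw [Function.update_self]
        · rw [Function.update_of_ne hjl, h j hj hjl]
      · intro j hj
        rcases eq_or_ne j l with rfl | hjl
        · rw [Function.update_self]
        · rw [Function.update_of_ne hjl, h j hj hjl]
    · intro u _ hu
      rw [if_neg fun hh => hu (by simpa using hh l hl), mul_zero]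
    · simp
    · intro u _ hu
      rw [if_neg fun hh => hu (by simpa [eq_comm] using hh l hl), zero_mul]
    · simp
  · push Not at h
    obtain ⟨j, hj, hjl, hne⟩ := h
    rw [Finset.sum_eq_zero fun u _ => by
        rw [if_neg fun hh => hne (by simpa [Function.update_of_ne hjl] using hh j hj), zero_mul],
      Finset.sum_eq_zero fun u _ => by
        rw [if_neg fun hh => hne (by simpa [Function.update_of_ne hjl] using hh j hj), mul_zero]]

omit [Fintype F] in
/-- The lift of a standard element is standard. -/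
theorem liftM_std (J : Finset σ) (A : Off J → GL (Fin k) F) (π : Equiv.Perm (Off J)) :
    ∃ g ∈ Std F k σ, (g : Matrix (σ → Fin k) (σ → Fin k) F) =
      liftM J ((pureG A * permG k F π : GL (Off J → Fin k) F) : Matrix _ _ F) ∧
      ∀ d : Fin k → F, (∀ i, d i ≠ 0) → (pureG A * permG k F π : GL (Off J → Fin k) F) ∈ IsoD (wt d) →
        g ∈ IsoD (wt d) := by
  obtain ⟨A', hA'⟩ : ∃ A' : σ → GL (Fin k) F, A' = fun l => if h : l ∈ J then 1 else A ⟨l, h⟩ := ⟨_, rfl⟩
  have hAJ : ∀ l, l ∈ J → A' l = 1 := fun l hl => by rw [hA']; exact dif_pos hl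
  have hAO : ∀ j : Off J, A' j = A j := fun j => by rw [hA']; exact dif_neg j.2
  refine ⟨pureG A' * permG k F π.ofSubtype, mul_mem (pureG_mem A') (permG_mem _), ?_, ?_⟩
  · ext a b
    rw [Units.val_mul, Units.val_mul, pureG_val, permG_val, mul_permS_apply, pureS_apply, liftM, Matrix.of_apply,
      ← Finset.prod_mul_prod_compl J]
    by_cases h : ∀ l ∈ J, a l = b l
    · rw [if_pos h, Finset.prod_eq_one fun l hl => by
          rw [hAJ _ hl, Function.comp_apply, Units.val_one,
            show (Equiv.symm (π.ofSubtype) : σ → σ) l = l by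
              rw [Equiv.symm_apply_eq]; exact (Equiv.Perm.ofSubtype_apply_of_not_mem π (not_not.2 hl)).symm,
            h l hl, Matrix.one_apply_eq], one_mul]
      rw [permG_val, pureG_val, mul_permS_apply, pureS_apply,
        Finset.prod_subtype Jᶜ (fun l => Finset.mem_compl) fun l =>
          (A' l : Matrix (Fin k) (Fin k) F) (a l) ((b ∘ (π.ofSubtype).symm) l)]
      refine Finset.prod_congr rfl fun j _ => ?_
      rw [hAO, Function.comp_apply, Function.comp_apply]
      rw [show (π.ofSubtype).symm (j : σ) = ((π.symm j : Off J) : σ) by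
        rw [Equiv.symm_apply_eq, Equiv.Perm.ofSubtype_apply_coe, Equiv.apply_symm_apply]]
    · rw [if_neg h]
      push Not at h
      obtain ⟨l, hl, hne⟩ := h
      refine mul_eq_zero_of_left (Finset.prod_eq_zero hl ?_) _
      rw [hAJ _ hl, Function.comp_apply, Units.val_one,
        show (Equiv.symm (π.ofSubtype) : σ → σ) l = l by
          rw [Equiv.symm_apply_eq]; exact (Equiv.Perm.ofSubtype_apply_of_not_mem π (not_not.2 hl)).symm,
        Matrix.one_apply_ne hne]
  · intro d hd hy
    have hA : pureG A ∈ IsoD (wt d) := by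
      have := mul_mem hy (inv_mem (permG_iso (k := k) (F := F) (d := d) π))
      rwa [mul_inv_cancel_right] at this
    refine mul_mem ?_ (permG_iso _)
    have e := mem_isoD.1 hA
    rw [pureG_val, pureS_transpose, show Matrix.diagonal (wt d) = pureS (fun _ : Off J => Matrix.diagonal d) from
      (pureS_diagonal fun _ => d).symm, pureS_mul, pureS_mul] at e
    rw [mem_isoD, pureG_val, pureS_transpose, show Matrix.diagonal (wt d) = pureS (fun _ : σ => Matrix.diagonal d) from
      (pureS_diagonal fun _ => d).symm, pureS_mul, pureS_mul]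
    ext a b
    rw [pureS_apply, pureS_apply, ← Finset.prod_mul_prod_compl J, ← Finset.prod_mul_prod_compl J]
    congr 1
    · refine Finset.prod_congr rfl fun l hl => ?_
      rw [hAJ _ hl, Units.val_one, Matrix.transpose_one, Matrix.one_mul, Matrix.mul_one]
    · rw [Finset.prod_subtype Jᶜ (fun l => Finset.mem_compl) fun l =>
        ((A' l : Matrix (Fin k) (Fin k) F)ᵀ * Matrix.diagonal d * (A' l : Matrix (Fin k) (Fin k) F)) (a l) (b l),
        Finset.prod_subtype Jᶜ (fun l => Finset.mem_compl) fun l => Matrix.diagonal d (a l) (b l)]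
      have e' := congrFun (congrFun e fun j => a j) fun j => b j
      rw [pureS_apply, pureS_apply] at e'
      refine Eq.trans (Finset.prod_congr rfl fun j _ => ?_) e'
      rw [hAO]

end Cfsg.Agent.Classical.OTPow
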