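/-
Standard elements keeping blocks, their blocks, and proportional fibres from standard centralisers.
-/
import Cfsg.Agent.Lib.Classical.OTPow.Lift

set_option autoImplicit false
set_option linter.unusedSectionVars false

namespace Cfsg.Agent.Classical.OTPow

open Matrix

variable {F : Type*} [Field F] {k : ℕ} {σ : Type} [Fintype σ] [DecidableEq σ]

/-- The centralisers of the signs of one slot are standard. -/
def Light (X : Subgroup (GL (σ → Fin k) F)) : Prop :=
  ∀ l : σ, X ⊓ Blk F k {l} ≤ Std F k σ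

/-- The theorem for groups with standard sign centralisers, over a given set of slots. -/
def CoreHolds (d : Fin k → F) [Fintype F] (σ : Type) [Fintype σ] [DecidableEq σ] : Prop :=
  ∀ X : Subgroup (GL (σ → Fin k) F), Ctx d X → Light X → X ≤ Std F k σ

/-- Scalars are standard. -/
theorem scal_std [Nonempty σ] {g : GL (σ → Fin k) F} (h : Scal g) : g ∈ Std F k σ := by
  classical
  obtain ⟨l₀⟩ := ‹Nonempty σ›
  rcases isEmpty_or_nonempty (σ → Fin k) with he | ⟨⟨a₀⟩⟩
  · convert one_mem (Std F k σ)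
    exact Units.ext (Matrix.ext fun a => (he.false a).elim)
  obtain ⟨c, hc⟩ := h
  haveI : Nonempty (σ → Fin k) := ⟨a₀⟩
  have hc0 : c ≠ 0 := fun h0 => by
    rw [h0, zero_smul] at hc
    exact g.isUnit.ne_zero hc
  convert facG_mem l₀ (Units.map (Matrix.scalar (Fin k) : F →+* _).toMonoidHom (Units.mk0 c hc0)) using 1
  refine Units.ext ?_
  rw [facG_val, hc]
  show _ = facS l₀ (Matrix.scalar (Fin k) c)
  rw [Matrix.scalar_apply, ← Matrix.smul_one_eq_diagonal, facS_smul, facS_one]

/-- A standard element with a scalar factor is standard. -/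
theorem std_smul [Nonempty σ] {g h : GL (σ → Fin k) F} (hh : h ∈ Std F k σ) {c : F}
    (e : (g : Matrix (σ → Fin k) (σ → Fin k) F) = c • (h : Matrix (σ → Fin k) (σ → Fin k) F)) : g ∈ Std F k σ := by
  have hs : Scal (g * h⁻¹) :=
    ⟨c, by rw [Units.val_mul, e, Matrix.smul_mul, ← Units.val_mul, mul_inv_cancel, Units.val_one]⟩
  have := mul_mem (scal_std hs) hh
  rwa [inv_mul_cancel_right] at this

variable [Fintype F]

theorem Shape.sg_not_scalar {d : Fin k → F} (hd : Shape d) {S : Finset (Fin k)} (hS : Gen S) (c : F) :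
    ((sg S : GL (Fin k) F) : Matrix (Fin k) (Fin k) F) ≠ c • 1 := by
  intro h
  obtain ⟨u, hu⟩ : ∃ u, u ∈ S := Finset.card_pos.1 (by rcases hS with ⟨-, h⟩ | ⟨-, h, -⟩ <;> omega)
  obtain ⟨v, hv⟩ : ∃ v, v ∉ S := by
    by_contra hcon
    push Not at hcon
    rw [Finset.eq_univ_of_forall hcon] at hS
    have := hd.three
    rcases hS with ⟨-, h⟩ | ⟨-, h, -⟩ <;> simp at h <;> omega
  have eu := congrFun (congrFun h u) u
  have ev := congrFun (congrFun h v) v
  simp [sg_val, sv, hu] at eu
  simp [sg_val, sv, hv] at ev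
  rw [← ev] at eu
  exact hd.two (by linear_combination -eu)

theorem exists_gen (hk : 3 ≤ k) : ∃ S : Finset (Fin k), Gen S := by
  obtain ⟨S, hS, -⟩ := exists_gen_sep hk (show (⟨0, by omega⟩ : Fin k) ≠ ⟨1, by omega⟩ by simp)
  exact ⟨S, hS⟩

/-- A standard element keeping the blocks fixes the slots, diagonally. -/
theorem Shape.std_in_Blk {d : Fin k → F} (hd : Shape d) {A : σ → GL (Fin k) F} {π : Equiv.Perm σ} {J : Finset σ}
    (h : pureG A * permG k F π ∈ Blk F k J) {l : σ} (hl : l ∈ J) :
    π l = l ∧ ∀ u v, u ≠ v → (A l : Matrix (Fin k) (Fin k) F) u v = 0 := by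
  haveI : NeZero k := ⟨by have := hd.three; omega⟩
  have hc : ∀ S, Gen S → facG (π l) (A (π l) * sg S * (A (π l))⁻¹) = facG l (sg S) := fun S hS => by
    rw [← std_facG, (mem_Blk_iff.1 h l hl S hS).eq, mul_inv_cancel_right]
  have hπ : π l = l := by
    by_contra hne
    obtain ⟨S, hS⟩ := exists_gen (k := k) hd.three
    have e := congrArg Units.val (hc S hS)
    rw [facG_val, facG_val] at e
    obtain ⟨c, hc⟩ := facS_eq_facS hne e
    exact hd.sg_not_scalar hS c (facS_inj l (by rw [← e, hc, facS_smul, facS_smul, facS_one, facS_one]))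
  refine ⟨hπ, fun u v huv => ?_⟩
  obtain ⟨S, hS, hsep⟩ := exists_gen_sep hd.three huv
  have hc' := hc S hS
  rw [hπ] at hc'
  have e := facG_inj l hc'
  have e' : A l * sg S = sg S * A l := mul_inv_eq_iff_eq_mul.1 e
  by_contra hne
  refine sv_ne hd.two hsep ((commute_diagonal_iff (A l : Matrix (Fin k) (Fin k) F) _).1 ?_ u v hne)
  rw [← sg_val]
  exact congrArg Units.val e'

/-- The blocks of a standard element are standard. -/
theorem Shape.blk_std {d : Fin k → F} (hd : Shape d) [hF : Fact (3 ≤ k ∧ (2 : F) ≠ 0)] {J : Finset σ}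
    [Nonempty (Off J)] {g : ↥(Blk F k J)} (hg : g.1 ∈ Std F k σ) (a : σ → Fin k) :
    blk J a g ∈ Std F k (Off J) := by
  obtain ⟨A, π, hgv⟩ := hg
  have hmem : pureG A * permG k F π ∈ Blk F k J := hgv ▸ g.2
  have hfix : ∀ l ∈ J, π l = l := fun l hl => (hd.std_in_Blk hmem hl).1
  have hpres : ∀ l, l ∉ J ↔ π l ∉ J := fun l =>
    ⟨fun h h' => h (by have := hfix _ h'; rwa [π.injective this] at h'), fun h h' => h (by rwa [hfix l h'])⟩
  refine std_smul (mul_mem (pureG_mem fun j : Off J => A j) (permG_mem (π.subtypePerm fun l => (hpres l).symm)))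
    (c := ∏ l ∈ J, (A l : Matrix (Fin k) (Fin k) F) (a l) (a l)) ?_
  ext c c'
  rw [blk_val, hgv, Units.val_mul, pureG_val, permG_val, blkM, Matrix.submatrix_apply, mul_permS_apply, pureS_apply,
    Matrix.smul_apply, Units.val_mul, pureG_val, permG_val, mul_permS_apply, pureS_apply, smul_eq_mul,
    ← Finset.prod_mul_prod_compl J]
  congr 1
  · refine Finset.prod_congr rfl fun l hl => ?_
    rw [Function.comp_apply, show (Equiv.symm π : σ → σ) l = l by rw [Equiv.symm_apply_eq, hfix l hl],
      glue_mem a c hl, glue_mem a c' hl]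
  · rw [Finset.prod_subtype Jᶜ (fun l => Finset.mem_compl) fun l =>
      (A l : Matrix (Fin k) (Fin k) F) (glue J a c l) ((glue J a c' ∘ π.symm) l)]
    refine Finset.prod_congr rfl fun j _ => ?_
    rw [glue_off, Function.comp_apply, Function.comp_apply]
    congr 1
    rw [show (Equiv.symm π : σ → σ) j = (((π.subtypePerm fun l => (hpres l).symm).symm j : Off J) : σ) from ?_,
      glue_off]
    rw [Equiv.symm_apply_eq]
    exact (congrArg Subtype.val ((π.subtypePerm fun l => (hpres l).symm).apply_symm_apply j)).symm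

/-- Proportional fibres follow from standard centralisers. -/
theorem Light.pure1 {d : Fin k → F} (hd : Shape d) {X : Subgroup (GL (σ → Fin k) F)} (hL : Light X) : Pure1 X := by
  intro l g hg hblk a a'
  haveI : NeZero k := ⟨by have := hd.three; omega⟩
  by_cases hm : ∃ m, m ≠ l
  · obtain ⟨m, hm⟩ := hm
    have hgB : g ∈ Blk F k ({l}ᶜ : Finset σ) := hd.mem_Blk.2 hblk
    obtain ⟨A, π, rfl⟩ := hL m ⟨hg, Blk_anti (by simpa using Ne.symm hm) hgB⟩
    have hJ : ∀ j, j ≠ l → π j = j ∧ ∀ u v, u ≠ v → (A j : Matrix (Fin k) (Fin k) F) u v = 0 := fun j hj =>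
      hd.std_in_Blk hgB (by simp [hj])
    have hπ : π = 1 := Equiv.ext fun j => by
      rw [Equiv.Perm.one_apply]
      rcases eq_or_ne j l with rfl | hj
      · by_contra hne
        exact hne (π.injective (hJ _ hne).1)
      · exact (hJ j hj).1
    subst hπ
    have key : ∀ b, fibM l ((pureG A * permG k F 1 : GL (σ → Fin k) F) : Matrix (σ → Fin k) (σ → Fin k) F) b =
        (∏ j ∈ Finset.univ.erase l, (A j : Matrix (Fin k) (Fin k) F) (b j) (b j)) •
          (A l : Matrix (Fin k) (Fin k) F) := fun b => by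
      ext u v
      rw [fibM_apply, map_one, mul_one, pureG_val, pureS_apply, ← Finset.mul_prod_erase _ _ (Finset.mem_univ l),
        Function.update_self, Function.update_self, Matrix.smul_apply, smul_eq_mul, mul_comm]
      congr 1
      exact Finset.prod_congr rfl fun j hj => by
        rw [Function.update_of_ne (Finset.ne_of_mem_erase hj), Function.update_of_ne (Finset.ne_of_mem_erase hj)]
    rw [key, key]
    by_cases h0 : (∏ j ∈ Finset.univ.erase l, (A j : Matrix (Fin k) (Fin k) F) (a' j) (a' j)) = 0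
    · obtain ⟨j, hj, hj0⟩ := Finset.prod_eq_zero_iff.1 h0
      exfalso
      refine ((Matrix.isUnit_iff_isUnit_det _).1 (A j).isUnit).ne_zero (Matrix.det_eq_zero_of_row_eq_zero (a' j) ?_)
      intro v
      rcases eq_or_ne (a' j) v with rfl | hv
      · exact hj0
      · exact (hJ j (Finset.ne_of_mem_erase hj)).2 _ _ hv
    · exact ⟨(∏ j ∈ Finset.univ.erase l, (A j : Matrix (Fin k) (Fin k) F) (a j) (a j)) *
        (∏ j ∈ Finset.univ.erase l, (A j : Matrix (Fin k) (Fin k) F) (a' j) (a' j))⁻¹, by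
          rw [smul_smul, inv_mul_cancel_right₀ h0]⟩
  · push Not at hm
    refine ⟨1, ?_⟩
    rw [one_smul, show a = Function.update a' l (a l) from funext fun j => by rw [hm j, Function.update_self],
      fibM_update]

end Cfsg.Agent.Classical.OTPow
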