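/-
The difference of the eigenspace dimensions of a standard involution.
-/
import Cfsg.Agent.Lib.Classical.OTPow.Invol
import Cfsg.Agent.Lib.Classical.OTPow.StdBlk
import Mathlib.FieldTheory.IsAlgClosed.AlgebraicClosure

set_option autoImplicit false
set_option linter.unusedSectionVars false

namespace Cfsg.Agent.Classical.OTPow

open Matrix

variable {F : Type*} [Field F]

section Gen

variable {ι : Type*} [Fintype ι] [DecidableEq ι]

/-- The dimension of the fixed space minus that of the negated space. -/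
noncomputable def sig (g : GL ι F) : ℤ :=
  (Fintype.card ι : ℤ) - 2 * ((1 - (g : Matrix ι ι F)).rank : ℤ)

theorem sig_one : sig (1 : GL ι F) = Fintype.card ι := by simp [sig, Matrix.rank_zero]

theorem sig_conj (P g : GL ι F) : sig (P * g * P⁻¹) = sig g := by
  have hP : IsUnit ((P : Matrix ι ι F).det) := (Matrix.isUnit_iff_isUnit_det _).1 P.isUnit
  have hPi : IsUnit (((P⁻¹ : GL ι F) : Matrix ι ι F).det) := (Matrix.isUnit_iff_isUnit_det _).1 (P⁻¹).isUnit
  have e : (1 : Matrix ι ι F) - ((P * g * P⁻¹ : GL ι F) : Matrix ι ι F) =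
      (P : Matrix ι ι F) * (1 - (g : Matrix ι ι F)) * ((P⁻¹ : GL ι F) : Matrix ι ι F) := by
    rw [Matrix.mul_sub, Matrix.sub_mul, Matrix.mul_one, Units.mul_inv, Units.val_mul, Units.val_mul]
  rw [sig, sig, e, Matrix.rank_mul_eq_left_of_isUnit_det _ _ hPi, Matrix.rank_mul_eq_right_of_isUnit_det _ _ hP]

theorem sig_conj' (P g : GL ι F) : sig (P⁻¹ * g * P) = sig g := by
  have := sig_conj P⁻¹ g
  rwa [inv_inv] at this

theorem sig_diag [DecidableEq F] (h2 : (2 : F) ≠ 0) {g : GL ι F} {f : ι → F} (hf : ∀ i, f i * f i = 1)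
    (h : (g : Matrix ι ι F) = Matrix.diagonal f) : sig g = ztr f := by
  have hs : ∀ i, sgn (f i) = 1 - 2 * (if (1 : F) - f i ≠ 0 then 1 else 0 : ℤ) := fun i => by
    rcases mul_self_eq_one_iff.1 (hf i) with e | e <;>
      simp [e, sgn_one, sgn_neg_one h2, one_add_one_eq_two, h2]
  rw [sig, h, ← Matrix.diagonal_one, Matrix.diagonal_sub, Matrix.rank_diagonal, ztr,
    Finset.sum_congr rfl fun i _ => hs i, Finset.sum_sub_distrib, ← Finset.mul_sum, Finset.sum_boole,
    Finset.sum_const, Finset.card_univ, nsmul_one, Fintype.card_subtype]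

theorem abs_sig_le (h2 : (2 : F) ≠ 0) {g : GL ι F} (hg : g * g = 1) :
    |sig g| ≤ Fintype.card ι ∧ Even ((Fintype.card ι : ℤ) - |sig g|) ∧
      (|sig g| = Fintype.card ι → ∃ c : F, (g : Matrix ι ι F) = c • 1) := by
  classical
  obtain ⟨P, f, hf, hP⟩ := exists_diag_invol h2 hg
  have e : sig g = ztr f := by rw [← sig_conj' P g, sig_diag h2 hf hP]
  have hk : ztr f = (Fintype.card ι : ℤ) - 2 * ((1 - ((P⁻¹ * g * P : GL ι F) : Matrix ι ι F)).rank : ℤ) := by
    rw [← e, ← sig_conj' P g]; rfl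
  have hb : ((1 - ((P⁻¹ * g * P : GL ι F) : Matrix ι ι F)).rank : ℤ) ≤ Fintype.card ι := by
    exact_mod_cast Matrix.rank_le_card_height _
  refine ⟨?_, ?_, fun heq => ?_⟩
  · rw [e, hk, abs_le]; omega
  · rw [e, hk]
    rcases abs_choice ((Fintype.card ι : ℤ) - 2 * ((1 - ((P⁻¹ * g * P : GL ι F) : Matrix ι ι F)).rank : ℤ)) with h | h <;>
      rw [h, Int.even_iff] <;> omega
  · have h0 : ∀ x : ι, sgn (f x) ≤ 1 ∧ -1 ≤ sgn (f x) := fun x => by unfold sgn; split_ifs <;> norm_num
    obtain ⟨c, hc⟩ : ∃ c : F, ∀ i, f i = c := by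
      rcases abs_choice (sig g) with hs | hs
      · refine ⟨1, fun i => ?_⟩
        have hsum : ∑ x, sgn (f x) = ∑ _x : ι, (1 : ℤ) := by
          have : ztr f = (Fintype.card ι : ℤ) := by omega
          simpa [ztr] using this
        have := (Finset.sum_eq_sum_iff_of_le fun x _ => (h0 x).1).1 hsum i (Finset.mem_univ i)
        unfold sgn at this
        split_ifs at this with hu
        exact hu
      · refine ⟨-1, fun i => ?_⟩
        have hsum : ∑ _x : ι, (-1 : ℤ) = ∑ x, sgn (f x) := by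
          have : ztr f = -(Fintype.card ι : ℤ) := by omega
          simpa [ztr] using this.symm
        have := (Finset.sum_eq_sum_iff_of_le fun x _ => (h0 x).2).1 hsum i (Finset.mem_univ i)
        unfold sgn at this
        split_ifs at this with hu
        exact (mul_self_eq_one_iff.1 (hf i)).resolve_left hu
    refine ⟨c, ?_⟩
    have e1 : g = P * (P⁻¹ * g * P) * P⁻¹ := by group
    rw [e1, Units.val_mul, Units.val_mul, hP, funext hc, ← Matrix.smul_one_eq_diagonal, Matrix.mul_smul,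
      Matrix.mul_one, Matrix.smul_mul, Units.mul_inv]

theorem sig_neg (h2 : (2 : F) ≠ 0) {g g' : GL ι F} (hg : g * g = 1)
    (h : (g' : Matrix ι ι F) = -(g : Matrix ι ι F)) : sig g' = -sig g := by
  classical
  obtain ⟨P, f, hf, hP⟩ := exists_diag_invol h2 hg
  have hP' : ((P⁻¹ * g' * P : GL ι F) : Matrix ι ι F) = Matrix.diagonal fun i => -f i := by
    rw [Units.val_mul, Units.val_mul, h, Matrix.mul_neg, Matrix.neg_mul, ← Units.val_mul, ← Units.val_mul, hP,
      Matrix.diagonal_neg]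
  have hn : ∀ i, sgn (-f i) = -sgn (f i) := fun i => by
    rcases mul_self_eq_one_iff.1 (hf i) with e | e <;> simp [e, sgn_one, sgn_neg_one h2]
  rw [← sig_conj' P g', ← sig_conj' P g, sig_diag h2 (fun i => by rw [neg_mul_neg, hf]) hP', sig_diag h2 hf hP]
  simp only [ztr, hn, Finset.sum_neg_distrib]

/-- The signature does not change under a field extension. -/
theorem sig_map {K : Type*} [Field K] (φ : F →+* K) (h2 : (2 : F) ≠ 0) {g : GL ι F} (hg : g * g = 1) :
    sig (Matrix.GeneralLinearGroup.map φ g) = sig g := by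
  classical
  obtain ⟨P, f, hf, hP⟩ := exists_diag_invol h2 hg
  have h2' : (2 : K) ≠ 0 := fun h => h2 (φ.injective (by rw [map_ofNat, h, map_zero]))
  have hPK : ((Matrix.GeneralLinearGroup.map φ (P⁻¹ * g * P) : GL ι K) : Matrix ι ι K) =
      Matrix.diagonal fun i => φ (f i) := by
    show ((P⁻¹ * g * P : GL ι F) : Matrix ι ι F).map φ = _
    rw [hP, Matrix.diagonal_map (map_zero φ)]
  have hn : ∀ i, sgn (φ (f i)) = sgn (f i) := fun i => by
    rcases mul_self_eq_one_iff.1 (hf i) with e | e <;> simp [e, sgn_one, sgn_neg_one h2, sgn_neg_one h2']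
  rw [← sig_conj' P g, sig_diag h2 hf hP, ← sig_conj' (Matrix.GeneralLinearGroup.map φ P), ← map_inv, ← map_mul,
    ← map_mul, sig_diag h2' (fun i => by rw [← map_mul, hf, map_one]) hPK]
  simp only [ztr, hn]

end Gen

variable {k : ℕ} {σ : Type} [Fintype σ] [DecidableEq σ]

theorem pureS_map {K : Type*} [Field K] (φ : F →+* K) (A : σ → Matrix (Fin k) (Fin k) F) :
    (pureS A).map φ = pureS fun l => (A l).map φ := by
  ext a b
  simp [pureS_apply, map_prod]

theorem permS_map {K : Type*} [Field K] (φ : F →+* K) (π : Equiv.Perm σ) :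
    (permS k F π).map φ = permS k K π := by
  have e : permS k F π = pureS (fun _ : σ => (1 : Matrix (Fin k) (Fin k) F)) * permS k F π := by
    rw [pureS_one, Matrix.one_mul]
  have e' : permS k K π = pureS (fun _ : σ => (1 : Matrix (Fin k) (Fin k) K)) * permS k K π := by
    rw [pureS_one, Matrix.one_mul]
  rw [e, e']
  ext a b
  rw [Matrix.map_apply, mul_permS_apply, mul_permS_apply, ← Matrix.map_apply (f := φ) (M := pureS _), pureS_map]
  simp

/-- Permutations fixing the scalars. -/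
theorem permS_apply' (π : Equiv.Perm σ) (a b : σ → Fin k) :
    permS k F π a b = if a = b ∘ π.symm then 1 else 0 := by
  rw [← Matrix.one_mul (permS k F π), mul_permS_apply, Matrix.one_apply]

/-- A sign-flipping swap times diagonal signs has the signed count of the fixed tails. -/
theorem sig_perm_diag [DecidableEq F] (h2 : (2 : F) ≠ 0) {π : Equiv.Perm σ} (hπ : π * π = 1)
    {f : (σ → Fin k) → F} (hf : ∀ a, f a * f a = 1) (hfπ : ∀ a, f (a ∘ π) = f a) {g : GL (σ → Fin k) F}
    (hg : (g : Matrix (σ → Fin k) (σ → Fin k) F) = Matrix.diagonal f * permS k F π) :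
    sig g = ∑ a ∈ Finset.univ.filter (fun a : σ → Fin k => a ∘ π = a), sgn (f a) := by
  classical
  have hps : (π.symm : σ → σ) = π := by
    rw [← Equiv.Perm.inv_def, inv_eq_of_mul_eq_one_left hπ]
  have hππ : ∀ j, π (π j) = j := fun j => by rw [← Equiv.Perm.mul_apply, hπ, Equiv.Perm.one_apply]
  have htt : ∀ a : σ → Fin k, (a ∘ π) ∘ π = a := fun a => funext fun j => by simp [hππ]
  obtain ⟨e⟩ : Nonempty ((σ → Fin k) ≃ Fin (Fintype.card (σ → Fin k))) := ⟨Fintype.equivFin _⟩
  obtain ⟨s, hs⟩ : ∃ s : (σ → Fin k) → F, s = fun a => if e (a ∘ π) < e a then -1 else 1 := ⟨_, rfl⟩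
  have hs1 : ∀ a, s a * s a = 1 := fun a => by rw [hs]; dsimp only; split_ifs <;> simp
  have hsfix : ∀ a, a ∘ π = a → s a = 1 := fun a ha => by rw [hs]; simp [ha]
  have hsmov : ∀ a, a ∘ π ≠ a → s (a ∘ π) = -s a := fun a ha => by
    rw [hs]
    dsimp only
    rw [htt]
    rcases lt_trichotomy (e (a ∘ π)) (e a) with h | h | h
    · rw [if_pos h, if_neg h.not_gt, neg_neg]
    · exact absurd (e.injective h) ha
    · rw [if_neg h.not_gt, if_pos h]
  obtain ⟨Q, hQ⟩ : ∃ Q : Matrix (σ → Fin k) (σ → Fin k) F,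
      Q = Matrix.of fun a b => if a = b then s a else if b = a ∘ π then 1 else 0 := ⟨_, rfl⟩
  have hrow : ∀ (M : Matrix (σ → Fin k) (σ → Fin k) F) a b,
      (Q * M) a b = s a * M a b + (if a ∘ π = a then 0 else M (a ∘ π) b) := by
    intro M a b
    rw [Matrix.mul_apply, hQ]
    by_cases ha : a ∘ π = a
    · rw [if_pos ha, Finset.sum_eq_single a, add_zero]
      · simp
      · intro c _ hc
        simp [Ne.symm hc, ha, hc]
      · simp
    · rw [if_neg ha, ← Finset.add_sum_erase _ _ (Finset.mem_univ a),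
        Finset.sum_eq_single (a ∘ π)]
      · simp [Ne.symm ha]
      · intro c hc hc'
        simp [Ne.symm (Finset.ne_of_mem_erase hc), hc']
      · intro h; exact absurd (Finset.mem_erase.2 ⟨ha, Finset.mem_univ _⟩) h
  obtain ⟨D, hD⟩ : ∃ D : (σ → Fin k) → F, D = fun a => if a ∘ π = a then 1 else 2⁻¹ := ⟨_, rfl⟩
  have hQQ : Q * Q * Matrix.diagonal D = 1 := by
    ext a b
    rw [Matrix.mul_diagonal, hrow, hQ]
    simp only [Matrix.of_apply, htt, hD]
    by_cases ha : a ∘ π = a
    · by_cases hab : a = b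
      · subst hab; simp [ha, hs1]
      · simp [hab, ha, Ne.symm hab]
    · by_cases hab : a = b
      · subst hab
        simp [ha, hs1, one_add_one_eq_two, h2]
      · by_cases hb : b = a ∘ π
        · subst hb
          simp [ha, Ne.symm ha, hsmov a ha]
        · simp [hab, hb, Ne.symm hab, ha, Ne.symm hb]
  obtain ⟨P, hP⟩ : ∃ P : GL (σ → Fin k) F, (P : Matrix (σ → Fin k) (σ → Fin k) F) = Q :=
    ⟨(IsUnit.of_mul_eq_one (Q * Matrix.diagonal D) (by rw [← Matrix.mul_assoc, hQQ]) : IsUnit Q).unit, rfl⟩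
  have key : (g : Matrix (σ → Fin k) (σ → Fin k) F) * Q = Q * Matrix.diagonal fun a => f a * s a := by
    ext a b
    rw [hg, Matrix.mul_assoc, Matrix.diagonal_mul, Matrix.mul_diagonal, hQ]
    rw [Matrix.mul_apply, Finset.sum_eq_single (a ∘ π)]
    · rw [permS_apply', hps, if_pos (htt a).symm, one_mul]
      simp only [Matrix.of_apply, htt]
      by_cases ha : a ∘ π = a
      · by_cases hab : a = b
        · subst hab; simp [ha, hsfix a ha]
        · simp [ha, hab, Ne.symm hab]
      · by_cases hab : a = b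
        · subst hab
          have := hs1 a
          rw [if_neg ha, if_pos rfl, if_pos rfl]
          linear_combination -(f a) * this
        · by_cases hb : b = a ∘ π
          · subst hb
            rw [if_pos rfl, if_neg (Ne.symm ha), if_pos rfl, hfπ]
            ring
          · simp [hab, Ne.symm hab, hb, Ne.symm hb]
    · intro c _ hc
      rw [permS_apply', hps, if_neg fun e => hc (by rw [e, htt]), zero_mul]
    · simp
  have hd : ((P⁻¹ * g * P : GL (σ → Fin k) F) : Matrix (σ → Fin k) (σ → Fin k) F) =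
      Matrix.diagonal fun a => f a * s a := by
    rw [Units.val_mul, Units.val_mul, hP, Matrix.mul_assoc, key, ← hP, ← Matrix.mul_assoc, Units.inv_mul,
      Matrix.one_mul]
  rw [← sig_conj' P g, sig_diag h2 (fun a => by rw [mul_mul_mul_comm, hf, hs1, one_mul]) hd, ztr,
    ← Finset.sum_filter_add_sum_filter_not Finset.univ (fun a : σ → Fin k => a ∘ π = a)]
  rw [Finset.sum_involution (s := Finset.univ.filter fun a : σ → Fin k => ¬a ∘ π = a) (fun a _ => a ∘ π)]
  · rw [add_zero]
    exact Finset.sum_congr rfl fun a ha => by rw [hsfix a (Finset.mem_filter.1 ha).2, mul_one]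
  · intro a ha
    have ha' := (Finset.mem_filter.1 ha).2
    rw [hsmov a ha', hfπ]
    rcases mul_self_eq_one_iff.1 (hf a) with e | e <;> rcases mul_self_eq_one_iff.1 (hs1 a) with e' | e' <;>
      simp [e, e', sgn_one, sgn_neg_one h2]
  · intro a ha _
    exact (Finset.mem_filter.1 ha).2
  · intro a ha
    refine Finset.mem_filter.2 ⟨Finset.mem_univ _, fun e => (Finset.mem_filter.1 ha).2 ?_⟩
    exact e.symm.trans (htt a)
  · intro a ha
    exact htt a

/-- The fixed tails of a permutation. -/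
theorem sum_fixed {π : Equiv.Perm σ} {R : Finset σ} (hR : ∀ j, π j ≠ j → (j ∈ R ↔ π j ∉ R))
    (hR' : ∀ j ∈ R, π j ≠ j) (hπ : π * π = 1) (v : σ → Fin k → ℤ) (hv : ∀ j, π j ≠ j → ∀ u, v j u = 1) :
    ∑ a ∈ Finset.univ.filter (fun a : σ → Fin k => a ∘ π = a), ∏ j, v j (a j) =
      (k : ℤ) ^ R.card * ∏ j ∈ Finset.univ.filter (fun j => π j = j), ∑ u, v j u := by
  classical
  have hππ : ∀ j, π (π j) = j := fun j => by rw [← Equiv.Perm.mul_apply, hπ, Equiv.Perm.one_apply]
  obtain ⟨T, hT⟩ : ∃ T : Finset σ, T = R ∪ Finset.univ.filter (fun j => π j = j) := ⟨_, rfl⟩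
  have hTmem : ∀ j, j ∈ T ↔ j ∈ R ∨ π j = j := fun j => by simp [hT]
  have hnot : ∀ j, j ∉ T → π j ∈ T ∧ π j ≠ j := fun j hj => by
    rw [hTmem, not_or] at hj
    exact ⟨(hTmem _).2 (Or.inl (by_contra fun h => hj.1 ((hR j hj.2).2 h))), hj.2⟩
  obtain ⟨ρ, hρ⟩ : ∃ ρ : σ → σ, ρ = fun j => if j ∈ T then j else π j := ⟨_, rfl⟩
  have hρT : ∀ j, ρ j ∈ T := fun j => by
    rw [hρ]; dsimp only; split_ifs with h <;> [exact h; exact (hnot j h).1]
  rw [Finset.sum_bij' (t := (Finset.univ : Finset (↥T → Fin k)))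
    (g := fun c => ∏ j : ↥T, v j (c j)) (fun a _ j => a j)
    (fun c _ j => c ⟨ρ j, hρT j⟩) (fun _ _ => Finset.mem_univ _)]
  · rw [← Fintype.prod_sum (fun (j : ↥T) u => v j u), Finset.prod_coe_sort T (fun j => ∑ u, v j u), hT,
      Finset.prod_union (Finset.disjoint_left.2 fun j hj hj' => hR' j hj (Finset.mem_filter.1 hj').2)]
    congr 1
    rw [Finset.prod_congr rfl fun j hj => show ∑ u, v j u = (k : ℤ) by simp [hv j (hR' j hj)], Finset.prod_const]
  · intro c _
    refine Finset.mem_filter.2 ⟨Finset.mem_univ _, funext fun j => congrArg c (Subtype.ext ?_)⟩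
    show ρ (π j) = ρ j
    rw [hρ]
    dsimp only
    by_cases h1 : j ∈ T
    · rw [if_pos h1]
      by_cases h2 : π j = j
      · rw [if_pos (by rw [h2]; exact h1), h2]
      · rw [if_neg, hππ]
        intro h
        rw [hTmem] at h h1
        have h1' := h1.resolve_right h2
        rcases h with h | h
        · exact (hR j h2).1 h1' h
        · exact h2 (π.injective h)
    · rw [if_neg h1, if_pos (hnot j h1).1]
  · intro a ha
    have ha' := (Finset.mem_filter.1 ha).2
    funext j
    show a (ρ j) = a j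
    rw [hρ]
    dsimp only
    split_ifs with h
    · rfl
    · exact congrFun ha' j
  · intro c _
    funext j
    exact congrArg c (Subtype.ext (by simp [hρ, j.2]))
  · intro a _
    rw [← Finset.prod_subset (Finset.subset_univ T) fun j _ hj => hv j (hnot j hj).2 _]
    exact (Finset.prod_coe_sort T (fun j => v j (a j))).symm

/-- A permutation of order two has a transversal on the moved points. -/
theorem exists_transversal {π : Equiv.Perm σ} (hπ : π * π = 1) :
    ∃ R : Finset σ, (∀ j, π j ≠ j → (j ∈ R ↔ π j ∉ R)) ∧ (∀ j ∈ R, π j ≠ j) ∧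
      2 * R.card + (Finset.univ.filter fun j => π j = j).card = Fintype.card σ := by
  classical
  have hππ : ∀ j, π (π j) = j := fun j => by rw [← Equiv.Perm.mul_apply, hπ, Equiv.Perm.one_apply]
  obtain ⟨e⟩ : Nonempty (σ ≃ Fin (Fintype.card σ)) := ⟨Fintype.equivFin _⟩
  obtain ⟨R, hR⟩ : ∃ R : Finset σ, R = Finset.univ.filter fun j => e j < e (π j) := ⟨_, rfl⟩
  have hmem : ∀ j, j ∈ R ↔ e j < e (π j) := fun j => by simp [hR]
  have h1 : ∀ j, π j ≠ j → (j ∈ R ↔ π j ∉ R) := fun j hj => by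
    rw [hmem, hmem, hππ, not_lt]
    exact ⟨le_of_lt, fun h => lt_of_le_of_ne h fun e' => hj (e.injective e').symm⟩
  have h2 : ∀ j ∈ R, π j ≠ j := fun j hj h => by rw [hmem, h] at hj; exact lt_irrefl _ hj
  refine ⟨R, h1, h2, ?_⟩
  have hd : (Finset.univ.filter fun j => π j = j) ∪ R ∪ R.map π.toEmbedding = Finset.univ := by
    refine Finset.eq_univ_of_forall fun j => ?_
    simp only [Finset.mem_union, Finset.mem_filter, Finset.mem_univ, true_and, Finset.mem_map, Equiv.coe_toEmbedding]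
    by_cases hj : π j = j
    · exact Or.inl (Or.inl hj)
    · by_cases hjR : j ∈ R
      · exact Or.inl (Or.inr hjR)
      · exact Or.inr ⟨π j, by_contra fun h => hjR ((h1 j hj).2 h), hππ j⟩
  have := congrArg Finset.card hd
  rw [Finset.card_union_of_disjoint, Finset.card_union_of_disjoint, Finset.card_map, Finset.card_univ] at this
  · omega
  · exact Finset.disjoint_left.2 fun j hj hj' => h2 j hj' (Finset.mem_filter.1 hj).2
  · refine Finset.disjoint_left.2 fun j hj hj' => ?_
    obtain ⟨i, hi, rfl⟩ := Finset.mem_map.1 hj'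
    simp only [Equiv.coe_toEmbedding, Finset.mem_union, Finset.mem_filter, Finset.mem_univ, true_and] at hj
    rcases hj with hj | hj
    · exact h2 i hi (π.injective hj)
    · exact (h1 i (h2 i hi)).1 hi hj

/-- Scalar slot matrices in a pure tensor. -/
theorem pureS_smul' (c : σ → F) (A : σ → Matrix (Fin k) (Fin k) F) :
    pureS (fun l => c l • A l) = (∏ l, c l) • pureS A := by
  ext a b
  simp only [pureS_apply, Matrix.smul_apply, smul_eq_mul, Finset.prod_mul_distrib]

theorem smul_invol {ι : Type*} [Fintype ι] [DecidableEq ι] [Nonempty ι] {c : F} {M : Matrix ι ι F}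
    (hM : M * M = 1) (h : (c • M) * (c • M) = 1) : c * c = 1 := by
  rw [smul_mul_smul_comm, hM] at h
  obtain ⟨i⟩ := ‹Nonempty ι›
  simpa using congrFun (congrFun h i) i

/-- The signature of a standard involution. -/
theorem std_sig [Fintype F] {d : Fin k → F} (hd : Shape d) {A : σ → GL (Fin k) F} {π : Equiv.Perm σ}
    (hinv : (pureG A * permG k F π) * (pureG A * permG k F π) = 1) :
    π * π = 1 ∧ ∃ R : Finset σ, ∃ s : σ → ℕ,
      (∀ j, π j ≠ j → (j ∈ R ↔ π j ∉ R)) ∧ (∀ j ∈ R, π j ≠ j) ∧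
      2 * R.card + (Finset.univ.filter fun j => π j = j).card = Fintype.card σ ∧
      (|sig (pureG A * permG k F π)| = (k : ℤ) ^ R.card *
        ∏ j ∈ Finset.univ.filter (fun j => π j = j), (s j : ℤ)) ∧
      ∀ j, π j = j → s j ≤ k ∧ Even (k - s j) ∧ (s j = k → ∃ c : F, (A j : Matrix (Fin k) (Fin k) F) = c • 1) := by
  classical
  haveI : NeZero k := ⟨by have := hd.three; omega⟩
  have h2 := hd.two
  obtain ⟨t, ht⟩ : ∃ t, t = pureG A * permG k F π := ⟨_, rfl⟩
  rw [← ht] at hinv
  have hconj : ∀ (j : σ) (Y : GL (Fin k) F),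
      facG (π (π j)) (A (π (π j)) * (A (π j) * Y * (A (π j))⁻¹) * (A (π (π j)))⁻¹) = facG j Y := fun j Y => by
    rw [← std_facG A π, ← std_facG A π, ← ht]
    calc _ = (t * t) * facG j Y * (t * t)⁻¹ := by group
      _ = _ := by rw [hinv, one_mul, inv_one, mul_one]
  have hππ : π * π = 1 := Equiv.ext fun j => by
    rw [Equiv.Perm.mul_apply, Equiv.Perm.one_apply]
    by_contra hne
    obtain ⟨S, hS⟩ := exists_gen (k := k) hd.three
    have e := congrArg Units.val (hconj j (sg S))
    rw [facG_val, facG_val] at e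
    obtain ⟨c, hc⟩ := facS_eq_facS hne e
    exact hd.sg_not_scalar hS c (facS_inj j (by rw [← e, hc, facS_smul, facS_smul, facS_one, facS_one]))
  have hscal : ∀ j, ∃ c : F, ((A j * A (π j) : GL (Fin k) F) : Matrix (Fin k) (Fin k) F) = c • 1 := by
    intro j
    refine hd.scalar_of_commute fun g _ => ?_
    have hj : π (π j) = j := by rw [← Equiv.Perm.mul_apply, hππ, Equiv.Perm.one_apply]
    have e := hconj j g
    rw [hj] at e
    have e' : A j * A (π j) * g * (A j * A (π j))⁻¹ = g := by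
      refine Eq.trans ?_ (facG_inj j e)
      group
    exact (congrArg Units.val (mul_inv_eq_iff_eq_mul.1 e')).symm
  refine ⟨hππ, ?_⟩
  obtain ⟨R, hR, hR', hcard⟩ := exists_transversal hππ
  -- make the moved slots scalar
  obtain ⟨P, hP⟩ : ∃ P : σ → GL (Fin k) F, P = fun j => if π j ≠ j ∧ π j ∈ R then (A (π j))⁻¹ else 1 := ⟨_, rfl⟩
  obtain ⟨A', hA'⟩ : ∃ A' : σ → GL (Fin k) F, A' = fun j => (P j)⁻¹ * A j * P (π j) := ⟨_, rfl⟩
  have hps : π.symm = π := by rw [← Equiv.Perm.inv_def, inv_eq_of_mul_eq_one_left hππ]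
  have hA't : (pureG P)⁻¹ * t * pureG P = pureG A' * permG k F π := by
    rw [ht, ← map_inv, mul_assoc, mul_assoc, perm_pure, ← mul_assoc (pureG A), ← map_mul, ← mul_assoc, ← map_mul]
    congr 2
    funext j
    simp only [hA', Pi.mul_apply, Pi.inv_apply, hps, mul_assoc]
  have hA'mov : ∀ j, π j ≠ j → ∃ c : F, (A' j : Matrix (Fin k) (Fin k) F) = c • 1 := by
    intro j hj
    have hjj : π (π j) = j := by rw [← Equiv.Perm.mul_apply, hππ, Equiv.Perm.one_apply]
    by_cases hjR : j ∈ R
    · have e : A' j = 1 := by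
        rw [hA', hP]
        simp [hjj, Ne.symm hj, hjR, hj, (hR j hj).1 hjR]
      exact ⟨1, by rw [e, Units.val_one, one_smul]⟩
    · obtain ⟨c, hc⟩ := hscal (π j)
      rw [hjj] at hc
      refine ⟨c, ?_⟩
      have hπR : π j ∈ R := by_contra fun h => hjR ((hR j hj).2 h)
      rw [show A' j = A (π j) * A j by
        rw [hA', hP]
        simp [hj, hπR, hjj, hjR], hc]
  have hA'fix : ∀ j, π j = j → A' j = A j := fun j hj => by
    rw [hA', hP]; simp [hj]
  choose! c hc using hA'mov
  choose c₂ hc₂ using hscal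
  -- pass to an algebraically closed field
  let K := AlgebraicClosure F
  let φ : F →+* K := algebraMap F K
  have h2K : (2 : K) ≠ 0 := fun h => h2 (φ.injective (by rw [map_ofNat, h, map_zero]))
  have hroot : ∀ j, ∃ r : K, r ≠ 0 ∧ r * r = φ (c₂ j) := by
    intro j
    obtain ⟨r, hr⟩ := IsAlgClosed.exists_eq_mul_self (φ (c₂ j))
    refine ⟨r, fun h0 => ?_, hr.symm⟩
    have hne : c₂ j ≠ 0 := fun h => by
      have := hc₂ j
      rw [h, zero_smul] at this
      exact (Units.isUnit _).ne_zero this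
    exact hne (φ.injective (by rw [hr, h0, mul_zero, map_zero]))
  choose r hr0 hr using hroot
  have hsm : ∀ x : F, (x • (1 : Matrix (Fin k) (Fin k) F)).map φ = φ x • (1 : Matrix (Fin k) (Fin k) K) := fun x => by
    ext u w
    rcases eq_or_ne u w with rfl | huw
    · simp
    · simp [Matrix.one_apply_ne huw]
  obtain ⟨M, hM⟩ : ∃ M : σ → Matrix (Fin k) (Fin k) K, M = fun j =>
      if π j = j then (r j)⁻¹ • (A j : Matrix (Fin k) (Fin k) F).map φ else 1 := ⟨_, rfl⟩
  have hMM : ∀ j, M j * M j = 1 := by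
    intro j
    rw [hM]
    dsimp only
    split_ifs with hj
    · have e := hc₂ j
      rw [hj, Units.val_mul] at e
      rw [smul_mul_smul_comm, ← Matrix.map_mul, e, hsm, smul_smul, ← hr j]
      rw [show (r j)⁻¹ * (r j)⁻¹ * (r j * r j) = ((r j)⁻¹ * r j) * ((r j)⁻¹ * r j) by ring, inv_mul_cancel₀ (hr0 j),
        one_mul, one_smul]
    · exact Matrix.one_mul 1
  obtain ⟨B, hB⟩ : ∃ B : σ → GL (Fin k) K, ∀ j, (B j : Matrix (Fin k) (Fin k) K) = M j :=
    ⟨fun j => ⟨M j, M j, hMM j, hMM j⟩, fun j => rfl⟩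
  obtain ⟨e, he⟩ : ∃ e : σ → K, e = fun j => if π j = j then r j else φ (c j) := ⟨_, rfl⟩
  have hA'K : ∀ j, (A' j : Matrix (Fin k) (Fin k) F).map φ = e j • M j := by
    intro j
    rw [he, hM]
    dsimp only
    split_ifs with hj
    · rw [hA'fix j hj, smul_smul, mul_inv_cancel₀ (hr0 j), one_smul]
    · rw [hc j hj, hsm]
  have hBB : ∀ j, B j * B j = 1 := fun j => Units.ext (by rw [Units.val_mul, hB, hMM, Units.val_one])
  have hBmov : ∀ j, π j ≠ j → B j = 1 := fun j hj => Units.ext (by rw [hB, hM]; simp [hj])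
  -- diagonalise the fixed slots
  have hdiag : ∀ j, ∃ (Q : GL (Fin k) K) (v : Fin k → K), (∀ u, v u * v u = 1) ∧
      (π j ≠ j → Q = 1 ∧ ∀ u, v u = 1) ∧
      ((Q⁻¹ * B j * Q : GL (Fin k) K) : Matrix (Fin k) (Fin k) K) = Matrix.diagonal v := by
    intro j
    by_cases hj : π j = j
    · obtain ⟨Q, v, hv, hQ⟩ := exists_diag_invol h2K (hBB j)
      exact ⟨Q, v, hv, fun h => absurd hj h, hQ⟩
    · refine ⟨1, fun _ => 1, fun u => one_mul 1, fun _ => ⟨rfl, fun u => rfl⟩, ?_⟩
      rw [hBmov j hj, inv_one, one_mul, one_mul, Units.val_one, Matrix.diagonal_one]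
  choose Q v hv hQmov hQ using hdiag
  obtain ⟨f, hf⟩ : ∃ f : (σ → Fin k) → K, f = fun a => ∏ j, v j (a j) := ⟨_, rfl⟩
  have hf1 : ∀ a, f a * f a = 1 := fun a => by
    rw [hf]; dsimp only; rw [← Finset.prod_mul_distrib]; simp [hv]
  have hfπ : ∀ a : σ → Fin k, f (a ∘ π) = f a := fun a => by
    rw [hf]
    refine Finset.prod_congr rfl fun j _ => ?_
    by_cases hj : π j = j
    · rw [Function.comp_apply, hj]
    · rw [(hQmov j hj).2, (hQmov j hj).2]
  obtain ⟨T, hT⟩ : ∃ T : GL (σ → Fin k) K, T = pureG B * permG k K π := ⟨_, rfl⟩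
  have hTd : (((pureG Q)⁻¹ * T * pureG Q : GL (σ → Fin k) K) : Matrix (σ → Fin k) (σ → Fin k) K) =
      Matrix.diagonal f * permS k K π := by
    have e1 : (pureG Q)⁻¹ * T * pureG Q = pureG (fun j => (Q j)⁻¹ * B j * Q j) * permG k K π := by
      rw [hT, ← map_inv, mul_assoc, mul_assoc, perm_pure, ← mul_assoc (pureG B), ← map_mul, ← mul_assoc, ← map_mul]
      congr 2
      funext j
      simp only [Pi.mul_apply, Pi.inv_apply, hps, ← mul_assoc]
      by_cases hj : π j = j
      · rw [hj]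
      · rw [(hQmov j hj).1, (hQmov (π j) (fun h => hj (π.injective h))).1]
    rw [e1, Units.val_mul, pureG_val, permG_val, hf, ← pureS_diagonal]
    simp only [hQ]
  have hsT : sig T = (k : ℤ) ^ R.card * ∏ j ∈ Finset.univ.filter (fun j => π j = j), sig (B j) := by
    rw [← sig_conj' (pureG Q) T, sig_perm_diag h2K hππ hf1 hfπ hTd]
    have hsg : ∀ a : σ → Fin k, sgn (f a) = ∏ j, sgn (v j (a j)) := by
      intro a
      rw [hf]
      have : ∀ s : Finset σ, (∏ j ∈ s, v j (a j)) * (∏ j ∈ s, v j (a j)) = 1 ∧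
          sgn (∏ j ∈ s, v j (a j)) = ∏ j ∈ s, sgn (v j (a j)) := by
        intro s
        induction s using Finset.induction with
        | empty => simp [sgn_one]
        | insert j s hj ih =>
          rw [Finset.prod_insert hj, Finset.prod_insert hj]
          exact ⟨by rw [mul_mul_mul_comm, hv, ih.1, one_mul], by rw [sgn_mul h2K (hv _ _) ih.1, ih.2]⟩
      exact (this _).2
    rw [Finset.sum_congr rfl fun a _ => hsg a, sum_fixed hR hR' hππ (fun j u => sgn (v j u))
      fun j hj u => by rw [(hQmov j hj).2, sgn_one]]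
    congr 1
    exact Finset.prod_congr rfl fun j _ => by rw [← sig_conj' (Q j) (B j), sig_diag h2K (hv j) (hQ j)]; rfl
  obtain ⟨ε, hε⟩ : ∃ ε : K, ε = ∏ j, e j := ⟨_, rfl⟩
  have hmap : ((Matrix.GeneralLinearGroup.map φ ((pureG P)⁻¹ * t * pureG P) : GL (σ → Fin k) K) :
      Matrix (σ → Fin k) (σ → Fin k) K) = ε • (T : Matrix (σ → Fin k) (σ → Fin k) K) := by
    show (((pureG P)⁻¹ * t * pureG P : GL (σ → Fin k) F) : Matrix (σ → Fin k) (σ → Fin k) F).map φ = _
    rw [hA't, hT, Units.val_mul, Units.val_mul, pureG_val, pureG_val, permG_val, permG_val, Matrix.map_mul,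
      pureS_map, permS_map, funext hA'K, pureS_smul', ← hε, Matrix.smul_mul]
    simp only [hB]
  have hTT : T * T = 1 := by
    rw [hT, mul_assoc, ← mul_assoc (permG k K π), perm_pure, mul_assoc, ← map_mul (permG k K), hππ, map_one,
      mul_one, ← map_mul]
    rw [show B * (fun l => B (π.symm l)) = 1 from funext fun j => ?_, map_one]
    rw [Pi.mul_apply, hps, Pi.one_apply]
    by_cases hj : π j = j
    · rw [hj, hBB]
    · rw [hBmov j hj, hBmov (π j) fun h => hj (π.injective h), one_mul]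
  have hinv' : ((pureG P)⁻¹ * t * pureG P) * ((pureG P)⁻¹ * t * pureG P) = 1 := by
    rw [show (pureG P)⁻¹ * t * pureG P * ((pureG P)⁻¹ * t * pureG P) = (pureG P)⁻¹ * (t * t) * pureG P by group,
      hinv, mul_one, inv_mul_cancel]
  haveI : Nonempty (σ → Fin k) := ⟨fun _ => 0⟩
  have hεε : ε * ε = 1 := smul_invol (M := (T : Matrix (σ → Fin k) (σ → Fin k) K))
    (by rw [← Units.val_mul, hTT, Units.val_one]) (by rw [← hmap, ← Units.val_mul, ← map_mul, hinv', map_one, Units.val_one])
  have hts : |sig t| = |sig T| := by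
    rw [← sig_conj' (pureG P) t, ← sig_map φ h2 hinv']
    rcases mul_self_eq_one_iff.1 hεε with h | h
    · rw [Units.ext (hmap.trans (by rw [h, one_smul]) :
        ((Matrix.GeneralLinearGroup.map φ ((pureG P)⁻¹ * t * pureG P) : GL (σ → Fin k) K) :
          Matrix (σ → Fin k) (σ → Fin k) K) = (T : Matrix (σ → Fin k) (σ → Fin k) K))]
    · rw [sig_neg h2K hTT (hmap.trans (by rw [h, neg_one_smul])), abs_neg]
  refine ⟨R, fun j => (|sig (B j)|).toNat, hR, hR', hcard, ?_, fun j hj => ?_⟩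
  · rw [← ht, hts, hsT, abs_mul, abs_pow, Nat.abs_cast, Finset.abs_prod]
    exact congrArg _ (Finset.prod_congr rfl fun j _ => (Int.toNat_of_nonneg (abs_nonneg _)).symm)
  · obtain ⟨b1, b2, b3⟩ := abs_sig_le h2K (hBB j)
    rw [Fintype.card_fin] at b1 b2 b3
    have hnn : ((|sig (B j)|).toNat : ℤ) = |sig (B j)| := Int.toNat_of_nonneg (abs_nonneg _)
    have hle : (|sig (B j)|).toNat ≤ k := by omega
    refine ⟨hle, ?_, fun h => ?_⟩
    · rw [← Int.even_coe_nat, Nat.cast_sub hle, hnn]; exact b2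
    · obtain ⟨q, hq⟩ := b3 (hnn.symm.trans (congrArg Nat.cast h))
      rw [hB, hM] at hq
      dsimp only at hq
      rw [if_pos hj] at hq
      refine ⟨(A j : Matrix (Fin k) (Fin k) F) 0 0, Matrix.ext fun u w => φ.injective ?_⟩
      have e1 := congrFun (congrFun hq u) w
      have e2 := congrFun (congrFun hq 0) 0
      simp only [Matrix.smul_apply, Matrix.map_apply, smul_eq_mul] at e1 e2
      simp only [Matrix.smul_apply, smul_eq_mul, map_mul]
      have hri : (r j)⁻¹ ≠ 0 := inv_ne_zero (hr0 j)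
      rcases eq_or_ne u w with rfl | huw
      · rw [Matrix.one_apply_eq] at e1 e2 ⊢
        rw [map_one, mul_one]
        exact mul_left_cancel₀ hri (e1.trans e2.symm)
      · rw [Matrix.one_apply_ne huw, mul_zero] at e1
        rw [Matrix.one_apply_ne huw, map_zero, mul_zero]
        exact (mul_eq_zero.1 e1).resolve_left hri

end Cfsg.Agent.Classical.OTPow
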