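/-
The centraliser of a hyperplane of signs: two tails are merged.
-/
import Cfsg.Agent.Lib.Classical.OTPow.Facts
import Cfsg.Agent.Lib.Classical.OTPow.Act

set_option autoImplicit false
set_option linter.unusedSectionVars false

namespace Cfsg.Agent.Classical.OTPow

open Matrix

variable {F : Type*} [Field F] {k : ℕ} {σ : Type} [Fintype σ] [DecidableEq σ]

/-- The group generated by the signs of the slots in `M`. -/
def ESub (F : Type*) [Field F] (k : ℕ) (M : Finset σ) : Subgroup (GL (σ → Fin k) F) :=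
  Subgroup.closure {e | ∃ l ∈ M, ∃ S, Gen S ∧ e = facG l (sg S)}

theorem sg_mem_ESub {M : Finset σ} {l : σ} (hl : l ∈ M) {S : Finset (Fin k)} (hS : Gen S) :
    facG l (sg S) ∈ ESub F k M := Subgroup.subset_closure ⟨l, hl, S, hS, rfl⟩

theorem ESub_diag {M : Finset σ} {e : GL (σ → Fin k) F} (he : e ∈ ESub F k M) :
    ∃ f : (σ → Fin k) → F, (e : Matrix (σ → Fin k) (σ → Fin k) F) = Matrix.diagonal f ∧ (∀ a, f a * f a = 1) ∧
      ∀ a b, (∀ l ∈ M, a l = b l) → f a = f b := by
  induction he using Subgroup.closure_induction with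
  | mem x hx =>
    obtain ⟨l, hl, S, -, rfl⟩ := hx
    exact ⟨_, facG_sg_val l S, fun a => sv_sq S _, fun a b h => by rw [h l hl]⟩
  | one => exact ⟨fun _ => 1, by rw [Units.val_one, Matrix.diagonal_one], fun _ => one_mul 1, fun _ _ _ => rfl⟩
  | mul x y _ _ hx hy =>
    obtain ⟨f, hf, hf1, hf2⟩ := hx
    obtain ⟨g, hg, hg1, hg2⟩ := hy
    refine ⟨fun a => f a * g a, by rw [Units.val_mul, hf, hg, Matrix.diagonal_mul_diagonal], fun a => ?_,
      fun a b h => by show f a * g a = f b * g b; rw [hf2 a b h, hg2 a b h]⟩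
    rw [mul_mul_mul_comm, hf1, hg1, one_mul]
  | inv x _ hx =>
    obtain ⟨f, hf, hf1, hf2⟩ := hx
    refine ⟨f, ?_, hf1, hf2⟩
    have : x * x = 1 := Units.ext (by
      rw [Units.val_mul, hf, Matrix.diagonal_mul_diagonal, funext hf1, Matrix.diagonal_one]; rfl)
    rw [inv_eq_of_mul_eq_one_left this, hf]

theorem ESub_sq {M : Finset σ} {e : GL (σ → Fin k) F} (he : e ∈ ESub F k M) : e * e = 1 := by
  obtain ⟨f, hf, hf1, -⟩ := ESub_diag he
  refine Units.ext ?_
  rw [Units.val_mul, hf, Matrix.diagonal_mul_diagonal, funext hf1, Matrix.diagonal_one]; rfl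

theorem ESub_inv {M : Finset σ} {e : GL (σ → Fin k) F} (he : e ∈ ESub F k M) : e⁻¹ = e :=
  inv_eq_of_mul_eq_one_left (ESub_sq he)

theorem ESub_comm {M N : Finset σ} {e e' : GL (σ → Fin k) F} (he : e ∈ ESub F k M) (he' : e' ∈ ESub F k N) :
    Commute e e' := by
  obtain ⟨f, hf, -⟩ := ESub_diag he
  obtain ⟨g, hg, -⟩ := ESub_diag he'
  refine Units.ext ?_
  rw [Units.val_mul, Units.val_mul, hf, hg, Matrix.diagonal_mul_diagonal, Matrix.diagonal_mul_diagonal]
  exact congrArg _ (funext fun a => mul_comm _ _)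

instance ESub_isMulCommutative (M : Finset σ) : IsMulCommutative (ESub F k M) :=
  ⟨⟨fun a b => Subtype.ext (ESub_comm a.2 b.2).eq⟩⟩

theorem mem_Blk_ESub {M : Finset σ} {g : GL (σ → Fin k) F} :
    g ∈ Blk F k M ↔ ∀ e ∈ ESub F k M, Commute g e := by
  rw [mem_Blk_iff]
  refine ⟨fun h e he => ?_, fun h l hl S hS => h _ (sg_mem_ESub hl hS)⟩
  induction he using Subgroup.closure_induction with
  | mem x hx =>
    obtain ⟨l, hl, S, hS, rfl⟩ := hx
    exact h l hl S hS
  | one => exact Commute.one_right g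
  | mul x y _ _ hx hy => exact hx.mul_right hy
  | inv x _ hx => exact hx.inv_right

variable [Fintype F]

theorem Ctx.ESub_le {d : Fin k → F} {X : Subgroup (GL (σ → Fin k) F)} (C : Ctx d X) (M : Finset σ) :
    ESub F k M ≤ X := (Subgroup.closure_le X).2 fun _ ⟨l, _, _, hS, he⟩ => he ▸ C.sg_mem l hS

/-- The signs determine an unordered pair of indices. -/
theorem Shape.pair_determined {d : Fin k → F} (hd : Shape d) {a b a' b' : Fin k}
    (h : ∀ S : Finset (Fin k), Gen S → ((a ∈ S ↔ b ∈ S) ↔ (a' ∈ S ↔ b' ∈ S))) (hab : a ≠ b) :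
    (a' = a ∧ b' = b) ∨ (a' = b ∧ b' = a) := by
  have h3 := hd.three
  have hne : a' ≠ b' := by
    rintro rfl
    obtain ⟨S, hS, hsep⟩ := exists_gen_sep hd.three hab
    exact hsep ((h S hS).2 Iff.rfl)
  have key : ∀ x y, x ≠ y → (∀ S : Finset (Fin k), Gen S → ((a ∈ S ↔ b ∈ S) ↔ (x ∈ S ↔ y ∈ S))) →
      x = a ∨ x = b := by
    intro x y hxy h
    by_contra hx
    push Not at hx
    obtain ⟨hxa, hxb⟩ := hx
    by_cases h4 : k = 4
    · have := h {x} (Or.inl ⟨h4, rfl⟩)
      simp [hxy.symm, Ne.symm hxa, Ne.symm hxb] at this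
    by_cases hk3 : k = 3
    · have := h (Finset.univ.erase x) (Or.inr ⟨h4, by simp [hk3], fun i _ => Or.inr (by subst hk3; decide)⟩)
      simp [hxy.symm, Ne.symm hxa, Ne.symm hxb] at this
    classical
    obtain ⟨w, hw, hw3⟩ : ∃ w : Fin k, Main w ∧ w ∉ ({a, b, y, x} : Finset (Fin k)) := by
      by_contra hcon
      push Not at hcon
      have hsub : (Finset.univ.filter fun i : Fin k => Main i) ⊆ {a, b, y, x} := fun i hi =>
        hcon i (Finset.mem_filter.1 hi).2
      have h5 := (Finset.card_le_card hsub).trans Finset.card_le_four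
      have h6 : 5 ≤ (Finset.univ.filter fun i : Fin k => Main i).card := by
        refine le_trans ?_ (Finset.card_le_card
          (s := (Finset.univ : Finset (Fin 5)).image (Fin.castLE (by omega : 5 ≤ k))) ?_)
        · rw [Finset.card_image_of_injective _ (Fin.castLE_injective _)]; simp
        · intro i hi
          obtain ⟨j, -, rfl⟩ := Finset.mem_image.1 hi
          refine Finset.mem_filter.2 ⟨Finset.mem_univ _, ?_⟩
          have := j.2
          by_cases hk5 : k = 5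
          · exact Or.inr (by subst hk5; decide)
          · exact Or.inl (by show j.val + 1 < k; omega)
      omega
    simp only [Finset.mem_insert, Finset.mem_singleton, not_or] at hw3
    obtain ⟨hwa, hwb, hwy, hwx⟩ := hw3
    by_cases hxm : Main x
    · have := h {x, w} (Or.inr ⟨h4, Finset.card_pair (Ne.symm hwx), by simp [hxm, hw]⟩)
      simp [hxy.symm, Ne.symm hxa, Ne.symm hxb, Ne.symm hwy, Ne.symm hwa, Ne.symm hwb] at this
    · have hm : ∀ z, z ≠ x → Main z := fun z hz => by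
        by_contra hz'
        exact hz (not_main_unique hz' hxm)
      obtain ⟨z, hz, hzy, hzz⟩ : ∃ z, (z = a ∨ z = b) ∧ z ≠ y ∧ z ≠ x := by
        by_cases hay : a = y
        · exact ⟨b, Or.inr rfl, fun e => hab (hay.trans e.symm), Ne.symm hxb⟩
        · exact ⟨a, Or.inl rfl, hay, Ne.symm hxa⟩
      have hzw : z ≠ w := by rcases hz with rfl | rfl <;> [exact Ne.symm hwa; exact Ne.symm hwb]
      have := h {z, w} (Or.inr ⟨h4, Finset.card_pair hzw, by simp [hm z hzz, hw]⟩)
      rcases hz with rfl | rfl <;>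
        simp [Ne.symm hzy, Ne.symm hzz, hab, hab.symm, Ne.symm hwx, Ne.symm hwy, Ne.symm hwa, Ne.symm hwb] at this
  rcases key a' b' hne h with ha | ha <;>
    rcases key b' a' hne.symm (fun S hS => (h S hS).trans iff_comm) with hb | hb
  · exact absurd (ha.trans hb.symm) hne
  · exact Or.inl ⟨ha, hb⟩
  · exact Or.inr ⟨ha, hb⟩
  · exact absurd (ha.trans hb.symm) hne

/-- Two tails merged over some slots. -/
structure Merge (σ : Type) (k : ℕ) where
  supp : Finset σ
  p : σ → Fin k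
  q : σ → Fin k
  ne : ∀ l ∈ supp, p l ≠ q l
  nonempty : supp.Nonempty

/-- The tail lies in the merged pairs. -/
def Merge.Paired (M : Merge σ k) (a : σ → Fin k) : Prop := ∀ l ∈ M.supp, a l = M.p l ∨ a l = M.q l

/-- The partner of a tail. -/
def Merge.tw (M : Merge σ k) (a : σ → Fin k) : σ → Fin k :=
  fun l => if l ∈ M.supp then Equiv.swap (M.p l) (M.q l) (a l) else a l

theorem Merge.tw_tw (M : Merge σ k) (a : σ → Fin k) : M.tw (M.tw a) = a := by
  funext l
  unfold Merge.tw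
  split_ifs <;> simp

theorem Merge.tw_off (M : Merge σ k) (a : σ → Fin k) {l : σ} (h : l ∉ M.supp) : M.tw a l = a l := by
  rw [Merge.tw, if_neg h]

theorem Merge.tw_mem (M : Merge σ k) (a : σ → Fin k) {l : σ} (h : l ∈ M.supp) :
    M.tw a l = Equiv.swap (M.p l) (M.q l) (a l) := by rw [Merge.tw, if_pos h]

theorem Merge.paired_tw (M : Merge σ k) {a : σ → Fin k} (h : M.Paired a) : M.Paired (M.tw a) := fun l hl => by
  rcases h l hl with e | e <;> simp [M.tw_mem a hl, e]

theorem Merge.tw_ne (M : Merge σ k) {a : σ → Fin k} (h : M.Paired a) {l : σ} (hl : l ∈ M.supp) : M.tw a l ≠ a l := by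
  rcases h l hl with e | e
  · simpa [M.tw_mem a hl, e] using (M.ne l hl).symm
  · simpa [M.tw_mem a hl, e] using M.ne l hl

/-- Entries connect equal tails or merged ones, on the slots of `N`. -/
def Merge.Near (M : Merge σ k) (N : Finset σ) (G : Matrix (σ → Fin k) (σ → Fin k) F) : Prop :=
  ∀ a b, G a b ≠ 0 → (∀ l ∈ N, a l = b l) ∨ (M.Paired a ∧ ∀ l ∈ N, b l = M.tw a l)

/-- The centraliser of a hyperplane of signs either keeps the tails or merges two of them. -/
theorem Shape.hyper {d : Fin k → F} (hd : Shape d) {N : Finset σ} {A : Subgroup ↥(ESub F k N)} (hA : A.index = 2)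
    {g₀ : GL (σ → Fin k) F} (hg₀ : ∀ e ∈ A, Commute g₀ e.1) (hne : g₀ ∉ Blk F k N) :
    ∃ M : Merge σ k, M.supp ⊆ N ∧
      (∀ g : GL (σ → Fin k) F, (∀ e ∈ A, Commute g e.1) → M.Near N (g : Matrix (σ → Fin k) (σ → Fin k) F)) ∧
      ∀ e ∈ ESub F k N, (∀ he, (⟨e, he⟩ : ↥(ESub F k N)) ∉ A) → ∀ a, M.Paired a →
        (e : Matrix (σ → Fin k) (σ → Fin k) F) (M.tw a) (M.tw a) =
          -(e : Matrix (σ → Fin k) (σ → Fin k) F) a a := by
  classical
  rw [hd.mem_Blk] at hne
  simp only [BlkM, not_forall] at hne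
  obtain ⟨a₀, b₀, hg0, l₀, hl₀, hl0⟩ := hne
  obtain ⟨v, hv⟩ : ∃ v : ↥(ESub F k N) → (σ → Fin k) → F, v = fun e a => (e.1 : Matrix _ _ F) a a := ⟨_, rfl⟩
  have hval : ∀ e : ↥(ESub F k N), (e.1 : Matrix _ _ F) = Matrix.diagonal (v e) ∧ (∀ a, v e a * v e a = 1) ∧
      ∀ a b, (∀ l ∈ N, a l = b l) → v e a = v e b := fun e => by
    obtain ⟨f, hf, h1, h2⟩ := ESub_diag e.2
    have : v e = f := funext fun a => by simp [hv, hf]
    exact ⟨this ▸ hf, this ▸ h1, this ▸ h2⟩
  have hA1 : ∀ (g : GL (σ → Fin k) F), (∀ e ∈ A, Commute g e.1) → ∀ a b, (g : Matrix _ _ F) a b ≠ 0 →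
      ∀ e ∈ A, v e a = v e b := fun g hg a b hab e he => by
    refine (commute_diagonal_iff (g : Matrix _ _ F) _).1 ?_ a b hab
    rw [← (hval e).1]
    exact congrArg Units.val (hg e he).eq
  have hmulv : ∀ (e e' : ↥(ESub F k N)) a, v (e * e') a = v e a * v e' a := fun e e' a => by
    have : v (e * e') a = ((e * e').1 : Matrix _ _ F) a a := by rw [hv]
    rw [this, Subgroup.coe_mul, Units.val_mul, (hval e).1, (hval e').1, Matrix.diagonal_mul_diagonal,
      Matrix.diagonal_apply_eq]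
  -- two characters trivial on the hyperplane and nowhere trivial agree
  have hchar : ∀ a b, (∀ e ∈ A, v e a = v e b) → (∃ l ∈ N, a l ≠ b l) →
      ∀ e, e ∉ A → v e a = -v e b := by
    rintro a b hab ⟨l, hl, hlne⟩ e he
    obtain ⟨S, hS, hsep⟩ := exists_gen_sep hd.three hlne
    obtain ⟨e₀, he₀⟩ : ∃ e₀ : ↥(ESub F k N), e₀ = ⟨_, sg_mem_ESub hl hS⟩ := ⟨_, rfl⟩
    have hv0 : ∀ c, v e₀ c = sv S (c l) := fun c => by
      simp [hv, he₀, facG_sg_val]
    have hne0 : v e₀ a ≠ v e₀ b := by rw [hv0, hv0]; exact sv_ne hd.two hsep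
    have he₀A : e₀ ∉ A := fun h => hne0 (hab e₀ h)
    have hee : e₀ * e ∈ A := by
      rw [Subgroup.mul_mem_iff_of_index_two hA]
      exact iff_of_false he₀A he
    have h1 := hab _ hee
    rw [hmulv, hmulv] at h1
    rcases mul_self_eq_mul_self_iff.1 (((hval e₀).2.1 a).trans ((hval e₀).2.1 b).symm) with h | h
    · exact absurd h hne0
    · rw [h] at h1
      have hb0 : v e₀ b ≠ 0 := fun h0 => by simpa [h0] using (hval e₀).2.1 b
      exact mul_left_cancel₀ hb0 (by linear_combination -h1)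
  obtain ⟨M, hM⟩ : ∃ M : Merge σ k, M = ⟨N.filter fun l => a₀ l ≠ b₀ l, a₀, b₀, fun l hl => (Finset.mem_filter.1 hl).2,
      ⟨l₀, Finset.mem_filter.2 ⟨hl₀, hl0⟩⟩⟩ := ⟨_, rfl⟩
  have hMp : M.p = a₀ := by rw [hM]
  have hMq : M.q = b₀ := by rw [hM]
  have hMs : ∀ l, l ∈ M.supp ↔ l ∈ N ∧ a₀ l ≠ b₀ l := fun l => by rw [hM, Finset.mem_filter]
  have h00 := hA1 g₀ hg₀ a₀ b₀ hg0
  refine ⟨M, fun l hl => ((hMs l).1 hl).1, fun g hg a b hab => ?_, ?_⟩
  · by_cases heq : ∀ l ∈ N, a l = b l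
    · exact Or.inl heq
    push Not at heq
    obtain ⟨l', hl', hne'⟩ := heq
    have hab' := hA1 g hg a b hab
    -- the same parities slot by slot
    have hslot : ∀ l ∈ N, ∀ S : Finset (Fin k), Gen S → ((a₀ l ∈ S ↔ b₀ l ∈ S) ↔ (a l ∈ S ↔ b l ∈ S)) := by
      intro l hl S hS
      obtain ⟨e₀, he₀⟩ : ∃ e₀ : ↥(ESub F k N), e₀ = ⟨_, sg_mem_ESub hl hS⟩ := ⟨_, rfl⟩
      have hv0 : ∀ c, v e₀ c = sv S (c l) := fun c => by
        simp [hv, he₀, facG_sg_val]
      have hiff : ∀ x y : Fin k, (x ∈ S ↔ y ∈ S) ↔ (sv S x : F) = sv S y := fun x y =>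
        ⟨fun h => by simp only [sv, h], fun h => by_contra fun h' => sv_ne hd.two h' h⟩
      rw [hiff, hiff, ← hv0, ← hv0, ← hv0, ← hv0]
      by_cases he : e₀ ∈ A
      · exact iff_of_true (h00 e₀ he) (hab' e₀ he)
      · have e1 := hchar a₀ b₀ h00 ⟨l₀, hl₀, hl0⟩ e₀ he
        have e2 := hchar a b hab' ⟨l', hl', hne'⟩ e₀ he
        have hn : ∀ c, v e₀ c ≠ -v e₀ c := fun c h => hd.two (by
          have h1 := (hval e₀).2.1 c
          have : (2 : F) * (v e₀ c * v e₀ c) = 0 := by linear_combination v e₀ c * h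
          rwa [h1, mul_one] at this)
        exact iff_of_false (fun h => hn b₀ (by rw [h] at e1; exact e1))
          (fun h => hn b (by rw [h] at e2; exact e2))
    refine Or.inr ⟨fun l hl => ?_, fun l hl => ?_⟩
    · obtain ⟨hlN, hlne⟩ := (hMs l).1 hl
      rcases hd.pair_determined (hslot l hlN) hlne with ⟨h1, -⟩ | ⟨h1, -⟩
      · exact Or.inl (by rw [hMp, h1])
      · exact Or.inr (by rw [hMq, h1])
    · by_cases hlne : a₀ l = b₀ l
      · rw [M.tw_off a fun h => ((hMs l).1 h).2 hlne]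
        by_contra h
        obtain ⟨S, hS, hsep⟩ := exists_gen_sep hd.three (Ne.symm h)
        exact hsep ((hslot l hl S hS).1 (by rw [hlne]))
      · rw [M.tw_mem a ((hMs l).2 ⟨hl, hlne⟩), hMp, hMq]
        rcases hd.pair_determined (hslot l hl) hlne with ⟨h1, h2⟩ | ⟨h1, h2⟩ <;> simp [h1, h2]
  · intro e he heA a ha
    have hab : ∀ e' ∈ A, v e' (M.tw a) = v e' a := by
      intro e' he'
      -- the sign ratio of merged tails is that of the first pair
      have key : ∀ x : ↥(ESub F k N), ∀ c, M.Paired c → v x (M.tw c) * v x c = v x a₀ * v x b₀ := by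
        intro x c hc
        obtain ⟨x, hx⟩ := x
        induction hx using Subgroup.closure_induction with
        | mem y hy =>
          obtain ⟨l, hl, S, hS, rfl⟩ := hy
          simp only [hv, facG_sg_val, Matrix.diagonal_apply_eq]
          by_cases hls : l ∈ M.supp
          · rw [M.tw_mem c hls, hMp, hMq]
            rcases hc l hls with h | h <;> rw [h]
            · rw [hMp, Equiv.swap_apply_left, mul_comm]
            · rw [hMq, Equiv.swap_apply_right]
          · rw [M.tw_off c hls, sv_sq, show a₀ l = b₀ l from by_contra fun h => hls ((hMs l).2 ⟨hl, h⟩), sv_sq]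
        | one => simp [hv]
        | mul y z hy hz i1 i2 =>
          have e1 : ∀ c, v ⟨y * z, mul_mem hy hz⟩ c = v ⟨y, hy⟩ c * v ⟨z, hz⟩ c := fun c => hmulv ⟨y, hy⟩ ⟨z, hz⟩ c
          rw [e1, e1, e1, e1]
          linear_combination (v ⟨z, hz⟩ (M.tw c) * v ⟨z, hz⟩ c) * i1 + (v ⟨y, hy⟩ a₀ * v ⟨y, hy⟩ b₀) * i2
        | inv y hy i1 =>
          have : (⟨y⁻¹, inv_mem hy⟩ : ↥(ESub F k N)) = ⟨y, hy⟩ := Subtype.ext (ESub_inv hy)
          rw [this]; exact i1
      have := key e' a ha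
      rw [← h00 e' he', (hval e').2.1] at this
      calc v e' (M.tw a) = v e' (M.tw a) * (v e' a * v e' a) := by rw [(hval e').2.1, mul_one]
        _ = v e' a := by rw [← mul_assoc, this, one_mul]
    obtain ⟨l, hl⟩ := M.nonempty
    have := hchar _ _ hab ⟨l, ((hMs l).1 hl).1, M.tw_ne ha hl⟩ ⟨e, he⟩ (heA he)
    simpa [hv] using this

end Cfsg.Agent.Classical.OTPow
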