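/-
Slot elements that move one index of a pair off its line, and the calculation with two planes.
-/
import Cfsg.Agent.Lib.Classical.OTPow.Facts

set_option autoImplicit false
set_option linter.unusedSectionVars false

namespace Cfsg.Agent.Classical.OTPow

open Matrix QuadraticMap
open Cfsg.Agent.Classical
open Cfsg.Agent.Classical.OOmega (rf)

variable {F : Type*} [Field F] {k : ℕ} {σ : Type} [Fintype σ] [DecidableEq σ]

/-- An isometry fixing one basis line has the same zeros in its row. -/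
theorem iso_row {ι : Type*} [Fintype ι] [DecidableEq ι] {w : ι → F} (hw : ∀ i, w i ≠ 0) {g : GL ι F}
    (hg : g ∈ IsoD w) (a b : ι) :
    w a * ((g⁻¹ : GL ι F) : Matrix ι ι F) a b = (g : Matrix ι ι F) b a * w b := by
  have h : (g : Matrix ι ι F)ᵀ * Matrix.diagonal w = Matrix.diagonal w * ((g⁻¹ : GL ι F) : Matrix ι ι F) := by
    have e := congrArg (fun M => M * ((g⁻¹ : GL ι F) : Matrix ι ι F)) (mem_isoD.1 hg)
    simpa only [Matrix.mul_assoc, Units.mul_inv, Matrix.mul_one] using e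
  have e := congrFun (congrFun h a) b
  rw [Matrix.mul_diagonal, Matrix.diagonal_mul, Matrix.transpose_apply] at e
  exact e.symm

/-- Columns of a slot matrix. -/
theorem facS_single (l : σ) (Y : Matrix (Fin k) (Fin k) F) (r : σ → Fin k) :
    facS l Y *ᵥ Pi.single r 1 = ∑ v, Y v (r l) • Pi.single (Function.update r l v) 1 := by
  rw [Matrix.mulVec_single_one]
  funext a
  simp only [Matrix.col, facS_apply, Matrix.transpose_apply, Finset.sum_apply, Pi.smul_apply, smul_eq_mul,
    Pi.single_apply, mul_ite, mul_one, mul_zero]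
  by_cases h : ∀ j, j ≠ l → a j = r j
  · rw [if_pos h, Finset.sum_eq_single (a l) (fun v _ hv => if_neg fun e => hv (by rw [e, Function.update_self]))
      (by simp), if_pos]
    funext j
    rcases eq_or_ne j l with rfl | hj
    · rw [Function.update_self]
    · rw [Function.update_of_ne hj, h j hj]
  · rw [if_neg h]
    refine (Finset.sum_eq_zero fun v _ => if_neg fun e => h fun j hj => ?_).symm
    rw [e, Function.update_of_ne hj]

theorem permMat_apply (π : Equiv.Perm (Fin k)) (a b : Fin k) :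
    (permMat F π : Matrix (Fin k) (Fin k) F) a b = if π a = b then 1 else 0 := by
  simp [permMat, Equiv.Perm.permMatrix, PEquiv.toMatrix_apply, Equiv.toPEquiv_apply]

/-- A slot element moving one index of a pair off its line. -/
def Mover (d : Fin k → F) (U : Finset (Fin k)) (c₀ c₁ : Fin k) (h : GL (Fin k) F) : Prop :=
  h ∈ IsoD d ∧ (∀ u, u ∈ U ∨ u = c₀ → ∀ v, (h : Matrix (Fin k) (Fin k) F) v u = if v = u then 1 else 0) ∧
    (∃ z, z ≠ c₀ ∧ z ≠ c₁ ∧ (h : Matrix (Fin k) (Fin k) F) z c₁ ≠ 0) ∧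
    (h : Matrix (Fin k) (Fin k) F) c₁ c₁ ≠ -1

theorem mover_perm {d : Fin k → F} (h2 : (2 : F) ≠ 0) {U : Finset (Fin k)} {c₀ c₁ : Fin k} {π : Equiv.Perm (Fin k)}
    (hd : ∀ i, d (π i) = d i) (hfix : ∀ u, u ∈ U ∨ u = c₀ → π u = u) (h1 : π c₁ ≠ c₁) :
    Mover d U c₀ c₁ (permMat F π) := by
  refine ⟨permMat_iso h2 hd, fun u hu v => ?_, ⟨π.symm c₁, fun e => ?_, fun e => ?_, ?_⟩, ?_⟩
  · rw [permMat_apply]
    exact if_congr ⟨fun e => π.injective (by rw [e, hfix u hu]), fun e => by rw [e, hfix u hu]⟩ rfl rfl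
  · have := hfix c₀ (Or.inr rfl)
    rw [← e, Equiv.apply_symm_apply] at this
    exact h1 (by conv_lhs => rw [this]
                 simp)
  · exact h1 (by conv_lhs => rw [← e]
                 simp)
  · rw [permMat_apply, if_pos (Equiv.apply_symm_apply _ _)]; exact one_ne_zero
  · rw [permMat_apply, if_neg h1]
    exact fun e => one_ne_zero (neg_eq_zero.1 e.symm)

variable [Fintype F]

/-- The values of a reflection through two basis vectors. -/
theorem rf_pair (d : Fin k → F) {i j : Fin k} (hij : i ≠ j) (c : F) (x y : Fin k) :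
    (slotHom d (rf (Qd d) (Pi.single i 1 + Pi.single j c)) : Matrix (Fin k) (Fin k) F) x y =
      (if x = y then 1 else 0) - (d i + d j * (c * c))⁻¹ * (2 * (d y * if y = i then 1 else if y = j then c else 0)) *
        (if x = i then 1 else if x = j then c else 0) := by
  have hv : ∀ z, (Pi.single i 1 + Pi.single j c : Fin k → F) z = if z = i then 1 else if z = j then c else 0 :=
    fun z => by
      rcases eq_or_ne z i with rfl | hzi
      · simp [hij]
      · rcases eq_or_ne z j with rfl | hzj <;> simp [*]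
  have hQ : Qd d (Pi.single i 1 + Pi.single j c) = d i + d j * (c * c) := by
    rw [Qd_apply, ← Finset.sum_subset (Finset.subset_univ ({i, j} : Finset (Fin k))) (fun z _ hz => by
      simp only [Finset.mem_insert, Finset.mem_singleton, not_or] at hz
      simp [hv, hz.1, hz.2]), Finset.sum_pair hij, hv, hv]
    simp [hij.symm]
  rw [slot_rf_entry, hQ, hv, hv, Pi.single_apply]

/-- The square of a rotation as a commutator of reflections. -/
theorem exists_rotation {d : Fin 3 → F} (hd : ∀ i, d i = 1) (h2 : (2 : F) ≠ 0) {i j r : Fin 3} (hij : i ≠ j)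
    (hri : r ≠ i) (hrj : r ≠ j) {α β : F} (hab : α * α + β * β = 1) (hβ : β ≠ 0) :
    ∃ h ∈ Om d, (∀ v, (h : Matrix (Fin 3) (Fin 3) F) v r = if v = r then 1 else 0) ∧
      (h : Matrix (Fin 3) (Fin 3) F) i i = α * α - β * β ∧ (h : Matrix (Fin 3) (Fin 3) F) j i = 2 * α * β ∧
      (h : Matrix (Fin 3) (Fin 3) F) i j = -(2 * α * β) ∧ (h : Matrix (Fin 3) (Fin 3) F) j j = α * α - β * β := by
  have hα : 1 + α ≠ 0 := fun e => hβ (mul_self_eq_zero.1 (by linear_combination hab - (α - 1) * e))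
  obtain ⟨c, hc⟩ : ∃ c, c = -(1 + α) / β := ⟨_, rfl⟩
  obtain ⟨R, hR⟩ : ∃ R, R = slotHom d (rf (Qd d) (Pi.single i 1 + Pi.single j c)) := ⟨_, rfl⟩
  have hQ : (1 : F) + 1 * (c * c) = 2 * (1 + α) / (β * β) := by
    rw [hc]; field_simp; linear_combination hab
  have hQ0 : (1 : F) + 1 * (c * c) ≠ 0 := by
    rw [hQ]; exact div_ne_zero (mul_ne_zero h2 hα) (mul_ne_zero hβ hβ)
  have hRO : R ∈ IsoD d := hR ▸ slotHom_range h2 ▸ ⟨_, rfl⟩
  have hRi : R⁻¹ = R := inv_eq_of_mul_eq_one_left (by rw [hR, ← map_mul, OOmega.rf_mul_self, map_one])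
  have hval : ∀ x y, (R : Matrix (Fin 3) (Fin 3) F) x y = (if x = y then 1 else 0) -
      β * β / (1 + α) * (if y = i then 1 else if y = j then c else 0) * (if x = i then 1 else if x = j then c else 0) :=
    fun x y => by
    rw [hR, rf_pair d hij, hd, hd, hd, hQ]
    field_simp
  have hii : (R : Matrix (Fin 3) (Fin 3) F) i i = α := by
    rw [hval]; simp; field_simp; linear_combination -hab
  have hji : (R : Matrix (Fin 3) (Fin 3) F) j i = β := by
    rw [hval]; simp [hij.symm, hc]; field_simp; ring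
  have hij' : (R : Matrix (Fin 3) (Fin 3) F) i j = β := by
    rw [hval]; simp [hij, hij.symm, hc]; field_simp; ring
  have hjj : (R : Matrix (Fin 3) (Fin 3) F) j j = -α := by
    rw [hval]; simp [hij.symm, hc]; field_simp; ring
  have hr : ∀ v, (R : Matrix (Fin 3) (Fin 3) F) v r = if v = r then 1 else 0 := fun v => by
    rw [hval]; simp [hri, hrj]
  refine ⟨R * sg {j} * R⁻¹ * (sg {j})⁻¹, Subgroup.commutator_mem_commutator hRO (sg_iso d _), ?_, ?_⟩
  all_goals rw [hRi, inv_eq_of_mul_eq_one_left (sg_mul_self {j})]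
  all_goals simp only [Units.val_mul, sg_val]
  all_goals simp only [Matrix.mul_diagonal]
  all_goals simp only [Matrix.mul_apply (M := (R : Matrix (Fin 3) (Fin 3) F) * Matrix.diagonal (sv {j})),
    Matrix.mul_diagonal, sv, Finset.mem_singleton]
  · intro v
    rw [Finset.sum_eq_single r (fun z _ hz => by rw [hr z, if_neg hz, mul_zero]) (by simp), hr v, hr r]
    simp [hrj]
  · have h3 : (Finset.univ : Finset (Fin 3)) = {i, j, r} :=
      (Finset.eq_univ_of_card _ (by
        rw [Finset.card_insert_of_notMem (by simp [hij, hri.symm]), Finset.card_pair hrj.symm]; rfl)).symm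
    have hri0 : (R : Matrix (Fin 3) (Fin 3) F) r i = 0 := by rw [hval]; simp [hri, hrj]
    have hrj0 : (R : Matrix (Fin 3) (Fin 3) F) r j = 0 := by rw [hval]; simp [hri, hrj]
    have hir0 : (R : Matrix (Fin 3) (Fin 3) F) i r = 0 := by rw [hr i, if_neg hri.symm]
    have hjr0 : (R : Matrix (Fin 3) (Fin 3) F) j r = 0 := by rw [hr j, if_neg hrj.symm]
    simp only [h3, Finset.sum_insert (by simp [hij, hri.symm] : i ∉ ({j, r} : Finset (Fin 3))),
      Finset.sum_pair hrj.symm, hii, hji, hij', hjj, hri0, hrj0, hir0, hjr0, hij, hij.symm, hri, hrj, ↓reduceIte]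
    exact ⟨by ring, by ring, by ring, by ring⟩

/-- Two rotations of the same plane of a slot carried to commuting pairs of planes. -/
theorem four_points {ι : Type*} [Fintype ι] [DecidableEq ι] {y H H' : Matrix ι ι F} {a b c e : ι} (hab : a ≠ b)
    (hac : a ≠ c) (hbc : b ≠ c) (hbe : b ≠ e) (hce : c ≠ e) {α β α₂ β₂ C S : F}
    (ya : y *ᵥ Pi.single a 1 = α • Pi.single a 1 + β • Pi.single e 1)
    (ye : y *ᵥ Pi.single e 1 = α • Pi.single e 1 - β • Pi.single a 1)
    (yb : y *ᵥ Pi.single b 1 = α₂ • Pi.single b 1 + β₂ • Pi.single c 1)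
    (yc : y *ᵥ Pi.single c 1 = α₂ • Pi.single c 1 - β₂ • Pi.single b 1)
    (Ha : H *ᵥ Pi.single a 1 = C • Pi.single a 1 + S • Pi.single b 1)
    (Hb : H *ᵥ Pi.single b 1 = C • Pi.single b 1 - S • Pi.single a 1)
    (Hc : H *ᵥ Pi.single c 1 = C • Pi.single c 1 + S • Pi.single e 1)
    (He : H *ᵥ Pi.single e 1 = C • Pi.single e 1 - S • Pi.single c 1)
    (H'a : H' *ᵥ Pi.single a 1 = C • Pi.single a 1 - S • Pi.single b 1)
    (H'e : H' *ᵥ Pi.single e 1 = C • Pi.single e 1 + S • Pi.single c 1)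
    (h2 : (2 : F) ≠ 0) (hCS : C * S ≠ 0) (hcomm : y * (H * y * H') = H * y * H' * y) : α = α₂ ∧ β₂ = -β := by
  have e0 : y *ᵥ (H *ᵥ (y *ᵥ (H' *ᵥ Pi.single a 1))) = H *ᵥ (y *ᵥ (H' *ᵥ (y *ᵥ Pi.single a 1))) := by
    simp only [Matrix.mulVec_mulVec, ← Matrix.mul_assoc] at hcomm ⊢
    rw [hcomm]
  simp only [H'a, H'e, ya, Matrix.mulVec_add, Matrix.mulVec_sub, Matrix.mulVec_smul, ya, ye, yb, yc, Ha, Hb, Hc, He]
    at e0
  have eb := congrFun e0 b
  have ec := congrFun e0 c
  simp only [Pi.add_apply, Pi.sub_apply, Pi.smul_apply, smul_eq_mul, Pi.single_eq_same, Pi.single_eq_of_ne hab,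
    Pi.single_eq_of_ne hab.symm, Pi.single_eq_of_ne hac, Pi.single_eq_of_ne hac.symm, Pi.single_eq_of_ne hbc,
    Pi.single_eq_of_ne hbc.symm, Pi.single_eq_of_ne hbe, Pi.single_eq_of_ne hbe.symm, Pi.single_eq_of_ne hce,
    Pi.single_eq_of_ne hce.symm, mul_zero, mul_one, zero_add, add_zero, sub_zero, zero_sub] at eb ec
  have hP : (α - α₂) * (β + β₂) = 0 := by
    refine (mul_eq_zero.1 (?_ : (2 * (C * S)) * ((α - α₂) * (β + β₂)) = 0)).resolve_left (mul_ne_zero h2 hCS)
    linear_combination ec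
  have hN : (β + β₂) * (β + β₂) = (α - α₂) * (α - α₂) := by
    refine mul_left_cancel₀ hCS ?_
    linear_combination eb
  rcases mul_eq_zero.1 hP with h | h
  · rw [h, mul_zero] at hN
    exact ⟨sub_eq_zero.1 h, eq_neg_of_add_eq_zero_right (mul_self_eq_zero.1 hN)⟩
  · rw [h, mul_zero] at hN
    exact ⟨sub_eq_zero.1 (mul_self_eq_zero.1 hN.symm), eq_neg_of_add_eq_zero_right h⟩

theorem exists_ne_pm (h5 : 5 ≤ Fintype.card F) : ∃ c : F, c ≠ 0 ∧ c * c ≠ 1 := by
  classical
  obtain ⟨c, hc⟩ : ∃ c : F, c ∉ ({0, 1, -1} : Finset F) := by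
    by_contra hcon
    push Not at hcon
    have := Finset.card_le_card (fun x _ => hcon x : (Finset.univ : Finset F) ⊆ {0, 1, -1})
    have h3 := Finset.card_le_three (a := (0 : F)) (b := 1) (c := -1)
    rw [Finset.card_univ] at this
    omega
  simp only [Finset.mem_insert, Finset.mem_singleton, not_or] at hc
  exact ⟨c, hc.1, fun h => by rcases mul_self_eq_one_iff.1 h with e | e <;> [exact hc.2.1 e; exact hc.2.2 e]⟩

/-- A mover exists for every pair with a main second index, given a rotation in three variables. -/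
theorem Shape.exists_mover {d : Fin k → F} (hd : Shape d) {U : Finset (Fin k)} (hU : U.card ≤ 1)
    (hk3 : k = 3 → U = ∅) {c₀ c₁ : Fin k} (hne : c₀ ≠ c₁) (h0 : c₀ ∉ U) (h1 : c₁ ∉ U)
    (hm : Main c₁) (h5 : 5 ≤ Fintype.card F) {α β : F} (hα : α ≠ 0) (hβ : β ≠ 0)
    (hab : k = 3 → α * α + β * β = 1) :
    ∃ h, Mover d U c₀ c₁ h ∧ (h ∈ Om d ∨ k = 4) := by
  classical
  have h3 := hd.three
  obtain ⟨bad, hbad⟩ : ∃ bad : Finset (Fin k), bad = insert c₀ (insert c₁ U) := ⟨_, rfl⟩
  have hbc : bad.card ≤ 3 := by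
    rw [hbad]
    exact (Finset.card_insert_le _ _).trans (by have := Finset.card_insert_le c₁ U; omega)
  have hout : ∀ {i}, i ∉ bad → i ≠ c₀ ∧ i ≠ c₁ ∧ i ∉ U := fun {i} hi => by
    simpa [hbad, not_or] using hi
  have hfix : ∀ {i}, i ∉ bad → ∀ u, u ∈ U ∨ u = c₀ → u ≠ i := fun {i} hi u hu e => by
    obtain ⟨a, -, c⟩ := hout hi
    rcases hu with hu | hu
    · exact c (e ▸ hu)
    · exact a (e.symm.trans hu)
  have hswap : ∀ {i}, Main i → i ∉ bad → ∀ j, d (Equiv.swap c₁ i j) = d j := fun {i} hi _ j => by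
    rw [Equiv.swap_apply_def]
    split_ifs with e e'
    · rw [e, hd.one _ hm, hd.one _ hi]
    · rw [e', hd.one _ hm, hd.one _ hi]
    · rfl
  have hU1 : ∀ u, u ∈ U ∨ u = c₀ → u ≠ c₁ := fun u hu e => by
    rcases hu with hu | hu
    · exact h1 (e ▸ hu)
    · exact hne (hu.symm.trans e)
  by_cases hk5 : 5 ≤ k
  · -- two main indices outside give a cycle
    obtain ⟨w₁, w₂, hw₁, hw₂, hm₁, hm₂, hw⟩ : ∃ w₁ w₂, w₁ ∉ bad ∧ w₂ ∉ bad ∧ Main w₁ ∧ Main w₂ ∧ w₁ ≠ w₂ := by
      have hcard : 2 ≤ ((Finset.univ.filter fun i : Fin k => Main i) \ bad).card := by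
        by_contra hlt
        have e := Finset.le_card_sdiff bad (Finset.univ.filter fun i : Fin k => Main i)
        rcases Nat.even_or_odd k with ⟨r, hr⟩ | hodd
        · have : k - 1 ≤ (Finset.univ.filter fun i : Fin k => Main i).card := by
            refine le_trans ?_ (Finset.card_le_card
              (s := (Finset.univ : Finset (Fin (k - 1))).image (Fin.castLE (by omega : k - 1 ≤ k))) ?_)
            · rw [Finset.card_image_of_injective _ (Fin.castLE_injective _)]; simp
            · intro i hi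
              obtain ⟨j, -, rfl⟩ := Finset.mem_image.1 hi
              exact Finset.mem_filter.2 ⟨Finset.mem_univ _, Or.inl (by show j.val + 1 < k; have := j.2; omega)⟩
          omega
        · have hall : k ≤ (Finset.univ.filter fun i : Fin k => Main i).card := by
            refine le_trans ?_ (Finset.card_le_card (s := (Finset.univ : Finset (Fin k)))
              fun i _ => Finset.mem_filter.2 ⟨Finset.mem_univ i, Or.inr hodd⟩)
            simp
          omega
      obtain ⟨w₁, hw₁, w₂, hw₂, hw⟩ := Finset.one_lt_card.1 hcard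
      simp only [Finset.mem_sdiff, Finset.mem_filter, Finset.mem_univ, true_and] at hw₁ hw₂
      exact ⟨w₁, w₂, hw₁.2, hw₂.2, hw₁.1, hw₂.1, hw⟩
    have o1 := hout hw₁
    have o2 := hout hw₂
    refine ⟨_, mover_perm hd.two (fun i => ?_) (fun u hu => ?_) ?_,
      Or.inl (hd.cycle_mem hm hm₁ hm₂ o1.2.1.symm hw o2.2.1.symm)⟩
    · rw [Equiv.Perm.mul_apply, hswap hm₁ hw₁]
      rw [Equiv.swap_apply_def]
      split_ifs with e e'
      · rw [e, hd.one _ hm₁, hd.one _ hm₂]
      · rw [e', hd.one _ hm₁, hd.one _ hm₂]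
      · rfl
    · rw [Equiv.Perm.mul_apply, Equiv.swap_apply_of_ne_of_ne (hfix hw₁ u hu) (hfix hw₂ u hu),
        Equiv.swap_apply_of_ne_of_ne (hU1 u hu) (hfix hw₁ u hu)]
    · rw [Equiv.Perm.mul_apply, Equiv.swap_apply_of_ne_of_ne o1.2.1.symm o2.2.1.symm, Equiv.swap_apply_left]
      exact o1.2.1
  obtain ⟨z, hz⟩ : ∃ z, z ∉ bad := by
    by_contra hcon
    push Not at hcon
    have := Finset.card_le_card (fun x _ => hcon x : (Finset.univ : Finset (Fin k)) ⊆ bad)
    rw [Finset.card_univ, Fintype.card_fin] at this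
    by_cases hk : k = 3
    · subst hk
      rw [hbad, hk3 rfl] at hcon
      obtain ⟨z, -, hz1, hz2⟩ := hd.exists_main_avoid c₀ c₁
      have := hcon z
      simp [hz1, hz2] at this
    · omega
  obtain ⟨hz0, hz1, hzU⟩ := hout hz
  rcases (show k = 3 ∨ k = 4 by omega) with hk | hk
  · subst hk
    have hd1 : ∀ i, d i = 1 := fun i => hd.one i (Or.inr (by decide))
    obtain ⟨h, hh, hr, hii, hji, -, -⟩ := exists_rotation hd1 hd.two hz1.symm hne hz0.symm (hab rfl) hβ
    refine ⟨h, ⟨om_le d hh, fun u hu v => ?_, ⟨z, hz0, hz1, ?_⟩, ?_⟩, Or.inl hh⟩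
    · rcases hu with hu | hu
      · rw [hk3 rfl] at hu; simp at hu
      · rw [hu, hr v]
    · rw [hji]; exact mul_ne_zero (mul_ne_zero hd.two hα) hβ
    · rw [hii]
      intro e
      exact hα (mul_self_eq_zero.1 (mul_left_cancel₀ hd.two (by
        linear_combination e + hab rfl : (2 : F) * (α * α) = 2 * 0)))
  · by_cases hzm : Main z
    · exact ⟨_, mover_perm hd.two (hswap hzm hz)
        (fun u hu => Equiv.swap_apply_of_ne_of_ne (hU1 u hu) (hfix hz u hu))
        (by rw [Equiv.swap_apply_left]; exact hz1), Or.inr hk⟩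
    obtain ⟨c, hc0, hc⟩ : ∃ c : F, c ≠ 0 ∧ 1 + d z * (c * c) ≠ 0 := by
      by_cases h : 1 + d z * (1 * 1) = 0
      · obtain ⟨c, hc0, hc⟩ := exists_ne_pm h5
        exact ⟨c, hc0, fun e => hc (by
          have hz' : d z = -1 := by linear_combination h
          rw [hz'] at e
          linear_combination -e)⟩
      · exact ⟨1, one_ne_zero, h⟩
    refine ⟨slotHom d (rf (Qd d) (Pi.single c₁ 1 + Pi.single z c)),
      ⟨slotHom_range hd.two ▸ ⟨_, rfl⟩, fun u hu v => ?_, ⟨z, hz0, hz1, ?_⟩, ?_⟩, Or.inr hk⟩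
    · rw [rf_pair d hz1.symm, if_neg (hU1 u hu), if_neg (hfix hz u hu)]
      simp
    · rw [rf_pair d hz1.symm, hd.one _ hm]
      simp [hz1, hz1.symm, hc0, hc, hd.two, mul_comm]
    · rw [rf_pair d hz1.symm, hd.one _ hm]
      simp only [↓reduceIte, mul_one]
      intro e
      have h' : (1 + d z * (c * c))⁻¹ * 2 = 2 := by linear_combination -e
      have h'' : (1 + d z * (c * c))⁻¹ = 1 := mul_right_cancel₀ hd.two (by rw [h', one_mul])
      rw [inv_eq_one, add_eq_left, mul_eq_zero] at h''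
      exact h''.elim (hd.ne z) fun h => hc0 (mul_self_eq_zero.1 h)

end Cfsg.Agent.Classical.OTPow
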