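/-
Elements that only move two merged tails keep the indices of any other slot.
-/
import Cfsg.Agent.Lib.Classical.OTPow.Merge
import Cfsg.Agent.Lib.Classical.OTPow.Moves

set_option autoImplicit false
set_option linter.unusedSectionVars false

namespace Cfsg.Agent.Classical.OTPow

open Matrix
open scoped IsMulCommutative

variable {F : Type*} [Field F] [Fintype F] {k : ℕ} {σ : Type} [Fintype σ] [DecidableEq σ]

/-- Entries outside the identity stay in the merged tails and avoid `U` in slot `l`. -/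
def NearOne (M : Merge σ k) (l : σ) (U : Finset (Fin k)) (G : Matrix (σ → Fin k) (σ → Fin k) F) : Prop :=
  ∀ a b, G a b ≠ (1 : Matrix (σ → Fin k) (σ → Fin k) F) a b → M.Paired a ∧ M.Paired b ∧ a l ∉ U ∧ b l ∉ U ∧
    ((∀ m, m ≠ l → a m = b m) ∨ ∀ m, m ≠ l → b m = M.tw a m)

theorem tw_congr {M : Merge σ k} {l : σ} {a c : σ → Fin k} (h : ∀ m, m ≠ l → a m = c m) :
    ∀ m, m ≠ l → M.tw a m = M.tw c m := fun m hm => by
  simp only [Merge.tw, h m hm]

theorem NearOne.mul {M : Merge σ k} {l : σ} {U : Finset (Fin k)} {G H : Matrix (σ → Fin k) (σ → Fin k) F}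
    (hG : NearOne M l U G) (hH : NearOne M l U H) : NearOne M l U (G * H) := by
  intro a b hab
  by_cases h1 : H a b = (1 : Matrix (σ → Fin k) (σ → Fin k) F) a b
  swap
  · exact hH a b h1
  have : ((G - 1) * H) a b ≠ 0 := by
    rw [Matrix.sub_mul, Matrix.one_mul, Matrix.sub_apply, h1]
    exact sub_ne_zero.2 hab
  rw [Matrix.mul_apply] at this
  obtain ⟨c, -, hc⟩ := Finset.exists_ne_zero_of_sum_ne_zero this
  obtain ⟨pa, pc, ua, uc, h⟩ := hG a c (by simpa [sub_ne_zero] using left_ne_zero_of_mul hc)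
  by_cases h2 : H c b = (1 : Matrix (σ → Fin k) (σ → Fin k) F) c b
  · obtain rfl : c = b := by
      by_contra hne
      rw [h2, Matrix.one_apply_ne hne, mul_zero] at hc
      exact hc rfl
    exact ⟨pa, pc, ua, uc, h⟩
  obtain ⟨-, pb, -, ub, h'⟩ := hH c b h2
  refine ⟨pa, pb, ua, ub, ?_⟩
  rcases h with h | h <;> rcases h' with h' | h'
  · exact Or.inl fun m hm => (h m hm).trans (h' m hm)
  · exact Or.inr fun m hm => (h' m hm).trans (tw_congr (fun j hj => (h j hj).symm) m hm)
  · exact Or.inr fun m hm => (h' m hm).symm.trans (h m hm)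
  · exact Or.inl fun m hm => by
      rw [h' m hm, tw_congr h m hm, M.tw_tw]

theorem nearOne_one {M : Merge σ k} {l : σ} {U : Finset (Fin k)} :
    NearOne M l U (1 : Matrix (σ → Fin k) (σ → Fin k) F) := fun _ _ h => absurd rfl h

/-- The elements of the group moving only the merged tails. -/
def nearGrp (X : Subgroup (GL (σ → Fin k) F)) (M : Merge σ k) (l : σ) (U : Finset (Fin k)) :
    Subgroup (GL (σ → Fin k) F) where
  carrier := {g | g ∈ X ∧ NearOne M l U (g : Matrix (σ → Fin k) (σ → Fin k) F)}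
  one_mem' := ⟨one_mem X, nearOne_one⟩
  mul_mem' := fun ha hb => ⟨mul_mem ha.1 hb.1, ha.2.mul hb.2⟩
  inv_mem' := by
    intro g hg
    refine ⟨inv_mem hg.1, ?_⟩
    have hp : ∀ n : ℕ, NearOne M l U ((g ^ n : GL (σ → Fin k) F) : Matrix (σ → Fin k) (σ → Fin k) F) := fun n => by
      induction n with
      | zero => rw [pow_zero, Units.val_one]; exact nearOne_one
      | succ n ih => rw [pow_succ, Units.val_mul]; exact ih.mul hg.2
    rw [show g⁻¹ = g ^ (orderOf g - 1) from inv_eq_of_mul_eq_one_left (by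
      rw [← pow_succ, Nat.sub_add_cancel (orderOf_pos g), pow_orderOf_eq_one])]
    exact hp _

theorem mem_nearGrp {X : Subgroup (GL (σ → Fin k) F)} {M : Merge σ k} {l : σ} {U : Finset (Fin k)}
    {g : GL (σ → Fin k) F} :
    g ∈ nearGrp X M l U ↔ g ∈ X ∧ NearOne M l U (g : Matrix (σ → Fin k) (σ → Fin k) F) := Iff.rfl

/-- Conjugating by a slot element keeps near elements near. -/
theorem NearOne.conj_fac {M : Merge σ k} {l m : σ} {U : Finset (Fin k)} {G : Matrix (σ → Fin k) (σ → Fin k) F}
    (hG : NearOne M l U G) (h : GL (Fin k) F) (hl : l ∉ M.supp)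
    (hp : (m = l ∧ ∀ u v : Fin k, ((h : Matrix (Fin k) (Fin k) F) u v ≠ 0 ∨
        ((h⁻¹ : GL (Fin k) F) : Matrix (Fin k) (Fin k) F) u v ≠ 0) → (u ∈ U ↔ v ∈ U)) ∨
      (m ≠ l ∧ M.supp = {m} ∧ ∀ u v : Fin k, ((h : Matrix (Fin k) (Fin k) F) u v ≠ 0 ∨
        ((h⁻¹ : GL (Fin k) F) : Matrix (Fin k) (Fin k) F) u v ≠ 0) →
          ((u = M.p m ∨ u = M.q m) ↔ (v = M.p m ∨ v = M.q m)))) :
    NearOne M l U (facS m (h : Matrix (Fin k) (Fin k) F) * G *
      facS m ((h⁻¹ : GL (Fin k) F) : Matrix (Fin k) (Fin k) F)) := by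
  intro a b hab
  have : (facS m (h : Matrix (Fin k) (Fin k) F) * (G - 1) *
      facS m ((h⁻¹ : GL (Fin k) F) : Matrix (Fin k) (Fin k) F)) a b ≠ 0 := by
    rw [Matrix.mul_sub, Matrix.sub_mul, Matrix.mul_one, facS_mul, Units.mul_inv, facS_one, Matrix.sub_apply]
    exact sub_ne_zero.2 hab
  rw [mul_facS_apply] at this
  obtain ⟨v, -, hv⟩ := Finset.exists_ne_zero_of_sum_ne_zero this
  have h' := left_ne_zero_of_mul hv
  rw [facS_mul_apply] at h'
  obtain ⟨u, -, hu⟩ := Finset.exists_ne_zero_of_sum_ne_zero h'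
  obtain ⟨pc, pd, uc, ud, hor⟩ := hG _ _ (by simpa [sub_ne_zero] using right_ne_zero_of_mul hu)
  have hau := left_ne_zero_of_mul hu
  have hvb := right_ne_zero_of_mul hv
  rcases hp with ⟨rfl, hp⟩ | ⟨hm, hs, hp⟩
  · have hne : ∀ j ∈ M.supp, j ≠ m := fun j hj e => hl (e ▸ hj)
    have e1 : ∀ j, j ≠ m → Function.update a m u j = a j := fun j hj => Function.update_of_ne hj _ _
    have e2 : ∀ j, j ≠ m → Function.update b m v j = b j := fun j hj => Function.update_of_ne hj _ _
    refine ⟨fun j hj => by have := pc j hj; rwa [e1 j (hne j hj)] at this,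
      fun j hj => by have := pd j hj; rwa [e2 j (hne j hj)] at this,
      fun ha => uc (by rw [Function.update_self]; exact (hp _ _ (Or.inl hau)).1 ha),
      fun hb => ud (by rw [Function.update_self]; exact (hp _ _ (Or.inr hvb)).2 hb), ?_⟩
    rcases hor with hor | hor
    · exact Or.inl fun j hj => by have := hor j hj; rwa [e1 j hj, e2 j hj] at this
    · exact Or.inr fun j hj => by
        have := hor j hj
        rwa [e2 j hj, tw_congr e1 j hj] at this
  · have hpm : m ∈ M.supp := by rw [hs]; exact Finset.mem_singleton_self m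
    have c1 : Function.update a m u m = u := Function.update_self ..
    have d1 : Function.update b m v m = v := Function.update_self ..
    have hu' := pc m hpm
    have hv' := pd m hpm
    rw [c1] at hu'
    rw [d1] at hv'
    have ha' := (hp _ _ (Or.inl hau)).2 hu'
    have hb' := (hp _ _ (Or.inr hvb)).1 hv'
    have hoff : ∀ j, j ≠ l → j ≠ m → a j = b j := fun j hj hjm => by
      rcases hor with hor | hor
      · simpa [Function.update_of_ne hjm] using hor j hj
      · have := hor j hj
        rw [M.tw_off _ (by rw [hs]; simpa using hjm), Function.update_of_ne hjm, Function.update_of_ne hjm] at this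
        exact this.symm
    refine ⟨fun j hj => ?_, fun j hj => ?_, ?_, ?_, ?_⟩
    · rw [hs, Finset.mem_singleton] at hj; rw [hj]; exact ha'
    · rw [hs, Finset.mem_singleton] at hj; rw [hj]; exact hb'
    · simpa [Function.update_of_ne (Ne.symm hm)] using uc
    · simpa [Function.update_of_ne (Ne.symm hm)] using ud
    · by_cases e : a m = b m
      · exact Or.inl fun j hj => if hjm : j = m then hjm ▸ e else hoff j hj hjm
      · refine Or.inr fun j hj => ?_
        by_cases hjm : j = m
        · subst hjm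
          rw [M.tw_mem a hpm]
          rcases ha' with h1 | h1 <;> rcases hb' with h2 | h2 <;> simp_all
        · rw [M.tw_off a (by rw [hs]; simpa using hjm), hoff j hj hjm]

/-- The assumptions on the fixed indices: none and two merged slots, or one and one slot. -/
def FixHyp (M : Merge σ k) (U : Finset (Fin k)) : Prop :=
  (U = ∅ ∧ 2 ≤ M.supp.card) ∨ ∃ u, U = {u} ∧ M.supp.card = 1

theorem exists_third (hk : 3 ≤ k) (u v : Fin k) : ∃ w, w ≠ u ∧ w ≠ v := by
  obtain ⟨j, hj, hju, hjv⟩ : ∃ j : ℕ, j < 3 ∧ j ≠ u.val ∧ j ≠ v.val := by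
    by_contra hcon
    push Not at hcon
    have := hcon 0 (by omega); have := hcon 1 (by omega); have := hcon 2 (by omega); omega
  exact ⟨⟨j, by omega⟩, fun e => hju (congrArg Fin.val e), fun e => hjv (congrArg Fin.val e)⟩

section Main

variable {d : Fin k → F} {X : Subgroup (GL (σ → Fin k) F)} (C : Ctx d X) (hP : Pure1 X) {l : σ} {M : Merge σ k}
  (hl : l ∉ M.supp) {U : Finset (Fin k)} (hU : FixHyp M U)
  {s : GL (σ → Fin k) F} (hs : s ∈ X) {ε : (σ → Fin k) → F}
  (hse : (s : Matrix (σ → Fin k) (σ → Fin k) F) = Matrix.diagonal ε) (hε : ∀ a, ε a * ε a = 1)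
  (hεl : ∀ a u, ε (Function.update a l u) = ε a) (hanti : ∀ a, M.Paired a → ε (M.tw a) = -ε a)

include C hP hl hU hs hse hε hεl hanti

omit hP hl hU hs hse hεl hanti in
theorem eps_ne (a : σ → Fin k) : ε a ≠ -ε a := fun h => C.shape.two (by
  have : (2 : F) * (ε a * ε a) = 0 := by linear_combination ε a * h
  rwa [hε, mul_one] at this)

theorem near_fix {g : GL (σ → Fin k) F} (hg : g ∈ nearGrp X M l U) (hc : Commute g s) : g = 1 := by
  obtain ⟨hgX, hgn⟩ := mem_nearGrp.1 hg
  haveI : NeZero k := ⟨by have := C.shape.three; omega⟩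
  have hcomm : Commute (g : Matrix (σ → Fin k) (σ → Fin k) F) (Matrix.diagonal ε) := by
    rw [← hse]; exact congrArg Units.val hc.eq
  have hblk : BlkM {l}ᶜ (g : Matrix (σ → Fin k) (σ → Fin k) F) := by
    intro a b hab j hj
    by_cases hone : (g : Matrix (σ → Fin k) (σ → Fin k) F) a b = (1 : Matrix (σ → Fin k) (σ → Fin k) F) a b
    · rw [show a = b from by_contra fun h => hab (hone.trans (Matrix.one_apply_ne h))]
    obtain ⟨pa, -, -, -, h | h⟩ := hgn a b hone
    · exact h j (by simpa using hj)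
    · refine absurd ?_ (eps_ne C hε a)
      rw [← hanti a pa]
      refine ((commute_diagonal_iff _ _).1 hcomm a b hab).trans ?_
      have e : Function.update b l (M.tw a l) = M.tw a := funext fun i => by
        rcases eq_or_ne i l with rfl | hi
        · rw [Function.update_self]
        · rw [Function.update_of_ne hi, h i hi]
      rw [← hεl b (M.tw a l), e]
  -- unmerged fibres are the identity
  have hsingle : ∀ a, ¬ M.Paired a → fibM l (g : Matrix (σ → Fin k) (σ → Fin k) F) a = 1 := fun a ha => by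
    ext u v
    rw [fibM_apply]
    by_contra hne
    refine ha fun j hj => ?_
    have h1 : (g : Matrix (σ → Fin k) (σ → Fin k) F) (Function.update a l u) (Function.update a l v) ≠
        (1 : Matrix (σ → Fin k) (σ → Fin k) F) (Function.update a l u) (Function.update a l v) := by
      convert hne using 2
      rcases eq_or_ne u v with rfl | huv
      · simp
      · rw [Matrix.one_apply_ne huv, Matrix.one_apply_ne fun e => huv (by simpa using congrFun e l)]
    simpa [Function.update_of_ne (show j ≠ l from fun e => hl (e ▸ hj))] using (hgn _ _ h1).1 j hj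
  obtain ⟨m₁, hm₁⟩ := M.nonempty
  obtain ⟨r₁, hr1, hr2⟩ := exists_third C.shape.three (M.p m₁) (M.q m₁)
  have hsin : ∀ a : σ → Fin k, ¬ M.Paired (Function.update a m₁ r₁) := fun a h => by
    rcases h m₁ hm₁ with e | e <;> rw [Function.update_self] at e
    · exact hr1 e
    · exact hr2 e
  have hdiag : ∀ a, ∃ c : F, fibM l (g : Matrix (σ → Fin k) (σ → Fin k) F) a = c • 1 := fun a => by
    obtain ⟨c, hc⟩ := hP l g hgX hblk a (Function.update a m₁ r₁)
    exact ⟨c, by rw [hc, hsingle _ (hsin a)]⟩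
  obtain ⟨e, he⟩ : ∃ e : (σ → Fin k) → F, e = fun a => (g : Matrix (σ → Fin k) (σ → Fin k) F) a a := ⟨_, rfl⟩
  have hge : (g : Matrix (σ → Fin k) (σ → Fin k) F) = Matrix.diagonal e := by
    refine fibM_ext hblk (diagonal_blkM _ e) fun a => ?_
    obtain ⟨c, hc⟩ := hdiag a
    rw [hc, fibM_diagonal, Matrix.smul_one_eq_diagonal]
    refine congrArg _ (funext fun u => ?_)
    have := congrFun (congrFun hc u) u
    rw [fibM_apply, Matrix.smul_apply, Matrix.one_apply_eq, smul_eq_mul, mul_one] at this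
    rw [he]; exact this.symm
  have he1 : ∀ a, e a * e a = 1 := fun a => by
    have h := congrFun (congrFun (mem_isoD.1 (C.iso hgX)) a) a
    rw [hge, Matrix.diagonal_transpose, Matrix.diagonal_mul_diagonal, Matrix.diagonal_mul_diagonal,
      Matrix.diagonal_apply_eq, Matrix.diagonal_apply_eq] at h
    exact mul_right_cancel₀ (wt_ne_zero C.shape.ne a) (by linear_combination h)
  have hgd : g = diagG e he1 := Units.ext hge
  have hstep : ∀ m a a', ∃ c : F, ∀ u, e (Function.update a m u) = c * e (Function.update a' m u) := fun m =>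
    hP.sign_step C.shape he1 fun h hh => by
      rw [← hgd]
      exact mul_mem (mul_mem (mul_mem hgX (C.omega m h hh)) (inv_mem hgX)) (inv_mem (C.omega m h hh))
  have htriv : ∀ a, (¬ M.Paired a ∨ a l ∈ U) → e a = 1 := fun a ha => by
    rw [he]
    by_contra hne
    obtain ⟨pa, -, ua, -⟩ := hgn a a (by simpa using hne)
    rcases ha with h | h
    · exact h pa
    · exact ua h
  refine Units.ext ?_
  rw [hge, Units.val_one, ← Matrix.diagonal_one]
  refine congrArg _ (funext fun a => ?_)
  -- a companion fibre along the merged slot that is trivial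
  obtain ⟨a', ha'⟩ : ∃ a' : σ → Fin k, ∀ u, e (Function.update a' m₁ u) = 1 := by
    rcases hU with ⟨-, h2⟩ | ⟨u₀, hu₀, -⟩
    · obtain ⟨m₂, hm₂, hne⟩ := (Finset.one_lt_card_iff_nontrivial.1 h2).exists_ne m₁
      obtain ⟨r₂, hr1, hr2⟩ := exists_third C.shape.three (M.p m₂) (M.q m₂)
      refine ⟨Function.update a m₂ r₂, fun u => htriv _ (Or.inl fun h => ?_)⟩
      rcases h m₂ hm₂ with e | e <;> rw [Function.update_of_ne hne, Function.update_self] at e
      · exact hr1 e
      · exact hr2 e
    · refine ⟨Function.update a l u₀, fun u => htriv _ (Or.inr ?_)⟩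
      rw [Function.update_of_ne (show l ≠ m₁ from fun e => hl (e ▸ hm₁)), Function.update_self, hu₀]
      exact Finset.mem_singleton_self u₀
  obtain ⟨c, hc⟩ := hstep m₁ a a'
  have h1 := hc r₁
  rw [ha', mul_one, htriv _ (Or.inl (hsin a))] at h1
  have := hc (a m₁)
  rwa [ha', ← h1, Function.update_eq_self, mul_one] at this

omit hP hl hU in
theorem near_conj_s {g : GL (σ → Fin k) F} (hg : g ∈ nearGrp X M l U) : s * g * s⁻¹ ∈ nearGrp X M l U := by
  refine mem_nearGrp.2 ⟨mul_mem (mul_mem hs hg.1) (inv_mem hs), fun a b hab => hg.2 a b fun e => hab ?_⟩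
  have hsi : s⁻¹ = s := inv_eq_of_mul_eq_one_left (Units.ext (by
    rw [Units.val_mul, hse, Matrix.diagonal_mul_diagonal, funext hε, Matrix.diagonal_one]; rfl))
  rw [hsi, Units.val_mul, Units.val_mul, hse, Matrix.mul_diagonal, Matrix.diagonal_mul, e]
  rcases eq_or_ne a b with rfl | hne
  · rw [Matrix.one_apply_eq, mul_one, hε]
  · rw [Matrix.one_apply_ne hne, mul_zero, zero_mul]

theorem near_inverted : (∀ g ∈ nearGrp X M l U, s * g * s⁻¹ = g⁻¹) ∧
    (∀ g ∈ nearGrp X M l U, ∀ h ∈ nearGrp X M l U, Commute g h) ∧ ∀ g ∈ nearGrp X M l U, Odd (orderOf g) := by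
  let φ : ↥(nearGrp X M l U) →* ↥(nearGrp X M l U) :=
    ((MulAut.conj s).toMonoidHom.comp (nearGrp X M l U).subtype).codRestrict _ fun g =>
      near_conj_s C hs hse hε hεl hanti g.2
  have hφ : MonoidHom.FixedPointFree φ := fun g hg => Subtype.ext (near_fix C hP hl hU hs hse hε hεl hanti g.2 (by
    have : s * g.1 * s⁻¹ = g.1 := congrArg Subtype.val hg
    exact ((mul_inv_eq_iff_eq_mul.1 this).symm)))
  have h2 : Function.Involutive φ := fun g => Subtype.ext (by
    show s * (s * g.1 * s⁻¹) * s⁻¹ = g.1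
    have hss : s * s = 1 := Units.ext (by
      rw [Units.val_mul, hse, Matrix.diagonal_mul_diagonal, funext hε, Matrix.diagonal_one]; rfl)
    rw [show s * (s * g.1 * s⁻¹) * s⁻¹ = (s * s) * g.1 * (s * s)⁻¹ by group, hss]; simp)
  refine ⟨fun g hg => congrArg Subtype.val (congrFun (hφ.coe_eq_inv_of_involutive h2) ⟨g, hg⟩),
    fun g hg h hh => ?_, fun g hg => ?_⟩
  · exact congrArg Subtype.val (hφ.commute_all_of_involutive h2 ⟨g, hg⟩ ⟨h, hh⟩).eq
  · have := hφ.odd_orderOf_of_involutive h2 ⟨g, hg⟩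
    rwa [← Subgroup.orderOf_coe] at this

end Main

end Cfsg.Agent.Classical.OTPow
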