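/-
No element of a near group mixes two indices of the other slot.
-/
import Cfsg.Agent.Lib.Classical.OTPow.Hyper

set_option autoImplicit false
set_option linter.unusedSectionVars false

namespace Cfsg.Agent.Classical.OTPow

open Matrix
open scoped IsMulCommutative

variable {F : Type*} [Field F] [Fintype F] {k : ℕ} {σ : Type} [Fintype σ] [DecidableEq σ]

theorem Shape.card_five {d : Fin k → F} (hd : Shape d) (h3 : Fintype.card F ≠ 3) : 5 ≤ Fintype.card F := by
  have hodd : Odd (Fintype.card F) := Nat.odd_iff.mpr (FiniteField.odd_card_of_char_ne_two fun h => hd.two (by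
    haveI := ringChar.of_eq h
    exact CharTwo.two_eq_zero))
  have h1 : 1 < Fintype.card F := Fintype.one_lt_card
  obtain ⟨r, hr⟩ := hodd
  omega

/-- An entry of a matrix in a sum over one column. -/
theorem mulVec_two {ι : Type*} [Fintype ι] [DecidableEq ι] {y : Matrix ι ι F} {a b : ι} (hab : a ≠ b)
    (h : ∀ c, c ≠ a → c ≠ b → y c a = 0) :
    y *ᵥ Pi.single a 1 = y a a • Pi.single a 1 + y b a • Pi.single b 1 := by
  rw [Matrix.mulVec_single_one]
  funext c
  by_cases hca : c = a
  · subst hca; simp [Matrix.col, hab]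
  · by_cases hcb : c = b
    · subst hcb; simp [Matrix.col, hab.symm]
    · simp [Matrix.col, h c hca hcb, hca, hcb]

section Kill

variable {d : Fin k → F} {X : Subgroup (GL (σ → Fin k) F)} (C : Ctx d X) (hP : Pure1 X) {l : σ} {M : Merge σ k}
  (hl : l ∉ M.supp) {U : Finset (Fin k)} (hU : FixHyp M U)
  {s : GL (σ → Fin k) F} (hs : s ∈ X) {ε : (σ → Fin k) → F}
  (hse : (s : Matrix (σ → Fin k) (σ → Fin k) F) = Matrix.diagonal ε) (hε : ∀ a, ε a * ε a = 1)
  (hεl : ∀ a u, ε (Function.update a l u) = ε a) (hanti : ∀ a, M.Paired a → ε (M.tw a) = -ε a)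

/-- An element mixing exactly the merged tails with one pair of indices. -/
structure Plane (X : Subgroup (GL (σ → Fin k) F)) (M : Merge σ k) (l : σ) (U : Finset (Fin k)) (c₀ c₁ : Fin k)
    (ε : (σ → Fin k) → F) (y : GL (σ → Fin k) F) : Prop where
  mem : y ∈ nearGrp X M l U
  inv : ∀ a b, ((y⁻¹ : GL (σ → Fin k) F) : Matrix (σ → Fin k) (σ → Fin k) F) a b =
    ε a * (y : Matrix (σ → Fin k) (σ → Fin k) F) a b * ε b
  odd : Odd (orderOf y)
  entry : ∀ a b, (y : Matrix (σ → Fin k) (σ → Fin k) F) a b ≠ 0 → a = b ∨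
    (M.Paired a ∧ a l ∉ U ∧ b l ∉ U ∧ (a l = c₀ ∨ a l = c₁) ∧
      b = Function.update (M.tw a) l (Equiv.swap c₀ c₁ (a l)))

variable {c₀ c₁ : Fin k} {y : GL (σ → Fin k) F}

include C hl hε hεl hanti

omit C hε hεl hanti in
theorem partner_symm (hne : c₀ ≠ c₁) {a : σ → Fin k} (ha : a l = c₀ ∨ a l = c₁) :
    Function.update (M.tw (Function.update (M.tw a) l (Equiv.swap c₀ c₁ (a l)))) l
      (Equiv.swap c₀ c₁ ((Function.update (M.tw a) l (Equiv.swap c₀ c₁ (a l))) l)) = a := by
  funext m
  rcases eq_or_ne m l with rfl | hm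
  · rw [Function.update_self, Function.update_self, Equiv.swap_apply_self]
  · rw [Function.update_of_ne hm]
    by_cases hs' : m ∈ M.supp
    · rw [M.tw_mem _ hs', Function.update_of_ne hm, M.tw_mem _ hs', Equiv.swap_apply_self]
    · rw [M.tw_off _ hs', Function.update_of_ne hm, M.tw_off _ hs']

/-- The values on one plane. -/
theorem plane_values (hne : c₀ ≠ c₁) (hy : Plane X M l U c₀ c₁ ε y) {a b : σ → Fin k} (hab : a ≠ b)
    (hpa : M.Paired a) (hal : a l = c₀ ∨ a l = c₁) (hb : b = Function.update (M.tw a) l (Equiv.swap c₀ c₁ (a l))) :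
    (Units.val y) *ᵥ Pi.single a 1 =
        (Units.val y) a a • Pi.single a 1 + (Units.val y) b a • Pi.single b 1 ∧
      (Units.val y) b b = (Units.val y) a a ∨ (Units.val y) b a = 0 := by
  by_cases h0 : (Units.val y) b a = 0
  · exact Or.inr h0
  have ha' : a = Function.update (M.tw b) l (Equiv.swap c₀ c₁ (b l)) := by
    rw [hb]; exact (partner_symm hl hne hal).symm
  have hεb : ε b = -ε a := by rw [hb, hεl, hanti a hpa]
  have hcol : ∀ c, c ≠ a → c ≠ b → (Units.val y) c a = 0 := by
    intro c hca hcb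
    by_contra h
    obtain rfl | ⟨pc, -, -, hcl, he⟩ := hy.entry c a h
    · exact hca rfl
    refine hcb ?_
    rw [hb, he]
    exact (partner_symm hl hne hcl).symm
  have hcolb : ∀ c, c ≠ a → c ≠ b → (Units.val y) c b = 0 := by
    intro c hca hcb
    by_contra h
    obtain rfl | ⟨pc, -, -, hcl, he⟩ := hy.entry c b h
    · exact hcb rfl
    refine hca ?_
    rw [ha', he]
    exact (partner_symm hl hne hcl).symm
  refine Or.inl ⟨mulVec_two hab hcol, ?_⟩
  -- the inverse has the same diagonal and opposite entries off it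
  have hinv : (Units.val (y⁻¹ : GL (σ → Fin _) F)) *ᵥ ((Units.val y) *ᵥ Pi.single a 1) = Pi.single a 1 := by
    rw [Matrix.mulVec_mulVec, Units.inv_mul, Matrix.one_mulVec]
  rw [mulVec_two hab hcol, Matrix.mulVec_add, Matrix.mulVec_smul, Matrix.mulVec_smul] at hinv
  have e := congrFun hinv b
  simp only [Pi.add_apply, Pi.smul_apply, smul_eq_mul, Matrix.mulVec_single_one, Matrix.col_apply, hy.inv,
    Pi.single_eq_of_ne hab.symm, hεb] at e
  have e' : (Units.val y) b a * ((Units.val y) b b - (Units.val y) a a) * (ε a * ε a) = 0 := by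
    linear_combination e
  rw [hε, mul_one] at e'
  exact sub_eq_zero.1 ((mul_eq_zero.1 e').resolve_left h0)

include hs hse in
omit hεl hanti in
theorem plane_weights (hy : Plane X M l U c₀ c₁ ε y) (a b : σ → Fin k) :
    wt d a * (ε a * (Units.val y) a b * ε b) = (Units.val y) b a * wt d b := by
  rw [← hy.inv]
  exact iso_row (wt_ne_zero C.shape.ne) (C.iso (mem_nearGrp.1 hy.mem).1) a b

omit hl hεl hanti in
/-- Diagonal rows are trivial. -/
theorem plane_one (hy : Plane X M l U c₀ c₁ ε y) {a : σ → Fin k}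
    (hrow : ∀ b, b ≠ a → (Units.val y) a b = 0) : (Units.val y) a a = 1 := by
  obtain ⟨e, he⟩ : ∃ e, e = (Units.val y) a a := ⟨_, rfl⟩
  have hpow : ∀ n : ℕ, (Units.val (y ^ n : GL (σ → Fin _) F)) a a = e ^ n ∧
      ∀ b, b ≠ a → (Units.val (y ^ n : GL (σ → Fin _) F)) a b = 0 := fun n => by
    induction n with
    | zero => exact ⟨by simp, fun b hb => by simp [Matrix.one_apply, hb.symm]⟩
    | succ n ih =>
      constructor
      · rw [pow_succ', Units.val_mul, Matrix.mul_apply, Finset.sum_eq_single a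
          (fun c _ hc => by rw [hrow c hc, zero_mul]) (by simp), ih.1, ← he, pow_succ']
      · intro b hb
        rw [pow_succ', Units.val_mul, Matrix.mul_apply]
        refine Finset.sum_eq_zero fun c _ => ?_
        rcases eq_or_ne c a with rfl | hc
        · rw [ih.2 b hb, mul_zero]
        · rw [hrow c hc, zero_mul]
  have h1 := (hpow (orderOf y)).1
  rw [pow_orderOf_eq_one, Units.val_one, Matrix.one_apply_eq] at h1
  have h2 : e * e = 1 := by
    have h3 : (Units.val (y * y⁻¹ : GL (σ → Fin _) F)) a a = 1 := by simp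
    rw [Units.val_mul, Matrix.mul_apply, Finset.sum_eq_single a (fun c _ hc => by rw [hrow c hc, zero_mul]) (by simp),
      hy.inv, ← he] at h3
    linear_combination h3 - (e * e) * hε a
  obtain ⟨n, hn⟩ := hy.odd
  rw [hn, pow_succ, pow_mul, pow_two, h2, one_pow, one_mul] at h1
  rw [← he, ← h1]

include hs hse in
/-- The two values on a plane are those of a proper rotation. -/
theorem plane_rot (hne : c₀ ≠ c₁) (hy : Plane X M l U c₀ c₁ ε y) {a b : σ → Fin k} (hab : a ≠ b)
    (hpa : M.Paired a) (hal : a l = c₀ ∨ a l = c₁) (hb : b = Function.update (M.tw a) l (Equiv.swap c₀ c₁ (a l)))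
    (hβ : (Units.val y) b a ≠ 0) :
    (Units.val y) a a ≠ 0 ∧
      (Units.val y) a b * wt d a = -((Units.val y) b a * wt d b) ∧
      (Units.val y) *ᵥ Pi.single b 1 =
        (Units.val y) a a • Pi.single b 1 + (Units.val y) a b • Pi.single a 1 ∧
      (Units.val y) a a * (Units.val y) a a * wt d a +
        (Units.val y) b a * (Units.val y) b a * wt d b = wt d a := by
  obtain ⟨hcol, hdd⟩ := (plane_values C hl hε hεl hanti hne hy hab hpa hal hb).resolve_right hβ
  have ha' : a = Function.update (M.tw b) l (Equiv.swap c₀ c₁ (b l)) := by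
    rw [hb]; exact (partner_symm hl hne hal).symm
  have hpb : M.Paired b := fun m hm => by
    rw [hb, Function.update_of_ne (ne_of_mem_of_not_mem hm hl)]
    exact M.paired_tw hpa m hm
  have hbl : b l = c₀ ∨ b l = c₁ := by
    rw [hb, Function.update_self]
    rcases hal with e | e <;> simp [e]
  have hεb : ε b = -ε a := by rw [hb, hεl, hanti a hpa]
  have hw := plane_weights C hl hs hse hε hy a b
  rw [hεb] at hw
  have hsk : (Units.val y) a b * wt d a = -((Units.val y) b a * wt d b) := by
    linear_combination -hw - (Units.val y) a b * wt d a * hε a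
  have hab0 : (Units.val y) a b ≠ 0 := fun h => by
    rw [h, zero_mul, eq_comm, neg_eq_zero, mul_eq_zero] at hsk
    exact hsk.elim hβ (wt_ne_zero C.shape.ne b)
  obtain ⟨hcolb, -⟩ := (plane_values C hl hε hεl hanti hne hy hab.symm hpb hbl ha').resolve_right hab0
  rw [hdd] at hcolb
  refine ⟨fun h0 => ?_, hsk, hcolb, ?_⟩
  · -- a quarter turn has even order
    obtain ⟨μ, hμ⟩ : ∃ μ, μ = (Units.val y) b a * (Units.val y) a b := ⟨_, rfl⟩
    rw [h0, zero_smul, zero_add] at hcol hcolb
    have hpow : ∀ n : ℕ, (Units.val (y ^ (2 * n + 1) : GL (σ → Fin _) F)) *ᵥ Pi.single a 1 =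
        (μ ^ n * (Units.val y) b a) • Pi.single b 1 := fun n => by
      induction n with
      | zero => rw [mul_zero, zero_add, pow_one, hcol, pow_zero, one_mul]
      | succ n ih =>
        rw [show 2 * (n + 1) + 1 = (2 * n + 1) + 1 + 1 by ring, pow_succ', pow_succ', Units.val_mul, Units.val_mul,
          ← Matrix.mulVec_mulVec, ← Matrix.mulVec_mulVec, ih, Matrix.mulVec_smul, hcolb, smul_smul,
          Matrix.mulVec_smul, hcol, smul_smul]
        congr 1
        rw [hμ, pow_succ]
        ring
    obtain ⟨n, hn⟩ := hy.odd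
    have h1 := congrFun (hpow n) a
    rw [← hn, pow_orderOf_eq_one, Units.val_one, Matrix.one_mulVec, Pi.smul_apply, Pi.single_eq_same,
      Pi.single_eq_of_ne hab, smul_zero] at h1
    exact one_ne_zero h1
  · have hinv : (Units.val (y⁻¹ : GL (σ → Fin _) F)) *ᵥ ((Units.val y) *ᵥ Pi.single a 1) =
        Pi.single a 1 := by
      rw [Matrix.mulVec_mulVec, Units.inv_mul, Matrix.one_mulVec]
    rw [hcol, Matrix.mulVec_add, Matrix.mulVec_smul, Matrix.mulVec_smul] at hinv
    have e := congrFun hinv a
    simp only [Pi.add_apply, Pi.smul_apply, smul_eq_mul, Matrix.mulVec_single_one, Matrix.col_apply, hy.inv,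
      Pi.single_eq_same, hεb] at e
    linear_combination (wt d a) * e + (Units.val y) b a * hsk -
      ((Units.val y) a a * (Units.val y) a a * wt d a -
        (Units.val y) a b * (Units.val y) b a * wt d a) * hε a

include hP hU hs hse in
/-- Two indices cannot be mixed. -/
theorem plane_false (hne : c₀ ≠ c₁) (hy : Plane X M l U c₀ c₁ ε y) {a₁ b₁ : σ → Fin k}
    (hoff : (Units.val y) a₁ b₁ ≠ 0) (hab₁ : a₁ ≠ b₁) : False := by
  classical
  haveI : NeZero k := ⟨by have := C.shape.three; omega⟩
  obtain rfl | ⟨hpa₁, hua, hub, hal₁, hb₁⟩ := hy.entry a₁ b₁ hoff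
  · exact hab₁ rfl
  have hpb₁ : M.Paired b₁ := fun m hm => by
    rw [hb₁, Function.update_of_ne (ne_of_mem_of_not_mem hm hl)]
    exact M.paired_tw hpa₁ m hm
  have hbl₁ : b₁ l = c₀ ∨ b₁ l = c₁ := by
    rw [hb₁, Function.update_self]
    rcases hal₁ with e | e <;> simp [e]
  have ha₁ : a₁ = Function.update (M.tw b₁) l (Equiv.swap c₀ c₁ (b₁ l)) := by
    rw [hb₁]; exact (partner_symm hl hne hal₁).symm
  have hrot₁ := plane_rot C hl hs hse hε hεl hanti hne hy hab₁.symm hpb₁ hbl₁ ha₁ hoff
  have hoff' : (Units.val y) b₁ a₁ ≠ 0 := fun h0 => by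
    have := hrot₁.2.1
    rw [h0, zero_mul, eq_comm, neg_eq_zero, mul_eq_zero] at this
    exact this.elim hoff (wt_ne_zero C.shape.ne a₁)
  -- choose the end whose partner is a main index
  obtain ⟨a, b, hab, hpa, hal, hb, hβ, hbm, hau, hbu⟩ : ∃ a b : σ → Fin k, a ≠ b ∧ M.Paired a ∧
      (a l = c₀ ∨ a l = c₁) ∧ b = Function.update (M.tw a) l (Equiv.swap c₀ c₁ (a l)) ∧
      (Units.val y) b a ≠ 0 ∧ Main (b l) ∧ a l ∉ U ∧ b l ∉ U := by
    by_cases hm : Main (b₁ l)
    · exact ⟨a₁, b₁, hab₁, hpa₁, hal₁, hb₁, hoff', hm, hua, hub⟩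
    · refine ⟨b₁, a₁, hab₁.symm, hpb₁, hbl₁, ha₁, hoff, by_contra fun hm' => ?_, hub, hua⟩
      have := not_main_unique hm' hm
      rw [hb₁, Function.update_self] at this
      rcases hal₁ with e | e <;> rw [e] at this <;> simp [hne, hne.symm] at this
  obtain ⟨hcol, -⟩ := (plane_values C hl hε hεl hanti hne hy hab hpa hal hb).resolve_right hβ
  obtain ⟨hα, hsk, hcolb, hnorm⟩ := plane_rot C hl hs hse hε hεl hanti hne hy hab hpa hal hb hβ
  obtain ⟨α, hαd⟩ : ∃ α, α = (Units.val y) a a := ⟨_, rfl⟩
  obtain ⟨β, hβd⟩ : ∃ β, β = (Units.val y) b a := ⟨_, rfl⟩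
  rw [← hαd] at hα hcol hcolb hnorm
  rw [← hβd] at hβ hcol hsk hnorm
  -- three elements have no such planes
  by_cases hq : Fintype.card F = 3
  · have hsq : ∀ x : F, x ≠ 0 → x * x = 1 := fun x hx => by
      have := FiniteField.pow_card_sub_one_eq_one x hx
      rwa [hq, show 3 - 1 = 2 from rfl, pow_two] at this
    rw [hsq α hα, hsq β hβ, one_mul, one_mul, add_eq_left] at hnorm
    exact wt_ne_zero C.shape.ne b hnorm
  have h5 := C.shape.card_five hq
  obtain ⟨hinv, hcomm, -⟩ := near_inverted C hP hl hU hs hse hε hεl hanti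
  have hbl : b l = Equiv.swap c₀ c₁ (a l) := by rw [hb, Function.update_self]
  have hne' : a l ≠ b l := by
    rw [hbl]
    rcases hal with e | e <;> simp [e, hne, hne.symm]
  have hk3 : k = 3 → α * α + β * β = 1 := fun h3 => by
    have hw : ∀ c : σ → Fin k, wt d c = 1 := fun c =>
      Finset.prod_eq_one fun m _ => C.shape.one _ (Or.inr (by subst h3; decide))
    rwa [hw, hw, mul_one, mul_one] at hnorm
  have hpair : ∀ u, (u = c₀ ∨ u = c₁) → u = a l ∨ u = b l := fun u hu => by
    rw [hbl]
    rcases hu with rfl | rfl <;> rcases hal with e | e <;> simp [e]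
  have hcommy : ∀ (m : σ) (h : GL (Fin k) F), facG m h ∈ X →
      ((m = l ∧ ∀ u v : Fin k, ((h : Matrix (Fin k) (Fin k) F) u v ≠ 0 ∨
        ((h⁻¹ : GL (Fin k) F) : Matrix (Fin k) (Fin k) F) u v ≠ 0) → (u ∈ U ↔ v ∈ U)) ∨
      (m ≠ l ∧ M.supp = {m} ∧ ∀ u v : Fin k, ((h : Matrix (Fin k) (Fin k) F) u v ≠ 0 ∨
        ((h⁻¹ : GL (Fin k) F) : Matrix (Fin k) (Fin k) F) u v ≠ 0) →
          ((u = M.p m ∨ u = M.q m) ↔ (v = M.p m ∨ v = M.q m)))) →
      (Units.val y) * (facS m (h : Matrix (Fin k) (Fin k) F) * (Units.val y) *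
        facS m ((h⁻¹ : GL (Fin k) F) : Matrix (Fin k) (Fin k) F)) =
      facS m (h : Matrix (Fin k) (Fin k) F) * (Units.val y) *
        facS m ((h⁻¹ : GL (Fin k) F) : Matrix (Fin k) (Fin k) F) * (Units.val y) := by
    intro m h hX hp
    have hval : (Units.val (facG m h * y * (facG m h)⁻¹ : GL (σ → Fin _) F)) =
        facS m (h : Matrix (Fin k) (Fin k) F) * (Units.val y) *
          facS m ((h⁻¹ : GL (Fin k) F) : Matrix (Fin k) (Fin k) F) := by
      rw [← map_inv, Units.val_mul, Units.val_mul, facG_val, facG_val]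
    have hmem : facG m h * y * (facG m h)⁻¹ ∈ nearGrp X M l U :=
      mem_nearGrp.2 ⟨mul_mem (mul_mem hX (mem_nearGrp.1 hy.mem).1) (inv_mem hX),
        hval ▸ (mem_nearGrp.1 hy.mem).2.conj_fac h hl hp⟩
    have := congrArg Units.val (hcomm y hy.mem _ hmem).eq
    rwa [Units.val_mul, Units.val_mul (_ * _) y, hval] at this
  have hrowfix : ∀ (h : GL (Fin k) F), h ∈ IsoD d → ∀ u : Fin k,
      (∀ v, (h : Matrix (Fin k) (Fin k) F) v u = if v = u then 1 else 0) →
      ∀ v, ((h : Matrix (Fin k) (Fin k) F) u v = if u = v then 1 else 0) ∧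
        (((h⁻¹ : GL (Fin k) F) : Matrix (Fin k) (Fin k) F) v u = if v = u then 1 else 0) ∧
        (((h⁻¹ : GL (Fin k) F) : Matrix (Fin k) (Fin k) F) u v = if u = v then 1 else 0) := by
    intro h hh u hu v
    have hinvcol : ∀ v, ((h⁻¹ : GL (Fin k) F) : Matrix (Fin k) (Fin k) F) v u = if v = u then 1 else 0 := by
      intro v
      have e : ((h⁻¹ : GL (Fin k) F) : Matrix (Fin k) (Fin k) F) *ᵥ
          ((h : Matrix (Fin k) (Fin k) F) *ᵥ Pi.single u 1) = Pi.single u 1 := by
        rw [Matrix.mulVec_mulVec, Units.inv_mul, Matrix.one_mulVec]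
      rw [show (h : Matrix (Fin k) (Fin k) F) *ᵥ Pi.single u 1 = Pi.single u 1 by
        rw [Matrix.mulVec_single_one]; funext w; simp [Matrix.col, hu w, Pi.single_apply]] at e
      have := congrFun e v
      rwa [Matrix.mulVec_single_one, Matrix.col_apply, Pi.single_apply] at this
    refine ⟨?_, hinvcol v, ?_⟩
    · have := iso_row C.shape.ne hh v u
      rw [hinvcol v] at this
      rcases eq_or_ne v u with e | e
      · subst e; rw [hu]
      · rw [if_neg e, mul_zero, eq_comm, mul_eq_zero] at this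
        rw [if_neg e.symm]
        exact this.resolve_right (C.shape.ne u)
    · have := iso_row C.shape.ne hh u v
      rw [hu v] at this
      rcases eq_or_ne v u with e | e
      · subst e; exact hinvcol _
      · rw [if_neg e, zero_mul, mul_eq_zero] at this
        rw [if_neg e.symm]
        exact this.resolve_left (C.shape.ne u)
  have hfixl : ∀ (h : GL (Fin k) F), h ∈ IsoD d →
      (∀ u, u ∈ U → ∀ v, (h : Matrix (Fin k) (Fin k) F) v u = if v = u then 1 else 0) →
      ∀ u v : Fin k, ((h : Matrix (Fin k) (Fin k) F) u v ≠ 0 ∨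
        ((h⁻¹ : GL (Fin k) F) : Matrix (Fin k) (Fin k) F) u v ≠ 0) → (u ∈ U ↔ v ∈ U) := by
    intro h hh hu u v huv
    constructor <;> intro hm
    · obtain ⟨e1, -, e3⟩ := hrowfix h hh u (hu u hm) v
      by_contra hv
      have : u ≠ v := fun e => hv (e ▸ hm)
      rw [if_neg this] at e1 e3
      exact huv.elim (fun e => e e1) fun e => e e3
    · obtain ⟨-, e2, -⟩ := hrowfix h hh v (hu v hm) u
      by_contra hv
      have : u ≠ v := fun e => hv (e.symm ▸ hm)
      rw [if_neg this] at e2
      exact huv.elim (fun e => e (by rw [hu v hm u, if_neg this])) fun e => e e2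
  by_cases hgen : k = 3 → U = ∅
  · -- move the partner off its line
    have hUc : U.card ≤ 1 := by
      rcases hU with ⟨rfl, -⟩ | ⟨u, rfl, -⟩
      · simp
      · simp
    obtain ⟨h, ⟨hh, hfix, ⟨z, hza, hzb, hz⟩, hh1⟩, hhX⟩ :=
      C.shape.exists_mover hUc hgen hne' hau hbu hbm h5 hα hβ hk3
    have hX : facG l h ∈ X := hhX.elim (C.omega l h) fun h4 => C.ext (h4 ▸ by decide) l h hh
    have e := congrArg (fun N => (N *ᵥ Pi.single a 1) (Function.update b l z))
      (hcommy l h hX (Or.inl ⟨rfl, hfixl h hh fun u hu => hfix u (Or.inl hu)⟩))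
    simp only [← Matrix.mulVec_mulVec] at e
    have hH : facS l ((h⁻¹ : GL (Fin k) F) : Matrix (Fin k) (Fin k) F) *ᵥ Pi.single a 1 = Pi.single a 1 := by
      rw [facS_single, Finset.sum_eq_single (a l) (fun v _ hv => by
        rw [(hrowfix h hh (a l) (hfix _ (Or.inr rfl)) v).2.1, if_neg hv, zero_smul]) (by simp),
        (hrowfix h hh (a l) (hfix _ (Or.inr rfl)) (a l)).2.1, if_pos rfl, one_smul, Function.update_eq_self]
    have hH' : facS l (h : Matrix (Fin k) (Fin k) F) *ᵥ Pi.single a 1 = Pi.single a 1 := by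
      rw [facS_single, Finset.sum_eq_single (a l) (fun v _ hv => by
        rw [hfix _ (Or.inr rfl) v, if_neg hv, zero_smul]) (by simp),
        hfix _ (Or.inr rfl), if_pos rfl, one_smul, Function.update_eq_self]
    obtain ⟨r, hr⟩ : ∃ r, r = Function.update b l z := ⟨_, rfl⟩
    have hrl : ∀ u, (u = c₀ ∨ u = c₁) → u ≠ r l := fun u hu => by
      rw [hr, Function.update_self]
      rcases hpair u hu with rfl | rfl
      · exact hza.symm
      · exact hzb.symm
    have hrow : ∀ c, c ≠ r → (Units.val y) r c = 0 := fun c hc => by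
      by_contra h0
      obtain rfl | ⟨-, -, -, hl', -⟩ := hy.entry r c h0
      · exact hc rfl
      · exact hrl _ hl' rfl
    have hyrow : ∀ w : (σ → Fin k) → F, ((Units.val y) *ᵥ w) r = w r := fun w => by
      rw [Matrix.mulVec, dotProduct, Finset.sum_eq_single r (fun c _ hc => by rw [hrow c hc, zero_mul]) (by simp),
        plane_one C hε hy hrow, one_mul]
    have hra : r ≠ a := fun e' => hrl (a l) hal (by rw [e'])
    have hrb : r ≠ b := fun e' => by
      have := congrFun e' l
      rw [hr, Function.update_self] at this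
      exact hzb this
    -- columns at the partner and its moves
    have hyoth : ∀ v, v ≠ a l → v ≠ b l → (Units.val y) *ᵥ Pi.single (Function.update b l v) 1 =
        Pi.single (Function.update b l v) 1 := fun v hva hvb => by
      have hc : ∀ c, (Units.val y) c (Function.update b l v) ≠ 0 → c = Function.update b l v := fun c h0 => by
        obtain h1 | ⟨-, -, -, hl', hev⟩ := hy.entry c _ h0
        · exact h1
        · have := congrFun hev l
          rw [Function.update_self, Function.update_self] at this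
          have : v = c₀ ∨ v = c₁ := by rcases hl' with e' | e' <;> simp [this, e']
          rcases hpair v this with e' | e'
          · exact absurd e' hva
          · exact absurd e' hvb
      have hone : (Units.val y) (Function.update b l v) (Function.update b l v) = 1 := by
        refine plane_one C hε hy fun c hcne => ?_
        by_contra h0
        obtain h1 | ⟨-, -, -, hl', -⟩ := hy.entry _ c h0
        · exact hcne h1.symm
        · rw [Function.update_self] at hl'
          rcases hpair v hl' with e' | e'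
          · exact hva e'
          · exact hvb e'
      rw [Matrix.mulVec_single_one]
      funext c
      by_cases hcv : c = Function.update b l v
      · subst hcv; simp [Matrix.col, hone]
      · simp only [Matrix.col_apply, Pi.single_eq_of_ne hcv]
        exact by_contra fun h0 => hcv (hc c h0)
    obtain ⟨h', hh'⟩ : ∃ h', h' = ((h⁻¹ : GL (Fin k) F) : Matrix (Fin k) (Fin k) F) (b l) (b l) := ⟨_, rfl⟩
    have hHb : (Units.val y) *ᵥ (facS l ((h⁻¹ : GL (Fin k) F) : Matrix (Fin k) (Fin k) F) *ᵥ Pi.single b 1) =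
        facS l ((h⁻¹ : GL (Fin k) F) : Matrix (Fin k) (Fin k) F) *ᵥ Pi.single b 1 +
          h' • ((α - 1) • Pi.single b 1 + (Units.val y) a b • Pi.single a 1) := by
      rw [facS_single, Matrix.mulVec_sum, ← Finset.sum_erase_add _ _ (Finset.mem_univ (b l)),
        ← Finset.sum_erase_add (f := fun v => ((h⁻¹ : GL (Fin k) F) : Matrix (Fin k) (Fin k) F) v (b l) •
          (Pi.single (Function.update b l v) 1 : (σ → Fin k) → F)) _ (Finset.mem_univ (b l)),
        Matrix.mulVec_smul, Function.update_eq_self, hcolb, ← hh']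
      rw [Finset.sum_congr rfl fun v hv => ?_]
      · module
      · by_cases hva : v = a l
        · rw [hva, (hrowfix h hh (a l) (hfix _ (Or.inr rfl)) (b l)).2.2, if_neg hne', zero_smul, Matrix.mulVec_zero]
        · rw [Matrix.mulVec_smul, hyoth v hva (Finset.ne_of_mem_erase hv)]
    have hhinv : h' = (h : Matrix (Fin k) (Fin k) F) (b l) (b l) := by
      have := iso_row C.shape.ne hh (b l) (b l)
      rw [← hh', mul_comm] at this
      exact mul_right_cancel₀ (C.shape.ne _) this
    have hcancel : facS l (h : Matrix (Fin k) (Fin k) F) *ᵥ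
        (facS l ((h⁻¹ : GL (Fin k) F) : Matrix (Fin k) (Fin k) F) *ᵥ Pi.single b 1) = Pi.single b 1 := by
      rw [Matrix.mulVec_mulVec, facS_mul, Units.mul_inv, facS_one, Matrix.one_mulVec]
    have hHr : (facS l (h : Matrix (Fin k) (Fin k) F) *ᵥ Pi.single b 1) r = (h : Matrix (Fin k) (Fin k) F) z (b l) := by
      rw [Matrix.mulVec_single_one, Matrix.col_apply, hr]
      nth_rewrite 2 [← Function.update_eq_self l b]
      rw [facS_apply_update]
    rw [hH, hcol, Matrix.mulVec_add, Matrix.mulVec_smul, Matrix.mulVec_smul, Matrix.mulVec_add, Matrix.mulVec_smul,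
      Matrix.mulVec_smul, hH'] at e
    rw [← hr] at e
    simp only [hH, hH', hcol, Matrix.mulVec_add, Matrix.mulVec_smul, hHb, hcancel, Pi.add_apply, Pi.smul_apply,
      smul_eq_mul, Pi.single_eq_of_ne hra, Pi.single_eq_of_ne hrb, mul_zero, add_zero, zero_add, hyrow, hHr] at e
    have h1 : (1 - α) * (1 + h') * (β * (h : Matrix (Fin k) (Fin k) F) z (b l)) = 0 := by
      linear_combination e
    have h2 : 1 + h' ≠ 0 := fun h0 => hh1 (by rw [← hhinv]; linear_combination h0)
    have h3 : α = 1 := by
      have := (mul_eq_zero.1 h1).resolve_right (mul_ne_zero hβ hz)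
      exact (sub_eq_zero.1 ((mul_eq_zero.1 this).resolve_right h2)).symm
    rw [h3, one_mul, one_mul, add_eq_left, mul_eq_zero] at hnorm
    exact hnorm.elim (fun h0 => hβ (mul_self_eq_zero.1 h0)) (wt_ne_zero C.shape.ne b)
  · -- three indices, one of them fixed: two planes
    push Not at hgen
    obtain ⟨h3, hUne⟩ := hgen
    obtain ⟨u₀, hu₀, hsupp⟩ : ∃ u, U = {u} ∧ M.supp.card = 1 := hU.resolve_left fun h => hUne.ne_empty h.1
    obtain ⟨m, hm⟩ := Finset.card_eq_one.1 hsupp
    subst h3
    have hd1 : ∀ i, d i = 1 := fun i => C.shape.one i (Or.inr (by decide))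
    have hw : ∀ c : σ → Fin 3, wt d c = 1 := fun c => Finset.prod_eq_one fun j _ => hd1 _
    rw [hw, hw, mul_one, mul_one] at hsk hnorm
    have hml : m ≠ l := fun e => hl (by rw [hm]; exact Finset.mem_singleton.2 e.symm)
    have hmm : m ∈ M.supp := by rw [hm]; exact Finset.mem_singleton_self m
    have hpm := hpa m hmm
    have hbm' : b m = Equiv.swap (M.p m) (M.q m) (a m) := by rw [hb, Function.update_of_ne hml, M.tw_mem a hmm]
    have hnm : a m ≠ b m := by
      rw [hbm']
      rcases hpm with e | e <;> simp [e, M.ne m hmm, (M.ne m hmm).symm]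
    -- not an eighth turn
    have hsq : α * α ≠ β * β := by
      intro hs2
      have hy2 : (Units.val y) *ᵥ ((Units.val y) *ᵥ Pi.single a 1) =
          (2 * α * β) • Pi.single b 1 := by
        rw [hcol, Matrix.mulVec_add, Matrix.mulVec_smul, Matrix.mulVec_smul, hcol, hcolb, hsk]
        have : α * α + β * -β = 0 := by linear_combination hs2
        match_scalars <;> first | ring1 | linear_combination this | linear_combination -this
      have hy4 : (Units.val y) *ᵥ ((Units.val y) *ᵥ Pi.single b 1) =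
          (-(2 * α * β)) • Pi.single a 1 := by
        rw [hcolb, Matrix.mulVec_add, Matrix.mulVec_smul, Matrix.mulVec_smul, hcol, hcolb, hsk]
        have : α * α + β * -β = 0 := by linear_combination hs2
        match_scalars <;> first | ring1 | linear_combination this | linear_combination -this
      obtain ⟨γ, hγ⟩ : ∃ γ, γ = 2 * α * β := ⟨_, rfl⟩
      rw [← hγ] at hy2 hy4
      have hpow : ∀ n : ℕ, ∀ v : (σ → Fin 3) → F, (∃ c : F, v = c • Pi.single a 1) ∨ (∃ c : F, v = c • Pi.single b 1) →
          (∃ c : F, (Units.val (y ^ (2 * n) : GL (σ → Fin _) F)) *ᵥ v = c • Pi.single a 1) ∨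
            ∃ c : F, (Units.val (y ^ (2 * n) : GL (σ → Fin _) F)) *ᵥ v = c • Pi.single b 1 := by
        intro n
        induction n with
        | zero => intro v hv; simpa using hv
        | succ n ih =>
          intro v hv
          rw [show 2 * (n + 1) = 2 * n + 1 + 1 by ring, pow_succ', pow_succ', Units.val_mul, Units.val_mul,
            ← Matrix.mulVec_mulVec, ← Matrix.mulVec_mulVec]
          rcases ih v hv with ⟨c, hc⟩ | ⟨c, hc⟩
          · exact Or.inr ⟨c * γ, by rw [hc, Matrix.mulVec_smul, Matrix.mulVec_smul, hy2, smul_smul]⟩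
          · exact Or.inl ⟨c * -γ, by rw [hc, Matrix.mulVec_smul, Matrix.mulVec_smul, hy4, smul_smul]⟩
      obtain ⟨n, hn⟩ := hy.odd
      have hone : Pi.single a (1 : F) =
          (Units.val y) *ᵥ ((Units.val (y ^ (2 * n) : GL (σ → Fin _) F)) *ᵥ Pi.single a 1) := by
        rw [Matrix.mulVec_mulVec, ← Units.val_mul, ← pow_succ', ← hn, pow_orderOf_eq_one, Units.val_one,
          Matrix.one_mulVec]
      rcases hpow n (Pi.single a 1) (Or.inl ⟨1, (one_smul _ _).symm⟩) with ⟨c, hc⟩ | ⟨c, hc⟩ <;>
        rw [hc, Matrix.mulVec_smul] at hone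
      · rw [hcol] at hone
        have ea := congrFun hone a
        have eb := congrFun hone b
        simp [Pi.single_eq_of_ne hab, Pi.single_eq_of_ne hab.symm] at ea eb
        rcases eb with e | e
        · rw [e] at ea; simp at ea
        · exact hβ e
      · rw [hcolb] at hone
        have ea := congrFun hone a
        have eb := congrFun hone b
        simp [Pi.single_eq_of_ne hab, Pi.single_eq_of_ne hab.symm] at ea eb
        rcases eb with e | e
        · rw [e] at ea; simp at ea
        · exact hα e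
    obtain ⟨Cc, hC⟩ : ∃ Cc, Cc = α * α - β * β := ⟨_, rfl⟩
    obtain ⟨S, hS⟩ : ∃ S, S = 2 * α * β := ⟨_, rfl⟩
    have hCS : Cc * S ≠ 0 := mul_ne_zero (hC ▸ sub_ne_zero.2 hsq) (hS ▸ mul_ne_zero (mul_ne_zero C.shape.two hα) hβ)
    -- a rotation in each of the two slots
    obtain ⟨r, hr1, hr2⟩ := exists_third (le_refl 3) (a l) (b l)
    obtain ⟨h, hh, hhr, hii, hji, hij, hjj⟩ := exists_rotation hd1 C.shape.two hne' hr1 hr2 (hk3 rfl) hβ
    obtain ⟨r', hr1', hr2'⟩ := exists_third (le_refl 3) (a m) (b m)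
    obtain ⟨ρ, hρ, hρr, hρii, hρji, hρij, hρjj⟩ := exists_rotation hd1 C.shape.two hnm hr1' hr2' (hk3 rfl) hβ
    rw [← hC, ← hS] at *
    have hun : ∀ {p q r : Fin 3}, p ≠ q → r ≠ p → r ≠ q → ∀ v, v = p ∨ v = q ∨ v = r := by decide
    have hru : r = u₀ := by
      rcases hun hne' hr1 hr2 u₀ with e | e | e
      · exact absurd (by rw [hu₀, e]; exact Finset.mem_singleton_self _) hau
      · exact absurd (by rw [hu₀, e]; exact Finset.mem_singleton_self _) hbu
      · exact e.symm
    have hinvrot : ∀ (g : GL (Fin 3) F), g ∈ IsoD d → ∀ u v,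
        ((g⁻¹ : GL (Fin 3) F) : Matrix (Fin 3) (Fin 3) F) u v = (g : Matrix (Fin 3) (Fin 3) F) v u := fun g hg u v => by
      have := iso_row C.shape.ne hg u v
      rwa [hd1, hd1, one_mul, mul_one] at this
    have hcolrot : ∀ (g : Matrix (Fin 3) (Fin 3) F) (j : σ) (x : σ → Fin 3) (p q rr : Fin 3), p ≠ q → rr ≠ p →
        rr ≠ q → x j = p → g rr p = 0 →
        facS j g *ᵥ Pi.single x 1 = g p p • Pi.single x 1 + g q p • Pi.single (Function.update x j q) 1 := by
      intro g j x p q rr hpq hrp hrq hx h0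
      rw [facS_single, hx, show (Finset.univ : Finset (Fin 3)) = {p, q, rr} from
        Finset.ext fun v => by simpa using hun hpq hrp hrq v,
        Finset.sum_insert (by simp [hpq, hrp.symm]), Finset.sum_pair hrq.symm, h0, zero_smul, add_zero, ← hx,
        Function.update_eq_self]
    obtain ⟨P, hPd⟩ : ∃ P, P = Function.update a l (b l) := ⟨_, rfl⟩
    obtain ⟨Q, hQd⟩ : ∃ Q, Q = Function.update b l (a l) := ⟨_, rfl⟩
    have haQ : Function.update Q l (b l) = b := by rw [hQd, Function.update_idem, Function.update_eq_self]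
    have hbQ : Function.update b l (a l) = Q := hQd.symm
    have hPa : Function.update P l (a l) = a := by rw [hPd, Function.update_idem, Function.update_eq_self]
    have hPl : P l = b l := by rw [hPd, Function.update_self]
    have hQl : Q l = a l := by rw [hQd, Function.update_self]
    have hPm : P m = a m := by rw [hPd, Function.update_of_ne hml]
    have hQm : Q m = b m := by rw [hQd, Function.update_of_ne hml]
    have hrest : ∀ j, j ≠ l → j ≠ m → b j = a j := fun j h1 h2 => by
      rw [hb, Function.update_of_ne h1, M.tw_off a (by rw [hm]; simpa using h2)]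
    have haQm : Function.update a m (b m) = Q := funext fun j => by
      rcases eq_or_ne j m with rfl | h2
      · rw [Function.update_self, hQm]
      · rw [Function.update_of_ne h2, hQd]
        rcases eq_or_ne j l with rfl | h1
        · rw [Function.update_self]
        · rw [Function.update_of_ne h1, hrest j h1 h2]
    have hQam : Function.update Q m (a m) = a := by rw [← haQm, Function.update_idem, Function.update_eq_self]
    have hPbm : Function.update P m (b m) = b := funext fun j => by
      rcases eq_or_ne j m with rfl | h2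
      · rw [Function.update_self]
      · rw [Function.update_of_ne h2, hPd]
        rcases eq_or_ne j l with rfl | h1
        · rw [Function.update_self]
        · rw [Function.update_of_ne h1, hrest j h1 h2]
    have hbPm : Function.update b m (a m) = P := by
      conv_lhs => rw [← hPbm]
      rw [Function.update_idem, ← hPm, Function.update_eq_self]
    have hPQ : P ≠ Q := fun e => hne' (by rw [← hQl, ← e, hPl])
    have haP : a ≠ P := fun e => hne' (by rw [← hPl, ← e])
    have haQn : a ≠ Q := fun e => hnm (by rw [← hQm, ← e])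
    have hPb : P ≠ b := fun e => hnm (by rw [← hPm, e])
    have hQb : Q ≠ b := fun e => hne' (by rw [← hQl, e])
    have hpP : M.Paired P := fun j hj => by rw [hm, Finset.mem_singleton] at hj; subst hj; rw [hPm]; exact hpm
    have hPl' : P l = c₀ ∨ P l = c₁ := by
      rw [hPl, hbl]
      rcases hal with e | e <;> simp [e]
    have hQT : Q = Function.update (M.tw P) l (Equiv.swap c₀ c₁ (P l)) := by
      funext j
      rcases eq_or_ne j l with rfl | h1
      · rw [Function.update_self, hQl, hPl, hbl, Equiv.swap_apply_self]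
      · rw [Function.update_of_ne h1]
        by_cases h2 : j = m
        · subst h2; rw [hQm, M.tw_mem P hmm, hPm, hbm']
        · rw [M.tw_off P (by rw [hm]; simpa using h2), hQd, hPd, Function.update_of_ne h1, Function.update_of_ne h1,
            hrest j h1 h2]
    obtain ⟨α₂, β₂, hyP, hyQ⟩ : ∃ α₂ β₂ : F,
        (Units.val y) *ᵥ Pi.single P 1 = α₂ • Pi.single P 1 + β₂ • Pi.single Q 1 ∧
        (Units.val y) *ᵥ Pi.single Q 1 = α₂ • Pi.single Q 1 - β₂ • Pi.single P 1 := by
      by_cases h0 : (Units.val y) Q P = 0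
      · have hsingle : ∀ x x' : σ → Fin 3, x ≠ x' → M.Paired x → (x l = c₀ ∨ x l = c₁) →
            x' = Function.update (M.tw x) l (Equiv.swap c₀ c₁ (x l)) →
            (Units.val y) x x' = 0 → (Units.val y) x' x = 0 →
            (Units.val y) *ᵥ Pi.single x 1 = Pi.single x 1 := by
          intro x x' hxx hpx hxl hx' h1 h2
          have hrow : ∀ c, c ≠ x → (Units.val y) x c = 0 := fun c hc => by
            by_contra h
            obtain e | ⟨-, -, -, -, he⟩ := hy.entry x c h
            · exact hc e.symm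
            · rw [he, ← hx'] at h; exact h h1
          rw [Matrix.mulVec_single_one]
          funext c
          by_cases hc : c = x
          · subst hc; simp [Matrix.col, plane_one C hε hy hrow]
          · simp only [Matrix.col_apply, Pi.single_eq_of_ne hc]
            by_contra h
            obtain e | ⟨-, -, -, hcl, he⟩ := hy.entry c x h
            · exact hc e
            · have : c = x' := by rw [hx', he]; exact (partner_symm hl hne hcl).symm
              rw [this] at h; exact h h2
        have h0' : (Units.val y) P Q = 0 := by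
          have := plane_weights C hl hs hse hε hy P Q
          rw [h0, hw, hw, zero_mul, one_mul] at this
          have hne0 : ∀ x : σ → Fin 3, ε x ≠ 0 := fun x hx => by
            have := hε x
            rw [hx, mul_zero] at this
            exact zero_ne_one this
          exact (mul_eq_zero.1 ((mul_eq_zero.1 this).resolve_right (hne0 Q))).resolve_left (hne0 P)
        have hpQ : M.Paired Q := fun j hj => by
          rw [hQT, Function.update_of_ne (ne_of_mem_of_not_mem hj hl)]; exact M.paired_tw hpP j hj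
        have hPT : P = Function.update (M.tw Q) l (Equiv.swap c₀ c₁ (Q l)) := by
          rw [hQT]; exact (partner_symm hl hne hPl').symm
        refine ⟨1, 0, ?_, ?_⟩
        · rw [hsingle P Q hPQ hpP hPl' hQT h0' h0]; simp
        · rw [hsingle Q P hPQ.symm hpQ (hQl ▸ hal) hPT h0 h0']; simp
      · obtain ⟨hcP, -⟩ := (plane_values C hl hε hεl hanti hne hy hPQ hpP hPl' hQT).resolve_right h0
        obtain ⟨-, hsk', hcQ, -⟩ := plane_rot C hl hs hse hε hεl hanti hne hy hPQ hpP hPl' hQT h0
        rw [hw, hw, mul_one, mul_one] at hsk'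
        exact ⟨_, _, hcP, by rw [hcQ, hsk', neg_smul, ← sub_eq_add_neg]⟩
    have hya : (Units.val y) *ᵥ Pi.single a 1 = α • Pi.single a 1 + β • Pi.single b 1 := hcol
    have hyb : (Units.val y) *ᵥ Pi.single b 1 = α • Pi.single b 1 - β • Pi.single a 1 := by
      rw [hcolb, hsk, neg_smul, ← sub_eq_add_neg]
    have hh0 := hrowfix h (om_le d hh) r hhr
    have e1 := four_points (y := (Units.val y)) (H := facS l (h : Matrix (Fin 3) (Fin 3) F))
      (H' := facS l ((h⁻¹ : GL (Fin 3) F) : Matrix (Fin 3) (Fin 3) F)) haP haQn hPQ hPb hQb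
      hya hyb hyP hyQ
      (by rw [hcolrot _ l a _ _ _ hne' hr1 hr2 rfl (by rw [(hh0 (a l)).1, if_neg hr1]), hii, hji, hPd])
      (by rw [hcolrot _ l P _ _ _ hne'.symm hr2 hr1 hPl (by rw [(hh0 (b l)).1, if_neg hr2]), hjj, hij, hPa,
        neg_smul, ← sub_eq_add_neg])
      (by rw [hcolrot _ l Q _ _ _ hne' hr1 hr2 hQl (by rw [(hh0 (a l)).1, if_neg hr1]), hii, hji, haQ])
      (by rw [hcolrot _ l b _ _ _ hne'.symm hr2 hr1 rfl (by rw [(hh0 (b l)).1, if_neg hr2]), hjj, hij, hbQ,
        neg_smul, ← sub_eq_add_neg])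
      (by rw [hcolrot _ l a _ _ _ hne' hr1 hr2 rfl (by rw [(hh0 (a l)).2.2, if_neg hr1]),
        hinvrot h (om_le d hh), hinvrot h (om_le d hh), hii, hij, hPd, neg_smul, ← sub_eq_add_neg])
      (by rw [hcolrot _ l b _ _ _ hne'.symm hr2 hr1 rfl (by rw [(hh0 (b l)).2.2, if_neg hr2]),
        hinvrot h (om_le d hh), hinvrot h (om_le d hh), hjj, hji, hbQ])
      C.shape.two hCS
      (hcommy l h (C.omega l h hh) (Or.inl ⟨rfl, hfixl h (om_le d hh) fun u hu v => by
        rw [hu₀, Finset.mem_singleton] at hu; rw [hu, ← hru]; exact hhr v⟩))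
    have hρ0 := hrowfix ρ (om_le d hρ) r' hρr
    have hyQ' : (Units.val y) *ᵥ Pi.single Q 1 = α₂ • Pi.single Q 1 + (-β₂) • Pi.single P 1 := by
      rw [hyQ, neg_smul, ← sub_eq_add_neg]
    have hyP' : (Units.val y) *ᵥ Pi.single P 1 = α₂ • Pi.single P 1 - (-β₂) • Pi.single Q 1 := by
      rw [hyP, neg_smul, sub_neg_eq_add]
    have hpm' : ∀ u, u ≠ r' → (u = M.p m ∨ u = M.q m) := fun u hu => by
      have hb' : b m = M.p m ∨ b m = M.q m := by
        rw [hbm']; rcases hpm with e | e <;> simp [e]
      rcases hun hnm hr1' hr2' u with e | e | e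
      · exact e ▸ hpm
      · exact e ▸ hb'
      · exact absurd e hu
    have hr'n : ¬ (r' = M.p m ∨ r' = M.q m) := by
      rw [hbm'] at hr2'
      rcases hpm with e | e <;> rw [e] at hr1' hr2' <;> simp at hr2' <;> simp [hr1', hr2']
    have e2 := four_points (y := (Units.val y)) (H := facS m (ρ : Matrix (Fin 3) (Fin 3) F))
      (H' := facS m ((ρ⁻¹ : GL (Fin 3) F) : Matrix (Fin 3) (Fin 3) F)) haQn haP hPQ.symm hQb hPb
      hya hyb hyQ' hyP'
      (by rw [hcolrot _ m a _ _ _ hnm hr1' hr2' rfl (by rw [(hρ0 (a m)).1, if_neg hr1']), hρii, hρji, haQm])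
      (by rw [hcolrot _ m Q _ _ _ hnm.symm hr2' hr1' hQm (by rw [(hρ0 (b m)).1, if_neg hr2']), hρjj, hρij, hQam,
        neg_smul, ← sub_eq_add_neg])
      (by rw [hcolrot _ m P _ _ _ hnm hr1' hr2' hPm (by rw [(hρ0 (a m)).1, if_neg hr1']), hρii, hρji, hPbm])
      (by rw [hcolrot _ m b _ _ _ hnm.symm hr2' hr1' rfl (by rw [(hρ0 (b m)).1, if_neg hr2']), hρjj, hρij, hbPm,
        neg_smul, ← sub_eq_add_neg])
      (by rw [hcolrot _ m a _ _ _ hnm hr1' hr2' rfl (by rw [(hρ0 (a m)).2.2, if_neg hr1']),
        hinvrot ρ (om_le d hρ), hinvrot ρ (om_le d hρ), hρii, hρij, haQm, neg_smul, ← sub_eq_add_neg])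
      (by rw [hcolrot _ m b _ _ _ hnm.symm hr2' hr1' rfl (by rw [(hρ0 (b m)).2.2, if_neg hr2']),
        hinvrot ρ (om_le d hρ), hinvrot ρ (om_le d hρ), hρjj, hρji, hbPm])
      C.shape.two hCS
      (hcommy m ρ (C.omega m ρ hρ) (Or.inr ⟨hml, hm, fun u v huv => by
        by_cases hu : u = r'
        · have hv : v = r' := by
            by_contra hv
            obtain ⟨e1, -, e3⟩ := hρ0 v
            rw [if_neg (Ne.symm hv)] at e1 e3
            subst hu
            exact huv.elim (fun e => e e1) fun e => e e3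
          rw [hu, hv]
        · have hv : v ≠ r' := fun hv => by
            obtain ⟨-, e2, -⟩ := hρ0 u
            rw [if_neg hu] at e2
            subst hv
            exact huv.elim (fun e => e (by rw [hρr u, if_neg hu])) fun e => e e2
          exact iff_of_true (hpm' u hu) (hpm' v hv)⟩))
    have := e1.2
    rw [neg_eq_iff_eq_neg.1 e2.2, neg_neg] at this
    exact hβ (by
      have h0 : (2 : F) * β = 0 := by linear_combination this
      exact (mul_eq_zero.1 h0).resolve_left C.shape.two)

include hP hU hs hse in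
/-- Near elements keep the indices of the slot `l`. -/
theorem near_blk {g : GL (σ → Fin k) F} (hg : g ∈ nearGrp X M l U) : g ∈ Blk F k {l} := by
  classical
  obtain ⟨hinv, hcomm, hodd⟩ := near_inverted C hP hl hU hs hse hε hεl hanti
  have hconj : ∀ e ∈ ESub F k {l}, ∀ x ∈ nearGrp X M l U, e * x * e⁻¹ ∈ nearGrp X M l U := by
    intro e he x hx
    refine mem_nearGrp.2 ⟨mul_mem (mul_mem (C.ESub_le {l} he) hx.1) (inv_mem (C.ESub_le {l} he)),
      fun a b hab => hx.2 a b fun h => hab ?_⟩
    obtain ⟨f, hf, hf1, -⟩ := ESub_diag he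
    rw [ESub_inv he, Units.val_mul, Units.val_mul, hf, Matrix.mul_diagonal, Matrix.diagonal_mul, h]
    rcases eq_or_ne a b with rfl | hne
    · rw [Matrix.one_apply_eq, mul_one, hf1]
    · rw [Matrix.one_apply_ne hne, mul_zero, zero_mul]
  let α : ↥(ESub F k {l}) →* MulAut ↥(nearGrp X M l U) :=
    { toFun := fun e =>
        { toFun := fun x => ⟨e.1 * x.1 * e.1⁻¹, hconj _ e.2 _ x.2⟩
          invFun := fun x => ⟨e.1⁻¹ * x.1 * e.1⁻¹⁻¹, hconj _ (inv_mem e.2) _ x.2⟩
          left_inv := fun x => Subtype.ext (by simp [mul_assoc])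
          right_inv := fun x => Subtype.ext (by simp [mul_assoc])
          map_mul' := fun x x' => Subtype.ext (by simp [mul_assoc]) }
      map_one' := MulEquiv.ext fun x => Subtype.ext (by simp)
      map_mul' := fun e e' => MulEquiv.ext fun x => Subtype.ext (by simp [mul_assoc, MulAut.mul_apply]) }
  have hα : ∀ e x, ((α e x : ↥(nearGrp X M l U)) : GL (σ → Fin k) F) = e.1 * x.1 * e.1⁻¹ := fun e x => rfl
  have hE : ∀ e : ↥(ESub F k {l}), e * e = 1 := fun e => Subtype.ext (ESub_sq e.2)
  have hα2 : ∀ e x, α e (α e x) = x := fun e x => by rw [← MulAut.mul_apply, ← map_mul, hE, map_one]; rfl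
  obtain ⟨N, hN⟩ : ∃ N, N = fixBy α ⊤ := ⟨_, rfl⟩
  have hcen : N ≤ Subgroup.center ↥(nearGrp X M l U) := fun x _ =>
    Subgroup.mem_center_iff.2 fun h => Subtype.ext (hcomm _ h.2 _ x.2).eq
  have hone : ∀ x z : ↥(nearGrp X M l U), ∀ e, z ∈ N → α e x = x * z → α e x = x := fun x z e hz hxz => by
    refine eq_self_of_odd (Subtype.ext (hcomm _ x.2 _ z.2).eq) ?_ (α e) hxz ?_
    · have := hodd _ x.2
      rwa [Subgroup.orderOf_coe] at this
    · have h := hα2 e x
      rw [hxz, map_mul, hxz, (hN ▸ hz : z ∈ fixBy α ⊤) e (Subgroup.mem_top e), mul_assoc, mul_eq_left] at h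
      exact h
  by_cases htop : N = ⊤
  · refine mem_Blk_iff.2 fun l' hl' S hS => ?_
    rw [Finset.mem_singleton] at hl'
    have hfix := ((htop ▸ Subgroup.mem_top (⟨g, hg⟩ : ↥(nearGrp X M l U)) : (⟨g, hg⟩ : ↥(nearGrp X M l U)) ∈ N))
    rw [hN] at hfix
    have := congrArg Subtype.val (hfix ⟨_, sg_mem_ESub (Finset.mem_singleton_self l) hS⟩ (Subgroup.mem_top _))
    rw [hα] at this
    rw [hl']
    exact (mul_inv_eq_iff_eq_mul.1 this).symm
  exfalso
  obtain ⟨A, hA, x, hxN, -, hxA⟩ := exists_index_two α hE N hcen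
    (fun e x hx => by rw [hN] at hx ⊢; exact fixBy_inv α ⊤ e hx)
    (fun x hx => by
      rw [hN]
      intro e _
      obtain ⟨z, hz, hxz⟩ := hx e
      exact hone x z e hz hxz) htop
  have hxA' : ∀ a ∈ A, α a x = x := fun a ha => by
    obtain ⟨z, hz, hxz⟩ := hxA a ha
    exact hone x z a hz hxz
  obtain ⟨e, he⟩ : ∃ e, e ∉ A := by
    by_contra h
    push Not at h
    have hAtop : A = ⊤ := eq_top_iff.2 fun x _ => h x
    rw [hAtop, Subgroup.index_top] at hA
    omega
  obtain ⟨y, hy⟩ : ∃ y, y = x * (α e x)⁻¹ := ⟨_, rfl⟩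
  have hyA : ∀ a ∈ A, α a y = y := fun a ha => by
    rw [hy, map_mul, map_inv, hxA' a ha, ← MulAut.mul_apply, ← map_mul, mul_comm a e, map_mul, MulAut.mul_apply,
      hxA' a ha]
  have hye : α e y = y⁻¹ := by rw [hy, map_mul, map_inv, hα2, _root_.mul_inv_rev, inv_inv]
  have hyne : α e y ≠ y := by
    intro h
    have h2 : y * y = 1 := by nth_rewrite 2 [← h]; rw [hye, mul_inv_cancel]
    have h1 : orderOf y ∣ 2 := orderOf_dvd_of_pow_eq_one (by rw [pow_two, h2])
    have h3 : Odd (orderOf y) := by have := hodd _ y.2; rwa [Subgroup.orderOf_coe] at this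
    rcases (Nat.dvd_prime Nat.prime_two).1 h1 with h4 | h4
    · rw [orderOf_eq_one_iff, hy, mul_inv_eq_one] at h4
      refine hxN (hN ▸ fun a _ => ?_)
      by_cases ha : a ∈ A
      · exact hxA' a ha
      · have hae : a * e ∈ A := (Subgroup.mul_mem_iff_of_index_two hA).2 (iff_of_false ha he)
        have h5 := hxA' _ hae
        rw [map_mul, MulAut.mul_apply, ← h4] at h5
        exact h5
    · rw [h4] at h3; exact absurd h3 (by decide)
  have hcomA : ∀ a ∈ A, Commute y.1 a.1 := fun a ha => by
    have := congrArg Subtype.val (hyA a ha)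
    rw [hα] at this
    exact (mul_inv_eq_iff_eq_mul.1 this).symm
  have hynb : y.1 ∉ Blk F k {l} := fun h => hyne (Subtype.ext (by
    rw [hα]
    exact mul_inv_eq_iff_eq_mul.2 (mem_Blk_ESub.1 h e.1 e.2).symm.eq))
  obtain ⟨M₂, hM₂s, hM₂, hM₂e⟩ := C.shape.hyper hA hcomA hynb
  have hs2 : M₂.supp = {l} := by
    obtain ⟨j, hj⟩ := M₂.nonempty
    refine Finset.Subset.antisymm hM₂s fun i hi => ?_
    rw [Finset.mem_singleton] at hi
    have := hM₂s hj
    rw [Finset.mem_singleton] at this
    rw [hi, ← this]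
    exact hj
  have hle : l ∈ M₂.supp := by rw [hs2]; exact Finset.mem_singleton_self l
  obtain ⟨f, hf, hf1, hf2⟩ := ESub_diag e.2
  have hfanti : ∀ u, (u = M₂.p l ∨ u = M₂.q l) → ∀ a : σ → Fin k, a l = u →
      ∀ b : σ → Fin k, b l = Equiv.swap (M₂.p l) (M₂.q l) u → f b = -f a := by
    intro u hu a ha b hb
    have h := hM₂e e.1 e.2 (fun _ => he) a (fun j hj => by
      rw [hs2, Finset.mem_singleton] at hj; rw [hj, ha]; exact hu)
    rw [hf, Matrix.diagonal_apply_eq, Matrix.diagonal_apply_eq] at h
    rw [← h]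
    refine hf2 _ _ fun j hj => ?_
    rw [Finset.mem_singleton] at hj
    rw [hj, M₂.tw_mem a hle, ha, hb]
  have hyinv : ∀ a b, (Units.val (y.1⁻¹ : GL (σ → Fin _) F)) a b = f a * (Units.val y.1) a b * f b := by
    intro a b
    have := congrArg (fun z => (Units.val (Subtype.val z : GL (σ → Fin _) F)) a b) hye
    simp only [hα, Subgroup.coe_inv] at this
    rw [← this, ESub_inv e.2, Units.val_mul, Units.val_mul, hf, Matrix.mul_diagonal, Matrix.diagonal_mul]
  have hysinv : ∀ a b, (Units.val (y.1⁻¹ : GL (σ → Fin _) F)) a b = ε a * (Units.val y.1) a b * ε b := by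
    intro a b
    have hsi : s⁻¹ = s := inv_eq_of_mul_eq_one_left (Units.ext (by
      rw [Units.val_mul, hse, Matrix.diagonal_mul_diagonal, funext hε, Matrix.diagonal_one]; rfl))
    have := congrArg (fun z : GL (σ → Fin k) F => (Units.val z) a b) (hinv _ y.2)
    rw [← this, hsi, Units.val_mul, Units.val_mul, hse, Matrix.mul_diagonal, Matrix.diagonal_mul]
  have hf2ne : ∀ a, f a ≠ -f a := fun a h => C.shape.two (by
    have : (2 : F) * (f a * f a) = 0 := by linear_combination f a * h
    rwa [hf1, mul_one] at this)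
  have hentry : ∀ a b, (Units.val y.1) a b ≠ 0 → a = b ∨ (M.Paired a ∧ a l ∉ U ∧ b l ∉ U ∧
      (a l = M₂.p l ∨ a l = M₂.q l) ∧
        b = Function.update (M.tw a) l (Equiv.swap (M₂.p l) (M₂.q l) (a l))) := by
    intro a b hab
    by_cases hab' : a = b
    · exact Or.inl hab'
    obtain ⟨pa, -, ua, ub, hor⟩ := (mem_nearGrp.1 y.2).2 a b (by rwa [Matrix.one_apply_ne hab'])
    have hfe : ε a * ε b = f a * f b := by
      have := (hysinv a b).symm.trans (hyinv a b)
      exact mul_right_cancel₀ hab (by linear_combination this)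
    rcases hM₂ y.1 hcomA a b hab with h | ⟨h, h'⟩
    · -- same index in `l`
      exfalso
      have hal := h l (Finset.mem_singleton_self l)
      have hfab : f a = f b := hf2 a b fun j hj => by rw [Finset.mem_singleton] at hj; rw [hj, hal]
      rcases hor with h1 | h1
      · exact hab' (funext fun j => by
          rcases eq_or_ne j l with rfl | hj
          · exact hal
          · exact h1 j hj)
      · have e1 : ε b = -ε a := by
          rw [← hanti a pa, ← hεl b (M.tw a l)]
          congr 1
          funext j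
          rcases eq_or_ne j l with rfl | hj
          · rw [Function.update_self]
          · rw [Function.update_of_ne hj, h1 j hj]
        rw [e1, ← hfab, hf1, mul_neg, hε] at hfe
        exact C.shape.two (by linear_combination -hfe)
    · have hal := h l hle
      have hbl : b l = Equiv.swap (M₂.p l) (M₂.q l) (a l) := by
        rw [h' l (Finset.mem_singleton_self l), M₂.tw_mem a hle]
      rcases hor with h1 | h1
      · exfalso
        have e1 : ε b = ε a := by
          rw [← hεl b (a l)]
          congr 1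
          funext j
          rcases eq_or_ne j l with rfl | hj
          · rw [Function.update_self]
          · rw [Function.update_of_ne hj, h1 j hj]
        rw [e1, hε, hfanti _ hal a rfl b hbl, mul_neg, hf1] at hfe
        exact C.shape.two (by linear_combination hfe)
      · refine Or.inr ⟨pa, ua, ub, hal, funext fun j => ?_⟩
        rcases eq_or_ne j l with rfl | hj
        · rw [Function.update_self, hbl]
        · rw [Function.update_of_ne hj, h1 j hj]
  obtain ⟨a, b, hab, hne⟩ : ∃ a b, (Units.val y.1) a b ≠ 0 ∧ a ≠ b := by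
    by_contra hcon
    push Not at hcon
    refine hynb (C.shape.mem_Blk.2 fun a b hab j _ => ?_)
    rw [hcon a b hab]
  refine plane_false C hP hl hU hs hse hε hεl hanti (M₂.ne l hle)
    ⟨y.2, hysinv, ?_, hentry⟩ hab hne
  have := hodd _ y.2
  exact this

end Kill

end Cfsg.Agent.Classical.OTPow
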