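/-
Elements fixing a slice of the tensor space pointwise act on one slot.
-/
import Cfsg.Agent.Lib.Classical.OTPow.Invol
import Cfsg.Agent.Lib.Classical.OTPow.HyperKill
import Cfsg.Agent.Lib.Classical.OTPow.StdBlk
import Cfsg.Agent.Lib.Classical.TensorNine.Dihedral

set_option autoImplicit false
set_option linter.unusedSectionVars false

namespace Cfsg.Agent.Classical.OTPow

open Matrix
open scoped IsMulCommutative

variable {F : Type*} [Field F] [Fintype F] {k : ℕ} {σ : Type} [Fintype σ] [DecidableEq σ]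
  {d : Fin k → F} {X : Subgroup (GL (σ → Fin k) F)}

/-- The elements fixing the basis vectors with index `u` in slot `l`. -/
def fixGrp (X : Subgroup (GL (σ → Fin k) F)) (l : σ) (u : Fin k) : Subgroup (GL (σ → Fin k) F) where
  carrier := {g | g ∈ X ∧ ∀ b : σ → Fin k, b l = u →
    (g : Matrix (σ → Fin k) (σ → Fin k) F) *ᵥ Pi.single b 1 = Pi.single b 1}
  one_mem' := ⟨one_mem X, fun b _ => by rw [Units.val_one, Matrix.one_mulVec]⟩
  mul_mem' := fun ha hb => ⟨mul_mem ha.1 hb.1, fun b h => by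
    rw [Units.val_mul, ← Matrix.mulVec_mulVec, hb.2 b h, ha.2 b h]⟩
  inv_mem' := fun {g} hg => ⟨inv_mem hg.1, fun b h => by
    conv_lhs => rw [← hg.2 b h, Matrix.mulVec_mulVec, ← Units.val_mul, inv_mul_cancel, Units.val_one, Matrix.one_mulVec]⟩

theorem fixGrp_col {l : σ} {u : Fin k} {g : GL (σ → Fin k) F} (hg : g ∈ fixGrp X l u) {b : σ → Fin k} (hb : b l = u)
    (a : σ → Fin k) :
    (g : Matrix (σ → Fin k) (σ → Fin k) F) a b = (1 : Matrix (σ → Fin k) (σ → Fin k) F) a b := by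
  have := congrFun (hg.2 b hb) a
  rwa [Matrix.mulVec_single_one, Matrix.col_apply, Pi.single_apply, ← Matrix.one_apply] at this

theorem Ctx.fixGrp_row (C : Ctx d X) {l : σ} {u : Fin k} {g : GL (σ → Fin k) F} (hg : g ∈ fixGrp X l u)
    {a : σ → Fin k} (ha : a l = u) (b : σ → Fin k) :
    (g : Matrix (σ → Fin k) (σ → Fin k) F) a b = (1 : Matrix (σ → Fin k) (σ → Fin k) F) a b := by
  have h := iso_row (wt_ne_zero C.shape.ne) (C.iso (inv_mem hg.1)) a b
  rw [inv_inv, fixGrp_col (inv_mem hg) ha] at h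
  rcases eq_or_ne a b with rfl | hab
  · rw [Matrix.one_apply_eq, one_mul] at h
    rw [Matrix.one_apply_eq]
    exact mul_left_cancel₀ (wt_ne_zero C.shape.ne a) (by rw [mul_one]; exact h)
  · rw [Matrix.one_apply_ne (Ne.symm hab), zero_mul] at h
    rw [Matrix.one_apply_ne hab]
    exact (mul_eq_zero.1 h).resolve_left (wt_ne_zero C.shape.ne a)

/-- A slot has a group element with an entry off the diagonal. -/
theorem Shape.exists_offdiag (hd : Shape d) :
    ∃ h ∈ Om d, ∃ x y : Fin k, x ≠ y ∧ (h : Matrix (Fin k) (Fin k) F) x y ≠ 0 := by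
  have hk := hd.three
  obtain ⟨a, ha, -, -⟩ := hd.exists_main_avoid ⟨0, by omega⟩ ⟨0, by omega⟩
  obtain ⟨b, hb, hba, -⟩ := hd.exists_main_avoid a a
  obtain ⟨c, hc, hca, hcb⟩ := hd.exists_main_avoid a b
  obtain ⟨π, hπ⟩ : ∃ π : Equiv.Perm (Fin k), π = Equiv.swap a b * Equiv.swap b c := ⟨_, rfl⟩
  refine ⟨permMat F π, hπ ▸ hd.cycle_mem ha hb hc hba.symm hcb.symm hca.symm, a, π a, ?_, ?_⟩
  · rw [hπ, Equiv.Perm.mul_apply, Equiv.swap_apply_of_ne_of_ne hba.symm hca.symm, Equiv.swap_apply_left]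
    exact hba.symm
  · rw [permMat_apply, if_pos rfl]
    exact one_ne_zero

/-- A standard element fixing a slice pointwise acts on one slot. -/
theorem Ctx.fix_std (C : Ctx d X) {l : σ} {u : Fin k} {g : GL (σ → Fin k) F} (hg : g ∈ fixGrp X l u)
    (hs : g ∈ Std F k σ) : g ∈ Blk F k ({l}ᶜ : Finset σ) := by
  classical
  have hd := C.shape
  haveI : NeZero k := ⟨by have := hd.three; omega⟩
  obtain ⟨A, π, rfl⟩ := hs
  have hconj : ∀ i, i ≠ l → ∀ (h : GL (Fin k) F) (a b : σ → Fin k), b l = u →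
      facS (π i) ((A (π i) * h * (A (π i))⁻¹ : GL (Fin k) F) : Matrix (Fin k) (Fin k) F) a b =
        facS i (h : Matrix (Fin k) (Fin k) F) a b := by
    intro i hi h a b hb
    rw [← facG_val, ← std_facG, Units.val_mul, Units.val_mul, facG_val, Matrix.mul_assoc, Matrix.mul_apply,
      Finset.sum_eq_single a]
    · have hsum : ∀ c, (facS i (h : Matrix (Fin k) (Fin k) F) *
          (((pureG A * permG k F π)⁻¹ : GL (σ → Fin k) F) : Matrix (σ → Fin k) (σ → Fin k) F)) c b =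
          facS i (h : Matrix (Fin k) (Fin k) F) c b := fun c => by
        rw [Matrix.mul_apply, Finset.sum_eq_single b, fixGrp_col (inv_mem hg) hb, Matrix.one_apply_eq, mul_one]
        · intro x _ hx
          rw [fixGrp_col (inv_mem hg) hb, Matrix.one_apply_ne hx, mul_zero]
        · simp
      rw [hsum]
      by_cases h0 : facS i (h : Matrix (Fin k) (Fin k) F) a b = 0
      · rw [h0, mul_zero]
      · rw [fixGrp_col hg (b := a), Matrix.one_apply_eq, one_mul]
        rw [facS_apply] at h0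
        split_ifs at h0 with h'
        · rw [h' l hi.symm, hb]
        · exact absurd rfl h0
    · intro c _ hca
      have hsum : (facS i (h : Matrix (Fin k) (Fin k) F) *
          (((pureG A * permG k F π)⁻¹ : GL (σ → Fin k) F) : Matrix (σ → Fin k) (σ → Fin k) F)) c b =
          facS i (h : Matrix (Fin k) (Fin k) F) c b := by
        rw [Matrix.mul_apply, Finset.sum_eq_single b, fixGrp_col (inv_mem hg) hb, Matrix.one_apply_eq, mul_one]
        · intro x _ hx
          rw [fixGrp_col (inv_mem hg) hb, Matrix.one_apply_ne hx, mul_zero]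
        · simp
      rw [hsum]
      by_cases h0 : facS i (h : Matrix (Fin k) (Fin k) F) c b = 0
      · rw [h0, mul_zero]
      · rw [fixGrp_col hg (b := c), Matrix.one_apply_ne hca.symm, zero_mul]
        rw [facS_apply] at h0
        split_ifs at h0 with h'
        · rw [h' l hi.symm, hb]
        · exact absurd rfl h0
    · simp
  have hfix : ∀ i, i ≠ l → π i = i ∧ ∃ c : F, (A i : Matrix (Fin k) (Fin k) F) = c • 1 := by
    intro i hi
    have hπ : π i = i := by
      by_contra hne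
      obtain ⟨h, -, x, y, hxy, h0⟩ := hd.exists_offdiag (d := d)
      have e := hconj i hi h (Function.update (Function.update (fun _ : σ => u) i y) i x)
        (Function.update (fun _ : σ => u) i y) (by rw [Function.update_of_ne hi.symm])
      rw [facS_apply (π i), if_neg fun H => hxy (by simpa using H i (Ne.symm hne)), facS_apply i,
        if_pos fun j hj => by rw [Function.update_of_ne hj], Function.update_self, Function.update_self] at e
      exact h0 e.symm
    refine ⟨hπ, hd.scalar_of_commute fun h _ => ?_⟩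
    have e : A i * h * (A i)⁻¹ = h := Units.ext (Matrix.ext fun x y => by
      have := hconj i hi h (Function.update (Function.update (fun _ : σ => u) i y) i x)
        (Function.update (fun _ : σ => u) i y) (by rw [Function.update_of_ne hi.symm])
      rw [hπ, facS_apply i, if_pos fun j hj => by rw [Function.update_of_ne hj], facS_apply i,
        if_pos fun j hj => by rw [Function.update_of_ne hj], Function.update_self, Function.update_self] at this
      exact this)
    exact (congrArg Units.val (mul_inv_eq_iff_eq_mul.1 e)).symm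
  have hπ1 : π = 1 := Equiv.ext fun j => by
    rw [Equiv.Perm.one_apply]
    rcases eq_or_ne j l with rfl | hj
    · by_contra hne
      exact hne (π.injective (hfix _ hne).1)
    · exact (hfix j hj).1
  subst hπ1
  refine hd.mem_Blk.2 fun a b hab i hi => by_contra fun hne => hab ?_
  obtain ⟨c, hc⟩ := (hfix i (by simpa using hi)).2
  rw [map_one, mul_one, pureG_val, pureS_apply]
  exact Finset.prod_eq_zero (Finset.mem_univ i)
    (by rw [hc, Matrix.smul_apply, Matrix.one_apply_ne hne, smul_zero])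

/-- An element of the fixer keeping the other slots is a slot element. -/
theorem Ctx.fix_fac (C : Ctx d X) (hP : Pure1 X) {l : σ} {u : Fin k} {g : GL (σ → Fin k) F}
    (hg : g ∈ fixGrp X l u) (hb : g ∈ Blk F k ({l}ᶜ : Finset σ)) : ∃ h, g = facG l h := by
  classical
  have hd := C.shape
  haveI : NeZero k := ⟨by have := hd.three; omega⟩
  obtain ⟨a₀⟩ : Nonempty (σ → Fin k) := ⟨fun _ => 0⟩
  have hG := hd.mem_Blk.1 hb
  have hfib : ∀ a, fibM l (g : Matrix (σ → Fin k) (σ → Fin k) F) a = fibM l (g : Matrix (σ → Fin k) (σ → Fin k) F) a₀ := by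
    intro a
    obtain ⟨c, hc⟩ := hP l g hg.1 hG a a₀
    have e := congrFun (congrFun hc u) u
    rw [Matrix.smul_apply, fibM_apply, fibM_apply, fixGrp_col hg (Function.update_self l u a),
      fixGrp_col hg (Function.update_self l u a₀), Matrix.one_apply_eq, Matrix.one_apply_eq, smul_eq_mul, mul_one] at e
    rw [hc, ← e, one_smul]
  obtain ⟨M, hM⟩ : ∃ M, M = fibM l (g : Matrix (σ → Fin k) (σ → Fin k) F) a₀ := ⟨_, rfl⟩
  have hval : (g : Matrix (σ → Fin k) (σ → Fin k) F) = facS l M :=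
    fibM_ext hG (facS_blkM l M) fun a => by rw [hfib, fibM_facS, hM]
  have hu : IsUnit M := by
    refine IsUnit.of_mul_eq_one (fibM l ((g⁻¹ : GL (σ → Fin k) F) : Matrix (σ → Fin k) (σ → Fin k) F) a₀) ?_
    have := fibM_mul hG ((g⁻¹ : GL (σ → Fin k) F) : Matrix (σ → Fin k) (σ → Fin k) F) a₀
    rw [Units.mul_inv, hval, fibM_facS] at this
    rw [← this, ← facS_one l, fibM_facS]
  exact ⟨hu.unit, Units.ext (by rw [facG_val, hval, IsUnit.unit_spec])⟩

theorem fixGrp_sg {l : σ} {u : Fin k} {g e : GL (σ → Fin k) F} (hX : ESub F k ({l}ᶜ : Finset σ) ≤ X)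
    (hg : g ∈ fixGrp X l u) (he : e ∈ ESub F k ({l}ᶜ : Finset σ)) : e * g * e⁻¹ ∈ fixGrp X l u := by
  refine ⟨mul_mem (mul_mem (hX he) hg.1) (inv_mem (hX he)), fun b hb => ?_⟩
  obtain ⟨f, hf, hf1, -⟩ := ESub_diag he
  rw [ESub_inv he, Units.val_mul, Units.val_mul, hf, ← Matrix.mulVec_mulVec, ← Matrix.mulVec_mulVec,
    Matrix.diagonal_mulVec_single, mul_one, show Pi.single b (f b) = f b • (Pi.single b (1 : F) : (σ → Fin k) → F) by
      rw [← Pi.single_smul, smul_eq_mul, mul_one],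
    Matrix.mulVec_smul, hg.2 b hb, Matrix.mulVec_smul, Matrix.diagonal_mulVec_single, mul_one, ← Pi.single_smul,
    smul_eq_mul, hf1]

/-- Elements fixing a slice and a hyperplane of signs fix all signs of the other slots. -/
theorem Ctx.fix_two (C : Ctx d X) (hL : Light X) {l : σ} {u : Fin k}
    {A : Subgroup ↥(ESub F k ({l}ᶜ : Finset σ))} (hA : A.index = 2) {x : GL (σ → Fin k) F}
    (hx : x ∈ fixGrp X l u) (hxA : ∀ a ∈ A, Commute x a.1) : x ∈ Blk F k ({l}ᶜ : Finset σ) := by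
  classical
  have hd := C.shape
  have hP := hL.pure1 hd
  by_contra hne
  obtain ⟨M, hMs, hMn, hMe⟩ := hd.hyper hA hxA hne
  obtain ⟨s, hsA⟩ : ∃ e, e ∉ A := by
    by_contra h
    push Not at h
    have hAtop : A = ⊤ := eq_top_iff.2 fun x _ => h x
    rw [hAtop, Subgroup.index_top] at hA
    omega
  obtain ⟨ε, hse, hε, hεN⟩ := ESub_diag s.2
  have hεl : ∀ a v, ε (Function.update a l v) = ε a := fun a v =>
    hεN _ _ fun j hj => Function.update_of_ne (by simpa using hj) _ _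
  have hanti : ∀ a, M.Paired a → ε (M.tw a) = -ε a := fun a ha => by
    have := hMe s.1 s.2 (fun _ => hsA) a ha
    rwa [hse, Matrix.diagonal_apply_eq, Matrix.diagonal_apply_eq] at this
  have hl : l ∉ M.supp := fun h => by simpa using hMs h
  have hsx : s.1 ∈ X := C.ESub_le _ s.2
  have hsA' : ∀ a ∈ A, Commute s.1 a.1 := fun a _ => ESub_comm s.2 a.2
  obtain ⟨U, hUdef⟩ : ∃ U : Finset (Fin k), U = if 2 ≤ M.supp.card then ∅ else {u} := ⟨_, rfl⟩
  have hU : FixHyp M U := by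
    rw [hUdef]
    split_ifs with h
    · exact Or.inl ⟨rfl, h⟩
    · exact Or.inr ⟨u, rfl, by have := M.nonempty.card_pos; omega⟩
  obtain ⟨y, hy⟩ : ∃ y, y = x * s.1 * x⁻¹ * s.1 := ⟨_, rfl⟩
  have hyf : y ∈ fixGrp X l u := by
    have e : y = x * (s.1 * x⁻¹ * s.1⁻¹) := by rw [hy, ESub_inv s.2]; group
    rw [e]
    exact mul_mem hx (fixGrp_sg (C.ESub_le _) (inv_mem hx) s.2)
  have hyA : ∀ a ∈ A, Commute y a.1 := fun a ha => by
    rw [hy]
    exact (((hxA a ha).mul_left (hsA' a ha)).mul_left (hxA a ha).inv_left).mul_left (hsA' a ha)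
  have hxi : ∀ a ∈ A, Commute x⁻¹ a.1 := fun a ha => (hxA a ha).inv_left
  have hunp : ∀ a, ¬ M.Paired a → ∀ b,
      (y : Matrix (σ → Fin k) (σ → Fin k) F) a b = (1 : Matrix (σ → Fin k) (σ → Fin k) F) a b ∧
      (y : Matrix (σ → Fin k) (σ → Fin k) F) b a = (1 : Matrix (σ → Fin k) (σ → Fin k) F) b a := by
    intro a ha b
    have key : ∀ (g : GL (σ → Fin k) F), (∀ a ∈ A, Commute g a.1) → ∀ c,
        ((g : Matrix (σ → Fin k) (σ → Fin k) F) a c ≠ 0 → ε c = ε a) ∧
        ((g : Matrix (σ → Fin k) (σ → Fin k) F) c a ≠ 0 → ε c = ε a) := by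
      intro g hg c
      refine ⟨fun h0 => ?_, fun h0 => ?_⟩
      · rcases hMn g hg a c h0 with h | ⟨h, -⟩
        · exact (hεN _ _ h).symm
        · exact absurd h ha
      · rcases hMn g hg c a h0 with h | ⟨h, h'⟩
        · exact hεN _ _ h
        · refine absurd (fun j hj => ?_) ha
          rw [h' j (hMs hj)]
          exact M.paired_tw h j hj
    have hv : ∀ p q, (y : Matrix (σ → Fin k) (σ → Fin k) F) p q =
        ∑ c, (x : Matrix (σ → Fin k) (σ → Fin k) F) p c * ε c *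
          ((x⁻¹ : GL (σ → Fin k) F) : Matrix (σ → Fin k) (σ → Fin k) F) c q * ε q := by
      intro p q
      rw [hy, Units.val_mul, Units.val_mul, Units.val_mul, hse, Matrix.mul_diagonal, Matrix.mul_apply, Finset.sum_mul]
      simp only [Matrix.mul_diagonal]
    have hone : ∀ p q, ∑ c, (x : Matrix (σ → Fin k) (σ → Fin k) F) p c *
        ((x⁻¹ : GL (σ → Fin k) F) : Matrix (σ → Fin k) (σ → Fin k) F) c q =
        (1 : Matrix (σ → Fin k) (σ → Fin k) F) p q := fun p q => by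
      rw [← Matrix.mul_apply, Units.mul_inv]
    constructor
    · rw [hv, Finset.sum_congr rfl (fun c _ => show _ = (ε a * ε b) *
          ((x : Matrix (σ → Fin k) (σ → Fin k) F) a c *
            ((x⁻¹ : GL (σ → Fin k) F) : Matrix (σ → Fin k) (σ → Fin k) F) c b) by
        by_cases h0 : (x : Matrix (σ → Fin k) (σ → Fin k) F) a c = 0
        · rw [h0]; ring
        · rw [((key x hxA c).1 h0)]; ring), ← Finset.mul_sum, hone]
      rcases eq_or_ne a b with rfl | hab
      · rw [hε, one_mul]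
      · rw [Matrix.one_apply_ne hab, mul_zero]
    · rw [hv, Finset.sum_congr rfl (fun c _ => show _ = (ε a * ε a) *
          ((x : Matrix (σ → Fin k) (σ → Fin k) F) b c *
            ((x⁻¹ : GL (σ → Fin k) F) : Matrix (σ → Fin k) (σ → Fin k) F) c a) by
        by_cases h0 : ((x⁻¹ : GL (σ → Fin k) F) : Matrix (σ → Fin k) (σ → Fin k) F) c a = 0
        · rw [h0]; ring
        · rw [((key x⁻¹ hxi c).2 h0)]; ring), ← Finset.mul_sum, hone, hε, one_mul]
  have hnear : y ∈ nearGrp X M l U := by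
    refine mem_nearGrp.2 ⟨hyf.1, fun a b hab => ?_⟩
    have hpa : M.Paired a := by_contra fun h => hab (hunp a h b).1
    have hpb : M.Paired b := by_contra fun h => hab (hunp b h a).2
    have hua : a l ∉ U := fun h => by
      rw [hUdef] at h
      split_ifs at h
      · simp at h
      · exact hab (C.fixGrp_row hyf (Finset.mem_singleton.1 h) b)
    have hub : b l ∉ U := fun h => by
      rw [hUdef] at h
      split_ifs at h
      · simp at h
      · exact hab (fixGrp_col hyf (Finset.mem_singleton.1 h) a)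
    refine ⟨hpa, hpb, hua, hub, ?_⟩
    rcases eq_or_ne a b with rfl | hne'
    · exact Or.inl fun _ _ => rfl
    rw [Matrix.one_apply_ne hne'] at hab
    rcases hMn y hyA a b hab with h | ⟨-, h⟩
    · exact Or.inl fun m hm => h m (by simpa using hm)
    · exact Or.inr fun m hm => h m (by simpa using hm)
  have hyl := near_blk C hP hl hU hsx hse hε hεl hanti hnear
  have hyc := C.fix_std hyf (hL l ⟨hyf.1, hyl⟩)
  have hy1 : y = 1 := near_fix C hP hl hU hsx hse hε hεl hanti hnear (mem_Blk_ESub.1 hyc s.1 s.2)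
  have hxs : Commute x s.1 := by
    have e : x * s.1 * x⁻¹ = s.1⁻¹ := eq_inv_of_mul_eq_one_left (hy ▸ hy1)
    rw [ESub_inv s.2] at e
    exact mul_inv_eq_iff_eq_mul.1 e
  refine hne (mem_Blk_ESub.2 fun e he => ?_)
  by_cases hea : (⟨e, he⟩ : ↥(ESub F k ({l}ᶜ : Finset σ))) ∈ A
  · exact hxA _ hea
  · have hmem : (⟨e, he⟩ * s : ↥(ESub F k ({l}ᶜ : Finset σ))) ∈ A :=
      (Subgroup.mul_mem_iff_of_index_two hA).2 (iff_of_false hea hsA)
    have h := (hxA _ hmem).mul_right hxs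
    rwa [Subgroup.coe_mul, mul_assoc, ESub_sq s.2, mul_one] at h

/-- Elements fixing a slice act on one slot. -/
theorem Ctx.fix_blk (C : Ctx d X) (hL : Light X) {l : σ} {u : Fin k} {x : GL (σ → Fin k) F}
    (hx : x ∈ fixGrp X l u) : x ∈ Blk F k ({l}ᶜ : Finset σ) := by
  classical
  have hd := C.shape
  have hP := hL.pure1 hd
  haveI : NeZero k := ⟨by have := hd.three; omega⟩
  suffices ∀ A : Subgroup ↥(ESub F k ({l}ᶜ : Finset σ)), ∀ x ∈ fixGrp X l u, (∀ a ∈ A, Commute x a.1) →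
      x ∈ Blk F k ({l}ᶜ : Finset σ) from this ⊥ x hx fun a ha => by
    rw [Subgroup.mem_bot.1 ha]; exact Commute.one_right x
  intro A
  induction A using WellFoundedGT.induction with
  | _ A ih =>
    intro x hx hxA
    by_cases htop : A = ⊤
    · exact mem_Blk_ESub.2 fun e he => hxA ⟨e, he⟩ (htop ▸ Subgroup.mem_top _)
    by_cases h2 : A.index = 2
    · exact C.fix_two hL h2 hx hxA
    -- two generators in different cosets
    obtain ⟨e, ⟨i, hi, S, hS, rfl⟩, heA⟩ : ∃ e, (∃ i, i ≠ l ∧ ∃ S, Gen S ∧ e = facG i (sg S)) ∧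
        ∀ he, (⟨e, he⟩ : ↥(ESub F k ({l}ᶜ : Finset σ))) ∉ A := by
      by_contra hcon
      push Not at hcon
      refine htop (eq_top_iff.2 fun z hz' => ?_)
      clear hz'
      obtain ⟨z, hz⟩ := z
      induction hz using Subgroup.closure_induction with
      | mem z hz =>
        obtain ⟨i, hi, S, hS, rfl⟩ := hz
        obtain ⟨he, h⟩ := hcon _ ⟨i, by simpa using hi, S, hS, rfl⟩
        exact h
      | one => exact one_mem A
      | mul z w _ _ h h' => exact mul_mem h h'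
      | inv z _ h => exact inv_mem h
    obtain ⟨he⟩ : Nonempty (facG i (sg S) ∈ ESub F k ({l}ᶜ : Finset σ)) := ⟨sg_mem_ESub (by simpa using hi) hS⟩
    obtain ⟨e₁, he₁⟩ : ∃ e₁ : ↥(ESub F k ({l}ᶜ : Finset σ)), e₁ = ⟨facG i (sg S), he⟩ := ⟨_, rfl⟩
    have he₁A : e₁ ∉ A := he₁ ▸ heA he
    obtain ⟨e', ⟨i', hi', S', hS', rfl⟩, he'A⟩ : ∃ e, (∃ i, i ≠ l ∧ ∃ S, Gen S ∧ e = facG i (sg S)) ∧
        ∀ he, (⟨e, he⟩ : ↥(ESub F k ({l}ᶜ : Finset σ))) ∉ A ∧
          (e₁ * ⟨e, he⟩ : ↥(ESub F k ({l}ᶜ : Finset σ))) ∉ A := by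
      by_contra hcon
      push Not at hcon
      have hgen : ∀ z, z ∈ A ∨ e₁ * z ∈ A := by
        rintro ⟨z, hz⟩
        induction hz using Subgroup.closure_induction with
        | mem z hz =>
          obtain ⟨i, hi, S, hS, rfl⟩ := hz
          obtain ⟨he, h⟩ := hcon _ ⟨i, by simpa using hi, S, hS, rfl⟩
          exact or_iff_not_imp_left.2 h
        | one => exact Or.inl (one_mem A)
        | mul z w hz hw h h' =>
          have hsq : e₁ * e₁ = 1 := Subtype.ext (ESub_sq e₁.2)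
          rcases h with h | h <;> rcases h' with h' | h'
          · exact Or.inl (mul_mem h h')
          · exact Or.inr (by
              have := mul_mem h h'
              rwa [← mul_assoc, mul_comm _ e₁, mul_assoc] at this)
          · exact Or.inr (by
              have := mul_mem h h'
              rwa [mul_assoc] at this)
          · exact Or.inl (by
              have := mul_mem h h'
              rwa [mul_mul_mul_comm, hsq, one_mul] at this)
        | inv z hz h =>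
          rwa [show (⟨z⁻¹, inv_mem hz⟩ : ↥(ESub F k ({l}ᶜ : Finset σ))) = ⟨z, hz⟩ from Subtype.ext (ESub_inv hz)]
      refine h2 (Subgroup.index_eq_two_iff.2 ⟨e₁, fun z => ?_⟩)
      rcases hgen z with h | h
      · refine Or.inr ⟨h, fun h' => he₁A ?_⟩
        exact (Subgroup.mul_mem_cancel_left A h).1 h'
      · rw [mul_comm]
        refine Or.inl ⟨h, fun h' => he₁A ?_⟩
        exact (Subgroup.mul_mem_cancel_right A h').1 h
    obtain ⟨he'⟩ : Nonempty (facG i' (sg S') ∈ ESub F k ({l}ᶜ : Finset σ)) := ⟨sg_mem_ESub (by simpa using hi') hS'⟩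
    obtain ⟨e₂, he₂⟩ : ∃ e₂ : ↥(ESub F k ({l}ᶜ : Finset σ)), e₂ = ⟨facG i' (sg S'), he'⟩ := ⟨_, rfl⟩
    obtain ⟨he₂A, he₁₂⟩ : e₂ ∉ A ∧ e₁ * e₂ ∉ A := he₂ ▸ he'A he'
    -- the elements fixing the slice and commuting with `A`
    obtain ⟨K, hKdef⟩ : ∃ K, K = fixGrp X l u ⊓ Subgroup.centralizer (Subtype.val '' (A : Set ↥(ESub F k ({l}ᶜ : Finset σ)))) :=
      ⟨_, rfl⟩
    have hK : ∀ g, g ∈ K ↔ g ∈ fixGrp X l u ∧ ∀ a ∈ A, Commute g a.1 := fun g => by
      rw [hKdef, Subgroup.mem_inf, Subgroup.mem_centralizer_iff]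
      refine and_congr Iff.rfl ⟨fun H a ha => (H a.1 ⟨a, ha, rfl⟩).symm, ?_⟩
      rintro H _ ⟨a, ha, rfl⟩
      exact (H a ha).symm
    have hKE : ∀ g ∈ K, ∀ z ∈ ESub F k ({l}ᶜ : Finset σ), z * g * z⁻¹ ∈ K := fun g hg z hz => by
      rw [hK] at hg ⊢
      refine ⟨fixGrp_sg (C.ESub_le _) hg.1 hz, fun a ha => ?_⟩
      exact ((ESub_comm hz a.2).mul_left (hg.2 a ha)).mul_left (ESub_comm hz a.2).inv_left
    -- commuting with a further sign suffices
    have hup : ∀ g ∈ K, ∀ z : ↥(ESub F k ({l}ᶜ : Finset σ)), z ∉ A → Commute g z.1 →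
        ∃ h : GL (Fin k) F, g = facG l h ∧ ∀ w ∈ ESub F k ({l}ᶜ : Finset σ), Commute g w := by
      intro g hg z hz hc
      rw [hK] at hg
      have hb := ih (A ⊔ Subgroup.zpowers z) (lt_of_le_of_ne le_sup_left fun h => hz (h ▸
        Subgroup.mem_sup_right (Subgroup.mem_zpowers z))) g hg.1 fun a ha => by
          obtain ⟨b, hb, c, hc', rfl⟩ := Subgroup.mem_sup.1 ha
          obtain ⟨n, rfl⟩ := Subgroup.mem_zpowers_iff.1 hc'
          rw [Subgroup.coe_mul, SubgroupClass.coe_zpow]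
          exact (hg.2 b hb).mul_right (hc.zpow_right n)
      obtain ⟨h, hh⟩ := C.fix_fac hP hg.1 hb
      exact ⟨h, hh, fun w hw => mem_Blk_ESub.1 hb w hw⟩
    -- the products with signs
    obtain ⟨G, hG⟩ : ∃ G : Subgroup (GL (σ → Fin k) F), ∀ g,
        g ∈ G ↔ ∃ p ∈ K, ∃ z ∈ ESub F k ({l}ᶜ : Finset σ), g = p * z := by
      refine ⟨{ carrier := {g | ∃ p ∈ K, ∃ z ∈ ESub F k ({l}ᶜ : Finset σ), g = p * z}
                one_mem' := ⟨1, one_mem _, 1, one_mem _, (one_mul 1).symm⟩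
                mul_mem' := ?_, inv_mem' := ?_ }, fun g => Iff.rfl⟩
      · rintro _ _ ⟨p, hp, z, hz, rfl⟩ ⟨p', hp', z', hz', rfl⟩
        exact ⟨p * (z * p' * z⁻¹), mul_mem hp (hKE _ hp' _ hz), z * z', mul_mem hz hz', by group⟩
      · rintro _ ⟨p, hp, z, hz, rfl⟩
        exact ⟨z⁻¹ * p⁻¹ * z⁻¹⁻¹, hKE _ (inv_mem hp) _ (inv_mem hz), z⁻¹, inv_mem hz, by group⟩
    have hxK : x ∈ K := (hK x).2 ⟨hx, hxA⟩
    obtain ⟨t, ht⟩ : ∃ t, t = x * e₂.1 * x⁻¹ := ⟨_, rfl⟩
    obtain ⟨κ₂, hκ₂, htκ⟩ : ∃ p ∈ K, t = p * e₂.1 := by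
      refine ⟨x * (e₂.1 * x⁻¹ * e₂.1⁻¹), mul_mem hxK (hKE _ (inv_mem hxK) _ e₂.2), ?_⟩
      rw [ht]; group
    have hcl : Subgroup.closure ({e₁.1, t} : Set (GL (σ → Fin k) F)) ≤ G := (Subgroup.closure_le G).2 (by
      intro g hg
      rcases hg with rfl | rfl
      · exact (hG _).2 ⟨1, one_mem _, e₁.1, e₁.2, (one_mul _).symm⟩
      · exact (hG _).2 ⟨κ₂, hκ₂, e₂.1, e₂.2, htκ⟩)
    have hconj : ∀ g ∈ G, ∀ z ∈ ESub F k ({l}ᶜ : Finset σ), ∃ p ∈ K, g * z * g⁻¹ = p * z := by
      intro g hg z hz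
      obtain ⟨p, hp, z', hz', rfl⟩ := (hG g).1 hg
      refine ⟨p * (z * p⁻¹ * z⁻¹), mul_mem hp (hKE _ (inv_mem hp) _ hz), ?_⟩
      calc p * z' * z * (p * z')⁻¹ = p * (z' * z * z'⁻¹) * p⁻¹ := by group
        _ = p * z * p⁻¹ := by rw [(ESub_comm hz' hz).eq, mul_inv_cancel_right]
        _ = _ := by group
    -- a sign fixing the slice is trivial
    have hint : ∀ p ∈ K, ∀ z ∈ ESub F k ({l}ᶜ : Finset σ), p = z → z = 1 := by
      intro p hp z hz e
      obtain ⟨f, hf, hf1, hfN⟩ := ESub_diag hz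
      have hp' := ((hK p).1 hp).1
      refine Units.ext ?_
      rw [hf, Units.val_one, ← Matrix.diagonal_one]
      refine congrArg _ (funext fun a => ?_)
      rw [← hfN (Function.update a l u) a fun j hj => Function.update_of_ne (by simpa using hj) _ _]
      have := fixGrp_col hp' (Function.update_self l u a) (Function.update a l u)
      rwa [e, hf, Matrix.diagonal_apply_eq, Matrix.one_apply_eq] at this
    have hsq₂ : e₂.1 * e₂.1 = 1 := ESub_sq e₂.2
    have ht2 : t * t = 1 := by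
      rw [ht, show x * e₂.1 * x⁻¹ * (x * e₂.1 * x⁻¹) = x * (e₂.1 * e₂.1) * x⁻¹ by group, hsq₂, mul_one,
        mul_inv_cancel]
    obtain ⟨j, hj, hj2, hj1, hjs, hjt, hcase⟩ :=
      TensorNine.dihedral_pair (ESub_sq e₁.2) ht2 fun g hg e => he₁₂ (by
        obtain ⟨p, hp, hpe⟩ := hconj g (hcl hg) e₁.1 e₁.2
        rw [e, htκ] at hpe
        have e' : κ₂⁻¹ * p = e₂.1 * e₁.1⁻¹ := by
          calc κ₂⁻¹ * p = κ₂⁻¹ * (p * e₁.1) * e₁.1⁻¹ := by group
            _ = _ := by rw [← hpe]; group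
        have h0 := hint _ (mul_mem (inv_mem hκ₂) hp) _ (mul_mem e₂.2 (inv_mem e₁.2)) e'
        have h1 : e₂ = e₁ := Subtype.ext (mul_inv_eq_one.1 h0)
        rw [h1, show e₁ * e₁ = 1 from Subtype.ext (ESub_sq e₁.2)]
        exact one_mem A)
    rcases hcase with ⟨⟨g, hg, hge⟩, -⟩ | ⟨g, hg, hge⟩
    · exfalso
      obtain ⟨p, hp, hpe⟩ := hconj g (hcl hg) e₁.1 e₁.2
      have hjp : j = p := by
        have : j * e₁.1 = p * e₁.1 := by rw [hjs.eq, ← hge, hpe]
        exact mul_right_cancel this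
      obtain ⟨h, hh, -⟩ := hup j (hjp ▸ hp) e₁ he₁A hjs
      rw [← hjs.eq, hh, he₁] at hge
      have : h = 1 := twist_one hd hi hS.trace (facG_inj l (by rw [map_mul, ← hh, map_one, hj2])) hge
      exact hj1 (by rw [hh, this, map_one])
    · -- the third involution is the product of the two signs
      obtain ⟨p, hp, hpe⟩ := hconj g⁻¹ (inv_mem (hcl hg)) e₂.1 e₂.2
      have hsj : e₁.1 * j = (g⁻¹ * κ₂ * g⁻¹⁻¹) * p * e₂.1 := by
        calc e₁.1 * j = g⁻¹ * t * g⁻¹⁻¹ := by rw [← hge]; group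
          _ = (g⁻¹ * κ₂ * g⁻¹⁻¹) * (g⁻¹ * e₂.1 * g⁻¹⁻¹) := by rw [htκ]; group
          _ = _ := by rw [hpe, ← mul_assoc]
      have hgK : g⁻¹ * κ₂ * g⁻¹⁻¹ ∈ K := by
        obtain ⟨p', hp', z, hz, hgz⟩ := (hG _).1 (inv_mem (hcl hg))
        rw [hgz, show p' * z * κ₂ * (p' * z)⁻¹ = p' * (z * κ₂ * z⁻¹) * p'⁻¹ by group]
        exact mul_mem (mul_mem hp' (hKE _ hκ₂ _ hz)) (inv_mem hp')
      obtain ⟨κ, hκ, hjκ⟩ : ∃ κ ∈ K, j = κ * (e₁.1 * e₂.1) := by
        refine ⟨e₁.1 * ((g⁻¹ * κ₂ * g⁻¹⁻¹) * p) * e₁.1⁻¹, hKE _ (mul_mem hgK hp) _ e₁.2, ?_⟩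
        calc j = e₁.1⁻¹ * (e₁.1 * j) := by group
          _ = e₁.1⁻¹ * ((g⁻¹ * κ₂ * g⁻¹⁻¹) * p * e₂.1) := by rw [hsj]
          _ = _ := by rw [ESub_inv e₁.2]; simp only [mul_assoc, ← mul_assoc e₁.1 e₁.1, ESub_sq e₁.2, one_mul]
      have hκe : Commute κ e₁.1 := by
        have : κ = j * (e₁.1 * e₂.1)⁻¹ := by rw [hjκ, mul_inv_cancel_right]
        rw [this]
        exact hjs.mul_left (((Commute.refl e₁.1).mul_left (ESub_comm e₂.2 e₁.2)).inv_left)
      obtain ⟨h, hh, hhc⟩ := hup κ hκ e₁ he₁A hκe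
      have hee : (e₁.1 * e₂.1) * (e₁.1 * e₂.1) = 1 := ESub_sq (mul_mem e₁.2 e₂.2)
      have hκ2 : κ * κ = 1 := by
        have hc := hhc _ (mul_mem e₁.2 e₂.2)
        have h0 := hj2
        rw [hjκ, hc.symm.mul_mul_mul_comm κ (e₁.1 * e₂.1), hee, mul_one] at h0
        exact h0
      have hh1 : h = 1 := by
        refine twist_one hd hi' hS'.trace (facG_inj l (by rw [map_mul, ← hh, map_one, hκ2]))
          (g := (x⁻¹ * g)⁻¹) ?_
        have e : e₁.1 * j = κ * e₂.1 := by
          rw [hjκ, ← mul_assoc, ← hκe.eq, mul_assoc, ← mul_assoc e₁.1, ESub_sq e₁.2, one_mul]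
        rw [← hh, show facG i' (sg S') = e₂.1 by rw [he₂], ← e]
        calc (x⁻¹ * g)⁻¹ * e₂.1 * (x⁻¹ * g)⁻¹⁻¹ = g⁻¹ * (x * e₂.1 * x⁻¹) * g := by group
          _ = g⁻¹ * (g * (e₁.1 * j) * g⁻¹) * g := by rw [hge, ht]
          _ = _ := by group
      have hje : j = e₁.1 * e₂.1 := by rw [hjκ, hh, hh1, map_one, one_mul]
      have hκ₂c : Commute κ₂ (e₁.1 * e₂.1) := by
        have : κ₂ = t * e₂.1⁻¹ := by rw [htκ, mul_inv_cancel_right]
        rw [this, ← hje]
        exact hjt.symm.mul_left (by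
          rw [hje]; exact ((ESub_comm e₂.2 (mul_mem e₁.2 e₂.2))).inv_left)
      obtain ⟨h', hh', hh'c⟩ := hup κ₂ hκ₂ (e₁ * e₂) he₁₂ hκ₂c
      have h'2 : κ₂ * κ₂ = 1 := by
        have h0 := ht2
        rw [htκ, (hh'c _ e₂.2).symm.mul_mul_mul_comm κ₂ e₂.1, hsq₂, mul_one] at h0
        exact h0
      have h'1 : h' = 1 := by
        refine twist_one hd hi' hS'.trace (facG_inj l (by rw [map_mul, ← hh', map_one, h'2])) (g := x) ?_
        rw [← hh', show facG i' (sg S') = e₂.1 by rw [he₂], ← htκ, ht]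
      have hxe : Commute x e₂.1 := by
        have e : x * e₂.1 * x⁻¹ = e₂.1 := by rw [← ht, htκ, hh', h'1, map_one, one_mul]
        exact mul_inv_eq_iff_eq_mul.1 e
      obtain ⟨-, -, hc⟩ := hup x hxK e₂ he₂A hxe
      exact mem_Blk_ESub.2 fun w hw => hc w hw

/-- Elements fixing a slice pointwise lie in the slot group. -/
theorem Ctx.fix_slot (C : Ctx d X) (hL : Light X) {l : σ} {u : Fin k} {x : GL (σ → Fin k) F}
    (hx : x ∈ fixGrp X l u) : ∃ h, x = facG l h :=
  C.fix_fac (hL.pure1 C.shape) hx (C.fix_blk hL hx)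

end Cfsg.Agent.Classical.OTPow
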