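/-
An element centralising the signs of some slots that is scalar in one block is diagonal.
-/
import Cfsg.Agent.Lib.Classical.OTPow.StdBlk
import Cfsg.Agent.Lib.Classical.OTPow.HyperKill

set_option autoImplicit false
set_option linter.unusedSectionVars false

namespace Cfsg.Agent.Classical.OTPow

open Matrix
open scoped IsMulCommutative

variable {F : Type*} [Field F] [Fintype F] {k : ℕ} {σ : Type} [Fintype σ] [DecidableEq σ]
  {d : Fin k → F} {X : Subgroup (GL (σ → Fin k) F)}

/-- The signs of a diagonal element of the group. -/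
theorem Ctx.diag_values (C : Ctx d X) {g : GL (σ → Fin k) F} (hg : g ∈ X) {f : (σ → Fin k) → F}
    (hf : (g : Matrix (σ → Fin k) (σ → Fin k) F) = Matrix.diagonal f) :
    ∃ h : ∀ a, f a * f a = 1, g = diagG f h := by
  refine ⟨fun a => ?_, Units.ext hf⟩
  have h := congrFun (congrFun (mem_isoD.1 (C.iso hg)) a) a
  rw [hf, Matrix.diagonal_transpose, Matrix.diagonal_mul_diagonal, Matrix.diagonal_mul_diagonal,
    Matrix.diagonal_apply_eq, Matrix.diagonal_apply_eq] at h
  exact mul_right_cancel₀ (wt_ne_zero C.shape.ne a) (by linear_combination h)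

/-- Diagonal elements of the group are proportional along every slot. -/
theorem Ctx.diag_step (C : Ctx d X) (hP : Pure1 X) {g : GL (σ → Fin k) F} (hg : g ∈ X) {f : (σ → Fin k) → F}
    (hf : (g : Matrix (σ → Fin k) (σ → Fin k) F) = Matrix.diagonal f) (l : σ) (a a' : σ → Fin k) :
    ∃ c : F, ∀ u, f (Function.update a l u) = c * f (Function.update a' l u) := by
  obtain ⟨h1, rfl⟩ := C.diag_values hg hf
  exact hP.sign_step C.shape h1 (fun h hh =>
    mul_mem (mul_mem (mul_mem hg (C.omega l h hh)) (inv_mem hg)) (inv_mem (C.omega l h hh))) a a'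

theorem Ctx.mem_diag (C : Ctx d X) {g : GL (σ → Fin k) F} (h : g ∈ Blk F k (Finset.univ : Finset σ)) :
    (g : Matrix (σ → Fin k) (σ → Fin k) F) = Matrix.diagonal fun a => (g : Matrix _ _ F) a a := by
  ext a b
  rcases eq_or_ne a b with rfl | hab
  · rw [Matrix.diagonal_apply_eq]
  · rw [Matrix.diagonal_apply_ne _ hab]
    exact by_contra fun hne => hab (funext fun l => C.shape.mem_Blk.1 h a b hne l (Finset.mem_univ l))

theorem ESub_le_Blk {J N : Finset σ} : (ESub F k N : Subgroup (GL (σ → Fin k) F)) ≤ Blk F k J :=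
  (Subgroup.closure_le _).2 fun _ ⟨m, _, S, _, he⟩ => he ▸ facG_sg_mem_Blk J m S

/-- The elements scalar in one block. -/
def scalGrp [hF : Fact (3 ≤ k ∧ (2 : F) ≠ 0)] (X : Subgroup (GL (σ → Fin k) F)) (J : Finset σ) (a : σ → Fin k) :
    Subgroup ↥(Blk F k J) where
  carrier := {g | g.1 ∈ X ∧ Scal (blk J a g)}
  one_mem' := ⟨one_mem X, by rw [map_one]; exact scal_one⟩
  mul_mem' := by
    rintro g h ⟨hg, c, hc⟩ ⟨hh, e, he⟩
    exact ⟨mul_mem hg hh, c * e, by rw [map_mul, Units.val_mul, hc, he, smul_mul_smul_comm, Matrix.one_mul]⟩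
  inv_mem' := by
    rintro g ⟨hg, c, hc⟩
    refine ⟨inv_mem hg, c⁻¹, ?_⟩
    rw [map_inv]
    have h1 : ((blk J a g)⁻¹ : GL (Off J → Fin k) F).val * (blk J a g).val = 1 := by
      rw [← Units.val_mul, inv_mul_cancel, Units.val_one]
    rw [hc, Matrix.mul_smul, Matrix.mul_one] at h1
    haveI : Nonempty (Off J → Fin k) := ⟨fun _ => ⟨0, by have := hF.out.1; omega⟩⟩
    have hc0 : c ≠ 0 := fun h0 => by rw [h0, zero_smul] at h1; exact zero_ne_one h1
    rw [← h1, smul_smul, inv_mul_cancel₀ hc0, one_smul]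

/-- A diagonal element scalar in one block is constant in every block. -/
theorem Ctx.diag_block (C : Ctx d X) (hP : Pure1 X) [hF : Fact (3 ≤ k ∧ (2 : F) ≠ 0)] {J : Finset σ}
    {g : ↥(Blk F k J)} (hg : g.1 ∈ X) {f : (σ → Fin k) → F}
    (hf : (g.1 : Matrix (σ → Fin k) (σ → Fin k) F) = Matrix.diagonal f) {a₀ : σ → Fin k} (hs : Scal (blk J a₀ g)) :
    ∀ a b, (∀ l ∈ J, a l = b l) → f a = f b := by
  obtain ⟨c, hc⟩ := hs
  have hb0 : ∀ x : Off J → Fin k, f (glue J a₀ x) = c := fun x => by
    have := congrFun (congrFun hc x) x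
    rwa [blk_val, blkM, Matrix.submatrix_apply, hf, Matrix.diagonal_apply_eq, Matrix.smul_apply, Matrix.one_apply_eq,
      smul_eq_mul, mul_one] at this
  intro a b hab
  refine eq_of_steps (J := Jᶜ) (f := f) (fun x l hl u => ?_) fun l hl => hab l (by simpa using hl)
  rw [Finset.mem_compl] at hl
  obtain ⟨e, he⟩ := C.diag_step hP hg hf l x (glue J a₀ fun j => x j)
  have hg' : ∀ v, Function.update (glue J a₀ fun j => x j) l v =
      glue J a₀ (Function.update (fun j : Off J => x j) ⟨l, hl⟩ v) := fun v => funext fun j => by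
    by_cases hj : j ∈ J
    · rw [Function.update_of_ne (ne_of_mem_of_not_mem hj hl), glue_mem _ _ hj, glue_mem _ _ hj]
    · rw [glue, dif_neg hj]
      rcases eq_or_ne j l with rfl | hne
      · rw [Function.update_self, Function.update_self]
      · rw [Function.update_of_ne hne, Function.update_of_ne (fun h => hne (congrArg Subtype.val h)), glue, dif_neg hj]
  have h1 := he (x l)
  rw [Function.update_eq_self, hg', hb0] at h1
  rw [he u, hg', hb0, h1]

/-- An element scalar in one block is diagonal. -/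
theorem Ctx.scalar_block (C : Ctx d X) (hP : Pure1 X) [hF : Fact (3 ≤ k ∧ (2 : F) ≠ 0)] {J : Finset σ}
    (hJ : J.Nonempty) {g : ↥(Blk F k J)} (hg : g.1 ∈ X) {a₀ : σ → Fin k} (hs : Scal (blk J a₀ g)) :
    g.1 ∈ Blk F k (Finset.univ : Finset σ) := by
  classical
  have hd := C.shape
  haveI : NeZero k := ⟨by have := hd.three; omega⟩
  obtain ⟨N, hNd⟩ : ∃ N, N = ((Blk F k (Finset.univ : Finset σ)).comap (Blk F k J).subtype).subgroupOf
      (scalGrp X J a₀) := ⟨_, rfl⟩
  have hN : ∀ x : ↥(scalGrp X J a₀), x ∈ N ↔ x.1.1 ∈ Blk F k (Finset.univ : Finset σ) := fun x => by rw [hNd]; rfl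
  suffices N = ⊤ by
    have h := (hN ⟨g, hg, hs⟩).1 (this ▸ Subgroup.mem_top _)
    exact h
  by_contra hne
  -- the operators
  have hconj : ∀ e ∈ ESub F k Jᶜ, ∀ (he : e ∈ Blk F k J), ∀ x ∈ scalGrp X J a₀,
      (⟨e, he⟩ : ↥(Blk F k J)) * x * ⟨e, he⟩⁻¹ ∈ scalGrp X J a₀ := by
    intro e he1 he x hx
    refine ⟨mul_mem (mul_mem (C.ESub_le _ he1) hx.1) (inv_mem (C.ESub_le _ he1)), ?_⟩
    obtain ⟨c, hc⟩ := hx.2
    refine ⟨c, ?_⟩
    rw [map_mul, map_mul, map_inv, Units.val_mul, Units.val_mul, hc, Matrix.mul_smul, Matrix.mul_one,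
      Matrix.smul_mul, Units.mul_inv]
  let α : ↥(ESub F k Jᶜ) →* MulAut ↥(scalGrp X J a₀) :=
    { toFun := fun e =>
        { toFun := fun x => ⟨(⟨e.1, ESub_le_Blk e.2⟩ : ↥(Blk F k J)) * x.1 * ⟨e.1, ESub_le_Blk e.2⟩⁻¹,
            hconj _ e.2 _ _ x.2⟩
          invFun := fun x => ⟨(⟨e.1⁻¹, ESub_le_Blk (inv_mem e.2)⟩ : ↥(Blk F k J)) * x.1 * ⟨e.1⁻¹, ESub_le_Blk (inv_mem e.2)⟩⁻¹,
            hconj _ (inv_mem e.2) _ _ x.2⟩
          left_inv := fun x => Subtype.ext (Subtype.ext (by simp [mul_assoc]))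
          right_inv := fun x => Subtype.ext (Subtype.ext (by simp [mul_assoc]))
          map_mul' := fun x x' => Subtype.ext (Subtype.ext (by simp [mul_assoc])) }
      map_one' := MulEquiv.ext fun x => Subtype.ext (Subtype.ext (by simp))
      map_mul' := fun e e' => MulEquiv.ext fun x => Subtype.ext (Subtype.ext (by simp [mul_assoc, MulAut.mul_apply])) }
  have hα : ∀ e x, ((α e x).1.1 : GL (σ → Fin k) F) = e.1 * x.1.1 * e.1⁻¹ := fun e x => rfl
  have hz2 : ∀ z ∈ N, z * z = 1 := fun z hz => by
    obtain ⟨h1, -⟩ := C.diag_values z.2.1 (C.mem_diag ((hN z).1 hz))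
    refine Subtype.ext (Subtype.ext (Units.ext ?_))
    show (z.1.1 : Matrix (σ → Fin k) (σ → Fin k) F) * (z.1.1 : Matrix (σ → Fin k) (σ → Fin k) F) = 1
    rw [C.mem_diag ((hN z).1 hz), Matrix.diagonal_mul_diagonal, funext h1, Matrix.diagonal_one]
  have hcen : N ≤ Subgroup.center ↥(scalGrp X J a₀) := by
    intro z hz
    have hf := C.mem_diag ((hN z).1 hz)
    have hblock := C.diag_block hP z.2.1 hf z.2.2
    refine Subgroup.mem_center_iff.2 fun x => Subtype.ext (Subtype.ext (Units.ext ?_))
    show (x.1.1 : Matrix (σ → Fin k) (σ → Fin k) F) * (z.1.1 : Matrix (σ → Fin k) (σ → Fin k) F) = (z.1.1 : Matrix (σ → Fin k) (σ → Fin k) F) * (x.1.1 : Matrix (σ → Fin k) (σ → Fin k) F)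
    rw [hf]
    exact ((commute_diagonal_iff _ _).2 fun a b hab => hblock a b fun l hl => hd.mem_Blk.1 x.1.2 a b hab l hl).eq
  obtain ⟨A, hA, x, hxN, hxo, hxA⟩ := exists_index_two α (fun e => Subtype.ext (ESub_sq e.2)) N hcen
    (fun e z hz => by
      rw [hN] at hz ⊢
      rw [hα]
      exact mul_mem (mul_mem (ESub_le_Blk e.2) hz) (inv_mem (ESub_le_Blk e.2)))
    (fun x hx => by
      -- moved only by central signs means fixed
      rw [hN, mem_Blk_iff]
      intro m _ S hS
      by_cases hm : m ∈ J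
      · exact mem_Blk_iff.1 x.1.2 m hm S hS
      obtain ⟨z, hz, he⟩ := hx ⟨facG m (sg S), sg_mem_ESub (Finset.mem_compl.2 hm) hS⟩
      have hf := C.mem_diag ((hN z).1 hz)
      have hblock := C.diag_block hP z.2.1 hf z.2.2
      have e' : facG m (sg S) * x.1.1 * (facG m (sg S))⁻¹ = x.1.1 * z.1.1 := by
        have := congrArg (fun t : ↥(scalGrp X J a₀) => (t.1.1 : GL (σ → Fin k) F)) he
        rwa [hα] at this
      -- in every block the sign is conjugate to a multiple of itself
      have hone : ∀ a, blk J a z.1 = 1 := by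
        intro a
        obtain ⟨c, hc, hc2⟩ : ∃ c : F, (blk J a z.1 : Matrix (Off J → Fin k) (Off J → Fin k) F) = c • 1 ∧ c * c = 1 := by
          refine ⟨(z.1.1 : Matrix (σ → Fin k) (σ → Fin k) F) a a, ?_, ?_⟩
          · rw [blk_val, blkM, hf, Matrix.submatrix_diagonal _ _ (glue_inj J a), Matrix.smul_one_eq_diagonal,
              Matrix.diagonal_apply_eq]
            exact congrArg _ (funext fun c => hblock _ _ fun l hl => glue_mem a c hl)
          · exact (C.diag_values z.2.1 hf).1 a
        have h2 : (⟨facG m (sg S), facG_sg_mem_Blk J m S⟩ : ↥(Blk F k J)) * x.1 * ⟨facG m (sg S), facG_sg_mem_Blk J m S⟩⁻¹ =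
            x.1 * z.1 := Subtype.ext e'
        have h3 := congrArg (blk J a) (mul_inv_eq_iff_eq_mul.1 h2)
        rw [map_mul, map_mul, map_mul,
          show blk J a ⟨facG m (sg S), facG_sg_mem_Blk J m S⟩ = facG (⟨m, hm⟩ : Off J) (sg S) from
            blk_facG ⟨m, hm⟩ (sg S) a] at h3
        have h4 := congrArg Units.val h3
        rw [Units.val_mul, Units.val_mul, Units.val_mul, hc, facG_sg_val, Matrix.mul_smul, Matrix.mul_one] at h4
        have : c = 1 := sg_twist (σ := Off J) hd hS hc2 (g := blk J a x.1) (m := ⟨m, hm⟩) (by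
          rw [Matrix.smul_mul, h4, Matrix.smul_mul, smul_smul, hc2, one_smul])
        exact Units.ext (by rw [hc, this, one_smul]; rfl)
      have hz1 : z.1 = 1 := blk_ext fun a => by rw [hone a, map_one]
      rw [hz1, Subgroup.coe_one, mul_one] at e'
      exact (mul_inv_eq_iff_eq_mul.1 e').symm) hne
  have hxA' : ∀ a ∈ A, Commute x.1.1 a.1 := fun a ha => by
    obtain ⟨z, hz, hxz⟩ := hxA a ha
    have := eq_self_of_odd ((Subgroup.mem_center_iff.1 (hcen hz)) x) hxo (α a) hxz (hz2 z hz)
    have h := congrArg (fun t : ↥(scalGrp X J a₀) => (t.1.1 : GL (σ → Fin k) F)) this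
    rw [hα] at h
    exact (mul_inv_eq_iff_eq_mul.1 h).symm
  have hxd : x.1.1 ∉ Blk F k (Finset.univ : Finset σ) := fun h => hxN ((hN x).2 h)
  have hxb : x.1.1 ∉ Blk F k Jᶜ := fun h => hxd (hd.mem_Blk.2 fun a b hab l _ => by
    by_cases hl : l ∈ J
    · exact hd.mem_Blk.1 x.1.2 a b hab l hl
    · exact hd.mem_Blk.1 h a b hab l (Finset.mem_compl.2 hl))
  obtain ⟨M, hMs, hMn, hMe⟩ := hd.hyper hA hxA' hxb
  have hMJ : ∀ l ∈ J, l ∉ M.supp := fun l hl h => (Finset.mem_compl.1 (hMs h)) hl
  -- the entries off the diagonal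
  have hoff : ∀ a b, (x.1.1 : Matrix (σ → Fin k) (σ → Fin k) F) a b ≠ 0 → a ≠ b → M.Paired a ∧ b = M.tw a := by
    intro a b hab hne'
    have hJ' := hd.mem_Blk.1 x.1.2 a b hab
    rcases hMn x.1.1 hxA' a b hab with h | ⟨h, h'⟩
    · exact absurd (funext fun l => by
        by_cases hl : l ∈ J
        · exact hJ' l hl
        · exact h l (Finset.mem_compl.2 hl)) hne'
    · refine ⟨h, funext fun l => ?_⟩
      by_cases hl : l ∈ J
      · rw [M.tw_off a (hMJ l hl), hJ' l hl]
      · exact h' l (Finset.mem_compl.2 hl)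
  have hord : Odd (orderOf x.1.1) := by
    rwa [Subgroup.orderOf_coe, Subgroup.orderOf_coe]
  have hsingle : ∀ a, ¬ M.Paired a → (x.1.1 : Matrix (σ → Fin k) (σ → Fin k) F) a a = 1 := by
    intro a ha
    obtain ⟨G, hG⟩ : ∃ G, G = (x.1.1 : Matrix (σ → Fin k) (σ → Fin k) F) := ⟨_, rfl⟩
    have hrow : ∀ b, b ≠ a → G a b = 0 := fun b hb => by_contra fun h => ha (hoff a b (hG ▸ h) hb.symm).1
    have hcol : ∀ b, b ≠ a → G b a = 0 := fun b hb => by_contra fun h => ha (by
      obtain ⟨p, q⟩ := hoff b a (hG ▸ h) hb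
      rw [q]; exact M.paired_tw p)
    have h2 : G a a * G a a = 1 := by
      have h := congrFun (congrFun (mem_isoD.1 (C.iso x.2.1)) a) a
      rw [← hG, Matrix.mul_apply, Finset.sum_eq_single a (fun c _ hc => by rw [hcol c hc, mul_zero]) (by simp),
        Matrix.mul_diagonal, Matrix.transpose_apply, Matrix.diagonal_apply_eq] at h
      exact mul_right_cancel₀ (wt_ne_zero hd.ne a) (by linear_combination h)
    have hpow : ∀ n : ℕ, (G ^ n) a a = G a a ^ n := fun n => by
      induction n with
      | zero => simp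
      | succ n ih =>
        rw [pow_succ', Matrix.mul_apply, Finset.sum_eq_single a (fun c _ hc => by rw [hrow c hc, zero_mul]) (by simp),
          ih, pow_succ']
    obtain ⟨n, hn⟩ := hord
    have h1 : G ^ (2 * n + 1) = 1 := by rw [hG, ← Units.val_pow_eq_pow_val, ← hn, pow_orderOf_eq_one, Units.val_one]
    have := hpow (2 * n + 1)
    rw [h1, Matrix.one_apply_eq, pow_succ, pow_mul, pow_two, h2, one_pow, one_mul] at this
    rw [← hG, ← this]
  obtain ⟨e, heA⟩ : ∃ e, e ∉ A := by
    by_contra h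
    push Not at h
    have hAtop : A = ⊤ := eq_top_iff.2 fun x _ => h x
    rw [hAtop, Subgroup.index_top] at hA
    omega
  obtain ⟨f, hf, hf1, hf2⟩ := ESub_diag e.2
  have hfanti : ∀ a, M.Paired a → f (M.tw a) = -f a := fun a ha => by
    have := hMe e.1 e.2 (fun _ => heA) a ha
    rwa [hf, Matrix.diagonal_apply_eq, Matrix.diagonal_apply_eq] at this
  obtain ⟨c₀, hc₀⟩ := x.2.2
  refine hxd ?_
  by_cases hsupp : 2 ≤ M.supp.card
  · -- the slots of `J` are not touched, so all blocks agree
    have hcomm : ∀ l ∈ J, ∀ h ∈ Om d, Commute x.1.1 (facG l h) := by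
      intro l hl
      have hnear : x.1.1 ∈ nearGrp X M l ∅ := by
        refine mem_nearGrp.2 ⟨x.2.1, fun a b hab => ?_⟩
        by_cases hab' : a = b
        · subst hab'
          rw [Matrix.one_apply_eq] at hab
          have hpa : M.Paired a := by_contra fun h => hab (hsingle a h)
          exact ⟨hpa, hpa, Finset.notMem_empty _, Finset.notMem_empty _, Or.inl fun m _ => rfl⟩
        · rw [Matrix.one_apply_ne hab'] at hab
          obtain ⟨p, q⟩ := hoff a b hab hab'
          exact ⟨p, q ▸ M.paired_tw p, Finset.notMem_empty _, Finset.notMem_empty _, Or.inr fun m _ => by rw [q]⟩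
      have hblk : ∀ h ∈ Om d, facG l h * x.1.1 * (facG l h)⁻¹ ∈ Blk F k {l} := by
        intro h hh
        refine near_blk C hP (hMJ l hl) (Or.inl ⟨rfl, hsupp⟩) (C.ESub_le _ e.2) hf hf1
          (fun a u => hf2 _ _ fun j hj => Function.update_of_ne
            (fun e' : j = l => (Finset.mem_compl.1 hj) (e'.symm ▸ hl)) _ _) hfanti ?_
        refine mem_nearGrp.2 ⟨mul_mem (mul_mem (C.omega l h hh) x.2.1) (inv_mem (C.omega l h hh)), ?_⟩
        rw [← map_inv, Units.val_mul, Units.val_mul, facG_val, facG_val]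
        exact (mem_nearGrp.1 hnear).2.conj_fac h (hMJ l hl) (Or.inl ⟨rfl, fun u v _ => by simp⟩)
      obtain ⟨P, hP'⟩ : ∃ P, P = Om d ⊓ (Subgroup.centralizer
          ({g | ∃ h ∈ Om d, g = facG l h * x.1.1 * (facG l h)⁻¹} : Set (GL (σ → Fin k) F))).comap (facG l) := ⟨_, rfl⟩
      have hPmem : ∀ p, p ∈ P ↔ p ∈ Om d ∧ ∀ h ∈ Om d,
          Commute (facG l h * x.1.1 * (facG l h)⁻¹) (facG l p) := fun p => by
        rw [hP', Subgroup.mem_inf, Subgroup.mem_comap, Subgroup.mem_centralizer_iff]
        exact and_congr Iff.rfl ⟨fun H h hh => H _ ⟨h, hh, rfl⟩, fun H g ⟨h, hh, hg⟩ => hg ▸ H h hh⟩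
      rcases hd.om_cases (N := P) (fun p hp => ((hPmem p).1 hp).1) (fun g hg p hp => by
          rw [hPmem] at hp ⊢
          refine ⟨mul_mem (mul_mem hg hp.1) (inv_mem hg), fun h hh => ?_⟩
          have h1 := hp.2 (g⁻¹ * h) (mul_mem (inv_mem hg) hh)
          have h2 : ∀ p, facG l (g⁻¹ * h) * x.1.1 * (facG l (g⁻¹ * h))⁻¹ =
              (facG l g)⁻¹ * (facG l h * x.1.1 * (facG l h)⁻¹) * (facG l g) ∧
              facG l (g * p * g⁻¹) = facG l g * facG l p * (facG l g)⁻¹ := fun p => by
            simp only [map_mul, map_inv]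
            exact ⟨by group, trivial⟩
          obtain ⟨e1, e2⟩ := h2 p
          rw [e1] at h1
          rw [e2]
          exact (Commute.conj_iff (facG l g)).2 h1 |> fun h3 => by
            have e3 : facG l g * ((facG l g)⁻¹ * (facG l h * x.1.1 * (facG l h)⁻¹) * facG l g) * (facG l g)⁻¹ =
                facG l h * x.1.1 * (facG l h)⁻¹ := by group
            rwa [e3] at h3) with hPe | hPe
      · intro h hh
        have := ((hPmem h).1 (hPe.symm ▸ hh)).2 1 (one_mem _)
        rwa [map_one, one_mul, inv_one, mul_one] at this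
      · obtain ⟨u, hu, -⟩ := hd.exists_main_avoid ⟨0, by have := hd.three; omega⟩ ⟨0, by have := hd.three; omega⟩
        obtain ⟨v, hv, hvu, -⟩ := hd.exists_main_avoid u u
        obtain ⟨w, hw, hwu, hwv⟩ := hd.exists_main_avoid u v
        obtain ⟨c, hc⟩ := hPe (sg {u, v}) ((hPmem _).2 ⟨hd.pair_mem hu hv hvu.symm, fun h hh => by
          by_cases h4 : k = 4
          · have e1 : (sg {u, v} : GL (Fin k) F) = sg {u} * sg {v} := Units.ext (by
              rw [Units.val_mul, sg_val, sg_val, sg_val, Matrix.diagonal_mul_diagonal]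
              refine congrArg _ (funext fun i => ?_)
              simp only [sv, Finset.mem_insert, Finset.mem_singleton]
              by_cases e1 : i = u <;> by_cases e2 : i = v <;> simp_all)
            rw [e1, map_mul]
            exact (mem_Blk_iff.1 (hblk h hh) l (Finset.mem_singleton_self l) _ (Or.inl ⟨h4, rfl⟩)).mul_right
              (mem_Blk_iff.1 (hblk h hh) l (Finset.mem_singleton_self l) _ (Or.inl ⟨h4, rfl⟩))
          · exact mem_Blk_iff.1 (hblk h hh) l (Finset.mem_singleton_self l) _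
              (Or.inr ⟨h4, Finset.card_pair hvu.symm, by simp [hu, hv]⟩)⟩)
        exfalso
        have eu := congrFun (congrFun hc u) u
        have ew := congrFun (congrFun hc w) w
        simp [sg_val, sv] at eu
        simp [sg_val, sv, hwu, hwv] at ew
        rw [← ew] at eu
        exact hd.two (by linear_combination -eu)
    have hblk_eq : ∀ a, blk J a x.1 = blk J a₀ x.1 := fun a => by
      refine Units.ext (Matrix.ext fun c c' => ?_)
      rw [blk_val, blk_val, blkM, blkM, Matrix.submatrix_apply, Matrix.submatrix_apply]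
      refine eq_of_steps (J := J) (f := fun z : σ → Fin k => (x.1.1 : Matrix (σ → Fin k) (σ → Fin k) F)
        (glue J z c) (glue J z c')) (fun z l hl u => ?_) ?_ |>.trans (b := (x.1.1 : Matrix (σ → Fin k) (σ → Fin k) F)
        (glue J (J.piecewise a₀ a) c) (glue J (J.piecewise a₀ a) c')) ?_
      · obtain ⟨r, hr⟩ := hd.slot_entries (l := l) (G := (x.1.1 : Matrix (σ → Fin k) (σ → Fin k) F)) (fun g hg => by
          have := congrArg Units.val (hcomm l hl g hg).eq
          rwa [Units.val_mul, Units.val_mul, facG_val] at this) (glue J z c) (glue J z c')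
        have hglue : ∀ (cc : Off J → Fin k) v, glue J (Function.update z l v) cc = Function.update (glue J z cc) l v :=
          fun cc v => funext fun j => by
            rcases eq_or_ne j l with rfl | hj
            · rw [glue_mem _ _ hl, Function.update_self, Function.update_self]
            · rw [Function.update_of_ne hj, glue, glue]
              split_ifs <;> simp [Function.update_of_ne hj]
        have h2 := hr (z l) (z l)
        rw [← hglue, ← hglue, Function.update_eq_self, if_pos rfl] at h2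
        rw [hglue, hglue, hr u u, if_pos rfl, h2]
      · intro l hl; simp [hl]
      · rw [glue_congr (a := J.piecewise a₀ a) (a' := a₀) fun l hl => by simp [hl]]
    refine hd.mem_Blk.2 fun a b hab l _ => by_contra fun hne' => ?_
    have hJ' := hd.mem_Blk.1 x.1.2 a b hab
    have := congrFun (congrFun (congrArg (fun g : GL (Off J → Fin k) F => (g : Matrix (Off J → Fin k) (Off J → Fin k) F)) (hblk_eq a)) fun j => a j) fun j => b j
    rw [hc₀, blk_val, blkM, Matrix.submatrix_apply, glue_self, glue_eq fun j hj => (hJ' j hj).symm,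
      Matrix.smul_apply, Matrix.one_apply_ne (fun h => hne' (by
        by_cases hl : l ∈ J
        · exact hJ' l hl
        · exact congrFun h ⟨l, hl⟩)), smul_zero] at this
    exact hab this
  · -- one merged slot: the fibres along it are proportional
    obtain ⟨m, hm⟩ : ∃ m, M.supp = {m} := Finset.card_eq_one.1 (by
      have := M.nonempty.card_pos; omega)
    have hblk : BlkM {m}ᶜ (x.1.1 : Matrix (σ → Fin k) (σ → Fin k) F) := fun a b hab j hj => by
      by_cases hab' : a = b
      · rw [hab']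
      · obtain ⟨-, q⟩ := hoff a b hab hab'
        rw [q, M.tw_off a (by rw [hm]; simpa using hj)]
    have hmJ : m ∉ J := fun h => hMJ m h (by rw [hm]; exact Finset.mem_singleton_self m)
    refine hd.mem_Blk.2 fun a b hab l _ => by_contra fun hne' => ?_
    obtain ⟨c, hc⟩ := hP m x.1.1 x.2.1 hblk a (glue J a₀ fun j => a j)
    have h0 : fibM m (x.1.1 : Matrix (σ → Fin k) (σ → Fin k) F) (glue J a₀ fun j => a j) = c₀ • 1 := by
      ext u v
      have hupd : ∀ w, Function.update (glue J a₀ fun j => a j) m w =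
          glue J a₀ (Function.update (fun j : Off J => a j) ⟨m, hmJ⟩ w) := fun w => funext fun j => by
        by_cases hj : j ∈ J
        · rw [Function.update_of_ne (ne_of_mem_of_not_mem hj hmJ), glue_mem _ _ hj, glue_mem _ _ hj]
        · rw [glue, dif_neg hj]
          rcases eq_or_ne j m with rfl | hne2
          · rw [Function.update_self, Function.update_self]
          · rw [Function.update_of_ne hne2, Function.update_of_ne (fun h => hne2 (congrArg Subtype.val h)), glue,
              dif_neg hj]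
      have := congrFun (congrFun hc₀ (Function.update (fun j : Off J => a j) ⟨m, hmJ⟩ u))
        (Function.update (fun j : Off J => a j) ⟨m, hmJ⟩ v)
      rw [blk_val, blkM, Matrix.submatrix_apply, ← hupd, ← hupd] at this
      rw [fibM_apply, this, Matrix.smul_apply, Matrix.smul_apply]
      congr 1
      rcases eq_or_ne u v with rfl | huv
      · rw [Matrix.one_apply_eq, Matrix.one_apply_eq]
      · rw [Matrix.one_apply_ne huv, Matrix.one_apply_ne fun h => huv (by simpa using congrFun h ⟨m, hmJ⟩)]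
    rw [h0, smul_smul] at hc
    obtain rfl : l = m := by_contra fun h => hne' (hblk a b hab l (by simpa using h))
    have hb : b = Function.update a l (b l) := funext fun j => by
      rcases eq_or_ne j l with rfl | hj
      · rw [Function.update_self]
      · rw [Function.update_of_ne hj, hblk a b hab j (by simpa using hj)]
    have := congrFun (congrFun hc (a l)) (b l)
    rw [fibM_apply, Function.update_eq_self, ← hb, Matrix.smul_apply, Matrix.one_apply_ne hne', smul_zero] at this
    exact hab this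

end Cfsg.Agent.Classical.OTPow
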