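/-
Proportional fibres and the theorem on fewer slots make the sign centralisers standard.
-/
import Cfsg.Agent.Lib.Classical.OTPow.Scalar

set_option autoImplicit false
set_option linter.unusedSectionVars false

namespace Cfsg.Agent.Classical.OTPow

open Matrix
open scoped IsMulCommutative

variable {F : Type*} [Field F] [Fintype F] {k : ℕ} {σ : Type} [Fintype σ] [DecidableEq σ]
  {d : Fin k → F} {X : Subgroup (GL (σ → Fin k) F)}

theorem Shape.isoD_of_facG {d : Fin k → F} (hd : Shape d) {l : σ} {h : GL (Fin k) F}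
    (e : facG l h ∈ IsoD (wt d)) : h ∈ IsoD d := by
  classical
  haveI : NeZero k := ⟨by have := hd.three; omega⟩
  obtain ⟨a⟩ : Nonempty (σ → Fin k) := ⟨fun _ => 0⟩
  obtain ⟨p, hp⟩ : ∃ p : F, p = ∏ j ∈ Finset.univ.erase l, d (a j) := ⟨_, rfl⟩
  have hp0 : p ≠ 0 := hp ▸ Finset.prod_ne_zero_iff.2 fun j _ => hd.ne _
  have hf : fibM l (Matrix.diagonal (wt (σ := σ) d)) a = p • Matrix.diagonal d := by
    rw [fibM_diagonal, ← Matrix.diagonal_smul]
    refine congrArg _ (funext fun u => ?_)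
    rw [wt, ← Finset.mul_prod_erase _ _ (Finset.mem_univ l), Function.update_self, hp, Pi.smul_apply, smul_eq_mul,
      mul_comm]
    congr 1
    exact Finset.prod_congr rfl fun j hj => by rw [Function.update_of_ne (Finset.ne_of_mem_erase hj)]
  have hT : (facS l (h : Matrix (Fin k) (Fin k) F))ᵀ = facS l ((h : Matrix (Fin k) (Fin k) F)ᵀ) := by
    ext x y
    rw [Matrix.transpose_apply, facS_apply, facS_apply]
    exact if_congr ⟨fun H j hj => (H j hj).symm, fun H j hj => (H j hj).symm⟩ rfl rfl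
  have := congrArg (fibM l · a) (mem_isoD.1 e)
  rw [facG_val, hT, fibM_mul ((facS_blkM l _).mul (diagonal_blkM _ _)), fibM_mul (facS_blkM l _), fibM_facS,
    fibM_facS, hf, Matrix.mul_smul, Matrix.smul_mul] at this
  exact mem_isoD.2 (smul_right_injective _ hp0 this)

theorem Shape.ctx_iso (hd : Shape d) : Ctx d (IsoD (wt (σ := σ) d)) :=
  ⟨hd, le_rfl, fun l _ hg => facG_iso l (om_le d hg), fun _ l _ hg => facG_iso l hg⟩

/-- The projection of a sign centraliser to one block. -/
def proj [hF : Fact (3 ≤ k ∧ (2 : F) ≠ 0)] (X : Subgroup (GL (σ → Fin k) F)) (J : Finset σ) (a : σ → Fin k) :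
    Subgroup (GL (Off J → Fin k) F) :=
  (X.subgroupOf (Blk F k J)).map (blk J a)

theorem Ctx.proj_ctx (C : Ctx d X) [hF : Fact (3 ≤ k ∧ (2 : F) ≠ 0)] (J : Finset σ) (a : σ → Fin k) :
    Ctx d (proj X J a) := by
  refine ⟨C.shape, ?_, fun m g hg => ?_, fun h4 m g hg => ?_⟩
  · rintro _ ⟨x, hx, rfl⟩
    exact blk_iso C.shape.ne a (C.iso hx)
  · exact ⟨⟨facG (m : σ) g, facG_mem_Blk m.2 g⟩, C.omega _ _ hg, blk_facG m g a⟩
  · exact ⟨⟨facG (m : σ) g, facG_mem_Blk m.2 g⟩, C.ext h4 _ _ hg, blk_facG m g a⟩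

/-- Elements whose blocks at `a` commute with a sign commute with it. -/
theorem Ctx.commute_sg (C : Ctx d X) (hP : Pure1 X) [hF : Fact (3 ≤ k ∧ (2 : F) ≠ 0)] {J : Finset σ} (hJ : J.Nonempty)
    {x : ↥(Blk F k J)} (hx : x.1 ∈ X) {m : Off J} {S : Finset (Fin k)} (hS : Gen S) {a : σ → Fin k}
    (h : Commute (blk J a x) (facG m (sg S))) : Commute x.1 (facG (m : σ) (sg S)) := by
  obtain ⟨e, he⟩ : ∃ e : ↥(Blk F k J), e = ⟨facG (m : σ) (sg S), facG_mem_Blk m.2 _⟩ := ⟨_, rfl⟩
  have heb : ∀ b, blk J b e = facG m (sg S) := fun b => by rw [he]; exact blk_facG m _ b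
  have hw : blk J a (x * e * x⁻¹ * e⁻¹) = 1 := by
    rw [map_mul, map_mul, map_mul, map_inv, map_inv, heb, h.eq, mul_inv_cancel_right, mul_inv_cancel]
  have hwX : (x * e * x⁻¹ * e⁻¹).1 ∈ X := by
    have heX : e.1 ∈ X := he ▸ C.sg_mem _ hS
    exact mul_mem (mul_mem (mul_mem hx heX) (inv_mem hx)) (inv_mem heX)
  have hs : Scal (blk J a (x * e * x⁻¹ * e⁻¹)) := hw ▸ scal_one
  have hf := C.mem_diag (C.scalar_block hP hJ hwX hs)
  have hblock := C.diag_block hP hwX hf hs
  have hone : ∀ b, blk J b (x * e * x⁻¹ * e⁻¹) = 1 := by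
    intro b
    obtain ⟨c, hc, hc2⟩ : ∃ c : F,
        (blk J b (x * e * x⁻¹ * e⁻¹) : Matrix (Off J → Fin k) (Off J → Fin k) F) = c • 1 ∧ c * c = 1 := by
      refine ⟨((x * e * x⁻¹ * e⁻¹).1 : Matrix (σ → Fin k) (σ → Fin k) F) b b, ?_, ?_⟩
      · rw [blk_val, blkM, hf, Matrix.submatrix_diagonal _ _ (glue_inj J b), Matrix.smul_one_eq_diagonal,
          Matrix.diagonal_apply_eq]
        exact congrArg _ (funext fun c => hblock _ _ fun l hl => glue_mem b c hl)
      · exact (C.diag_values hwX hf).1 b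
    have e1 : blk J b x * facG m (sg S) = blk J b (x * e * x⁻¹ * e⁻¹) * facG m (sg S) * blk J b x := by
      simp only [map_mul, map_inv, heb]
      group
    have e2 := congrArg Units.val e1
    rw [Units.val_mul, Units.val_mul, Units.val_mul, hc, facG_sg_val, Matrix.smul_mul, Matrix.one_mul,
      Matrix.smul_mul] at e2
    have h1 : c = 1 := sg_twist (σ := Off J) C.shape hS hc2 (g := blk J b x) (m := m) (by rw [e2, Matrix.smul_mul])
    exact Units.ext (by rw [hc, h1, one_smul]; rfl)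
  have e3 : x * e * x⁻¹ * e⁻¹ = 1 := blk_ext fun b => by rw [hone b, map_one]
  rw [mul_inv_eq_one, mul_inv_eq_iff_eq_mul] at e3
  rw [he] at e3
  exact congrArg Subtype.val e3

/-- One step of the reduction to fewer slots. -/
theorem Ctx.std_of_succ (C : Ctx d X) (hP : Pure1 X) [hF : Fact (3 ≤ k ∧ (2 : F) ≠ 0)] {J : Finset σ}
    (hJ : J.Nonempty) [Nonempty (Off J)] (hcore : CoreHolds d (Off J))
    (ih : ∀ m, m ∉ J → X ⊓ Blk F k (insert m J) ≤ Std F k σ) : X ⊓ Blk F k J ≤ Std F k σ := by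
  classical
  have hd := C.shape
  haveI : NeZero k := ⟨by have := hd.three; omega⟩
  haveI : Nonempty σ := ⟨hJ.choose⟩
  intro x ⟨hx, hxJ⟩
  obtain ⟨a₀⟩ : Nonempty (σ → Fin k) := ⟨fun _ => 0⟩
  have hL : Light (proj X J a₀) := by
    rintro m _ ⟨⟨z, hz, rfl⟩, hy⟩
    refine hd.blk_std (ih m m.2 ⟨hz, mem_Blk_iff.2 ?_⟩) a₀
    intro l hl S hS
    rcases Finset.mem_insert.1 hl with rfl | hl
    · exact C.commute_sg hP hJ hz hS (mem_Blk_iff.1 hy m (Finset.mem_singleton_self m) S hS)
    · exact mem_Blk_iff.1 z.2 l hl S hS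
  obtain ⟨A, π, hy⟩ := hcore _ (C.proj_ctx J a₀) hL ⟨⟨x, hxJ⟩, hx, rfl⟩
  have hyI : pureG A * permG k F π ∈ IsoD (wt (σ := Off J) d) := hy ▸ blk_iso hd.ne a₀ (g := ⟨x, hxJ⟩) (C.iso hx)
  obtain ⟨g, hg, hgv, hgI⟩ := liftM_std J A π
  -- the blocks agree with the lift up to scalars
  have hblk : ∀ a, ∃ c : F, (blk J a ⟨x, hxJ⟩ : Matrix (Off J → Fin k) (Off J → Fin k) F) =
      c • ((pureG A * permG k F π : GL (Off J → Fin k) F) : Matrix (Off J → Fin k) (Off J → Fin k) F) := by
    intro a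
    obtain ⟨u, hu⟩ : ∃ u, u = (pureG A * permG k F π)⁻¹ * blk J a ⟨x, hxJ⟩ := ⟨_, rfl⟩
    suffices hs : ∃ c : F, (u : Matrix (Off J → Fin k) (Off J → Fin k) F) = c • 1 by
      obtain ⟨c, hc⟩ := hs
      refine ⟨c, ?_⟩
      have e : blk J a ⟨x, hxJ⟩ = pureG A * permG k F π * u := by rw [hu, mul_inv_cancel_left]
      rw [e, Units.val_mul, hc, Matrix.mul_smul, Matrix.mul_one]
    refine hd.scalar_of_commute_slots fun l h hh => ?_
    have hc : Commute u (facG l h) := by
      refine commute_of_twist hd.om_perfect (facG l) (fun h hh => ?_) hh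
      obtain ⟨h', hh'⟩ : ∃ h', h' = A (π l) * h * (A (π l))⁻¹ := ⟨_, rfl⟩
      have e0 : pureG A * permG k F π * facG l h * (pureG A * permG k F π)⁻¹ = facG (π l) h' := by
        rw [hh', std_facG]
      have hh'O : h' ∈ Om d := by
        rw [hh']
        refine hd.conj_om (fun p hp => hd.isoD_of_facG (l := π l) ?_) hh
        rw [← std_facG]
        exact mul_mem (mul_mem hyI (facG_iso l (om_le d hp))) (inv_mem hyI)
      obtain ⟨eh, heh⟩ : ∃ eh : ↥(Blk F k J), eh = ⟨facG (l : σ) h, facG_mem_Blk l.2 h⟩ := ⟨_, rfl⟩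
      obtain ⟨eh', heh'⟩ : ∃ eh' : ↥(Blk F k J), eh' = ⟨facG ((π l : Off J) : σ) h', facG_mem_Blk (π l).2 h'⟩ :=
        ⟨_, rfl⟩
      have hb : ∀ b, blk J b eh = facG l h := fun b => by rw [heh]; exact blk_facG l h b
      have hb' : ∀ b, blk J b eh' = facG (π l) h' := fun b => by rw [heh']; exact blk_facG (π l) h' b
      obtain ⟨w, hw⟩ : ∃ w : ↥(Blk F k J), w = ⟨x, hxJ⟩ * eh * ⟨x, hxJ⟩⁻¹ * eh'⁻¹ := ⟨_, rfl⟩
      have hwX : w.1 ∈ X := by
        rw [hw]
        exact mul_mem (mul_mem (mul_mem hx (heh ▸ C.omega _ _ hh)) (inv_mem hx)) (inv_mem (heh' ▸ C.omega _ _ hh'O))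
      have hs : Scal (blk J a₀ w) := by
        have : blk J a₀ w = 1 := by
          rw [hw, map_mul, map_mul, map_mul, map_inv, map_inv, hb, hb', hy, e0, mul_inv_cancel]
        exact this ▸ scal_one
      have hf := C.mem_diag (C.scalar_block hP hJ hwX hs)
      have hblock := C.diag_block hP hwX hf hs
      have hsa : Scal (blk J a w) := ⟨(w.1 : Matrix (σ → Fin k) (σ → Fin k) F) a a, by
        rw [blk_val, blkM, hf, Matrix.submatrix_diagonal _ _ (glue_inj J a), Matrix.smul_one_eq_diagonal,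
          Matrix.diagonal_apply_eq]
        exact congrArg _ (funext fun c => hblock _ _ fun l hl => glue_mem a c hl)⟩
      refine ⟨blk J a w, hsa, ?_⟩
      have e1 : blk J a w * facG (π l) h' = blk J a ⟨x, hxJ⟩ * facG l h * (blk J a ⟨x, hxJ⟩)⁻¹ := by
        rw [hw, map_mul, map_mul, map_mul, map_inv, map_inv, hb, hb', inv_mul_cancel_right]
      obtain ⟨y, hy'⟩ : ∃ y, y = pureG A * permG k F π := ⟨_, rfl⟩
      rw [← hy'] at e0 hu
      calc u * facG l h * u⁻¹ = y⁻¹ * (blk J a ⟨x, hxJ⟩ * facG l h * (blk J a ⟨x, hxJ⟩)⁻¹) * y := by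
            rw [hu]; group
        _ = y⁻¹ * (blk J a w * (y * facG l h * y⁻¹)) * y := by rw [e0, e1]
        _ = blk J a w * facG l h := by
            rw [← mul_assoc y⁻¹, ← (hsa.commute y⁻¹).eq]
            group
    have := congrArg Units.val hc.eq
    rwa [Units.val_mul, Units.val_mul, facG_val] at this
  choose c hc using hblk
  -- so the element is the lift times signs
  obtain ⟨D, hD⟩ : ∃ D, D = x * g⁻¹ := ⟨_, rfl⟩
  have hgB : g ∈ Blk F k J := hd.mem_Blk.2 (hgv ▸ liftM_blkM J _)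
  have hgblk : ∀ a, blk J a ⟨g, hgB⟩ = pureG A * permG k F π := fun a => Units.ext (by rw [blk_val, hgv, blkM_liftM])
  have hDB : D ∈ Blk F k J := hD ▸ mul_mem hxJ (inv_mem hgB)
  have hDblk : ∀ a, (blk J a ⟨D, hDB⟩ : Matrix (Off J → Fin k) (Off J → Fin k) F) = c a • 1 := fun a => by
    have e : (⟨D, hDB⟩ : ↥(Blk F k J)) = ⟨x, hxJ⟩ * ⟨g, hgB⟩⁻¹ := Subtype.ext hD
    rw [e, map_mul, map_inv, hgblk, Units.val_mul, hc, Matrix.smul_mul, ← Units.val_mul, mul_inv_cancel, Units.val_one]
  have hDd : (D : Matrix (σ → Fin k) (σ → Fin k) F) =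
      Matrix.diagonal fun a => (D : Matrix (σ → Fin k) (σ → Fin k) F) a a := by
    ext a b
    rcases eq_or_ne a b with rfl | hab
    · rw [Matrix.diagonal_apply_eq]
    · rw [Matrix.diagonal_apply_ne _ hab]
      by_contra hne
      have hJ' := hd.mem_Blk.1 hDB a b hne
      have h1 := congrFun (congrFun (hDblk a) fun j => a j) fun j => b j
      rw [blk_val, blkM, Matrix.submatrix_apply, glue_self, glue_eq fun j hj => (hJ' j hj).symm, Matrix.smul_apply,
        Matrix.one_apply_ne fun h => hab (funext fun j => by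
          by_cases hj : j ∈ J
          · exact hJ' j hj
          · exact congrFun h ⟨j, hj⟩), smul_zero] at h1
      exact hne h1
  obtain ⟨hε, hDG⟩ := hd.ctx_iso.diag_values (hD ▸ mul_mem (C.iso hx) (inv_mem (hgI d hd.ne hyI))) hDd
  have hstd : D ∈ Std F k σ := by
    rw [hDG]
    refine diagG_std hε fun l a a' => ?_
    by_cases hl : l ∈ J
    · refine hP.sign_step hd hε (fun h hh => ?_) a a'
      rw [← hDG]
      have hcomm : Commute g (facG l h) := Units.ext (by
        rw [Units.val_mul, Units.val_mul, facG_val, hgv, liftM_facS_comm J _ hl])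
      have e : D * facG l h * D⁻¹ = x * facG l h * x⁻¹ := by
        rw [hD, _root_.mul_inv_rev, inv_inv]
        calc x * g⁻¹ * facG l h * (g * x⁻¹) = x * (g⁻¹ * (facG l h * g)) * x⁻¹ := by group
          _ = _ := by rw [← hcomm.eq, inv_mul_cancel_left]
      rw [e]
      exact mul_mem (mul_mem (mul_mem hx (C.omega l h hh)) (inv_mem hx)) (inv_mem (C.omega l h hh))
    · have hval : ∀ b, (D : Matrix (σ → Fin k) (σ → Fin k) F) b b = c b := fun b => by
        have := congrFun (congrFun (hDblk b) fun j => b j) fun j => b j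
        rwa [blk_val, blkM, Matrix.submatrix_apply, glue_self, Matrix.smul_apply, Matrix.one_apply_eq, smul_eq_mul,
          mul_one] at this
      have hval' : ∀ b u, c (Function.update b l u) = c b := fun b u => by
        rw [← hval, ← hval]
        have h1 := congrFun (congrFun (hDblk b) fun j => Function.update b l u j) fun j => Function.update b l u j
        rw [blk_val, blkM, Matrix.submatrix_apply,
          glue_eq (b := Function.update b l u) fun j hj => Function.update_of_ne (ne_of_mem_of_not_mem hj hl) _ _,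
          Matrix.smul_apply, Matrix.one_apply_eq, smul_eq_mul, mul_one] at h1
        rw [h1, hval]
      refine ⟨c a * c a', fun u => ?_⟩
      rw [hval, hval, hval', hval', mul_assoc]
      have := hε a'
      rw [hval] at this
      rw [this, mul_one]
  have := mul_mem hstd hg
  rwa [hD, inv_mul_cancel_right] at this

/-- Proportional fibres and the theorem on fewer slots give standard sign centralisers. -/
theorem Ctx.light_of_pure (C : Ctx d X) (hP : Pure1 X)
    (hcore : ∀ J : Finset σ, J.Nonempty → J ≠ Finset.univ → CoreHolds d (Off J)) : Light X := by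
  classical
  have hd := C.shape
  haveI := hd.fact
  suffices ∀ n, ∀ J : Finset σ, J.Nonempty → Jᶜ.card = n → X ⊓ Blk F k J ≤ Std F k σ from fun l =>
    this _ {l} (Finset.singleton_nonempty l) rfl
  intro n
  induction n using Nat.strong_induction_on with
  | _ n ih =>
    intro J hJ hn
    by_cases hu : J = Finset.univ
    · subst hu
      intro x ⟨hx, hxJ⟩
      have hf := C.mem_diag hxJ
      obtain ⟨hε, hx'⟩ := C.diag_values hx hf
      haveI : Nonempty σ := ⟨hJ.choose⟩
      rw [hx']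
      exact diagG_std hε fun l a a' => C.diag_step hP hx hf l a a'
    · obtain ⟨m, hm⟩ : ∃ m, m ∉ J := by
        by_contra h
        push Not at h
        exact hu (Finset.eq_univ_of_forall h)
      haveI : Nonempty (Off J) := ⟨⟨m, hm⟩⟩
      exact C.std_of_succ hP hJ (hcore J hJ hu) fun m hm => ih _ (hn ▸ Finset.card_lt_card (by
        rw [Finset.compl_ssubset_compl]
        exact Finset.ssubset_insert hm)) _ (Finset.insert_nonempty m J) rfl

end Cfsg.Agent.Classical.OTPow
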