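/-
The stabiliser of a slice is standard.
-/
import Cfsg.Agent.Lib.Classical.OTPow.Kernel
import Cfsg.Agent.Lib.Classical.OTPow.Light

set_option autoImplicit false
set_option linter.unusedSectionVars false

namespace Cfsg.Agent.Classical.OTPow

open Matrix

variable {F : Type*} [Field F] [Fintype F] {k : ℕ} {σ : Type} [Fintype σ] [DecidableEq σ]
  {d : Fin k → F} {X : Subgroup (GL (σ → Fin k) F)}

/-- The centraliser of the sign of one index. -/
def zGrp (F : Type*) [Field F] (k : ℕ) (l : σ) (u : Fin k) : Subgroup (GL (σ → Fin k) F) :=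
  Subgroup.centralizer {facG l (sg {u})}

theorem mem_zGrp_iff {l : σ} {u : Fin k} {g : GL (σ → Fin k) F} :
    g ∈ zGrp F k l u ↔ Commute g (facG l (sg {u})) := by
  rw [zGrp, Subgroup.mem_centralizer_singleton_iff]
  exact Iff.rfl

theorem zGrp_entry (h2 : (2 : F) ≠ 0) {l : σ} {u : Fin k} {g : GL (σ → Fin k) F} (hg : g ∈ zGrp F k l u)
    {a b : σ → Fin k} (hab : (g : Matrix (σ → Fin k) (σ → Fin k) F) a b ≠ 0) : a l = u ↔ b l = u := by
  have h : Commute (g : Matrix (σ → Fin k) (σ → Fin k) F) (Matrix.diagonal fun a => sv {u} (a l)) := by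
    rw [← facG_sg_val]
    exact congrArg Units.val (mem_zGrp_iff.1 hg).eq
  have e := (commute_diagonal_iff _ _).1 h a b hab
  by_contra hne
  exact sv_ne h2 (S := ({u} : Finset (Fin k))) (by simpa using hne) e

theorem facG_mem_zGrp {l m : σ} (h : m ≠ l) (u : Fin k) (x : GL (Fin k) F) : facG m x ∈ zGrp F k l u :=
  mem_zGrp_iff.2 (facG_commute h x _)

/-- The slice through index `u`. -/
def sliceM (l : σ) (u : Fin k) (G : Matrix (σ → Fin k) (σ → Fin k) F) :
    Matrix (Off ({l} : Finset σ) → Fin k) (Off ({l} : Finset σ) → Fin k) F :=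
  blkM {l} G (fun _ => u)

theorem sum_slice {l : σ} {u : Fin k} {f : (σ → Fin k) → F} (h : ∀ x, x l ≠ u → f x = 0) :
    ∑ x, f x = ∑ c : Off ({l} : Finset σ) → Fin k, f (glue {l} (fun _ => u) c) := by
  classical
  symm
  rw [← Finset.sum_image (f := f) (g := glue ({l} : Finset σ) (fun _ => u)) fun x _ y _ e => glue_inj _ _ e]
  refine Finset.sum_subset (Finset.subset_univ _) fun x _ hx => h x fun hxl => hx ?_
  exact Finset.mem_image.2 ⟨fun j => x j, Finset.mem_univ _,
    glue_eq fun j hj => by rw [Finset.mem_singleton] at hj; rw [hj]; exact hxl⟩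

theorem sliceM_mul {l : σ} {u : Fin k} {G H : Matrix (σ → Fin k) (σ → Fin k) F}
    (h : (∀ a b, G a b ≠ 0 → a l = u → b l = u) ∨ ∀ a b, H a b ≠ 0 → b l = u → a l = u) :
    sliceM l u (G * H) = sliceM l u G * sliceM l u H := by
  ext c c'
  simp only [sliceM, blkM, Matrix.submatrix_apply, Matrix.mul_apply]
  refine sum_slice fun x hx => by_contra fun hne => hx ?_
  have hu : ∀ c, glue ({l} : Finset σ) (fun _ => u) c l = u := fun c => glue_mem _ _ (Finset.mem_singleton_self l)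
  rcases h with h | h
  · exact h _ _ (left_ne_zero_of_mul hne) (hu c)
  · exact h _ _ (right_ne_zero_of_mul hne) (hu c')

theorem sliceM_one (l : σ) (u : Fin k) : sliceM l u (1 : Matrix (σ → Fin k) (σ → Fin k) F) = 1 := blkM_one _ _

theorem sliceM_facS {l : σ} (m : Off ({l} : Finset σ)) (u : Fin k) (Y : Matrix (Fin k) (Fin k) F) :
    sliceM l u (facS (m : σ) Y) = facS m Y := blkM_facS m Y _

/-- The slice of an element commuting with the sign of `u`. -/
def slc (l : σ) (u : Fin k) [hF : Fact (3 ≤ k ∧ (2 : F) ≠ 0)] :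
    ↥(zGrp F k l u) →* GL (Off ({l} : Finset σ) → Fin k) F where
  toFun g :=
    { val := sliceM l u (g : GL (σ → Fin k) F)
      inv := sliceM l u ((g⁻¹ : ↥(zGrp F k l u)) : GL (σ → Fin k) F)
      val_inv := by
        rw [← sliceM_mul (Or.inl fun a b hab => (zGrp_entry hF.out.2 g.2 hab).1), ← Units.val_mul, ← Subgroup.coe_mul,
          mul_inv_cancel, Subgroup.coe_one, Units.val_one, sliceM_one]
      inv_val := by
        rw [← sliceM_mul (Or.inl fun a b hab => (zGrp_entry hF.out.2 (g⁻¹).2 hab).1), ← Units.val_mul,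
          ← Subgroup.coe_mul, inv_mul_cancel, Subgroup.coe_one, Units.val_one, sliceM_one] }
  map_one' := Units.ext (sliceM_one l u)
  map_mul' g h := Units.ext (sliceM_mul (Or.inl fun a b hab => (zGrp_entry hF.out.2 g.2 hab).1))

theorem slc_val {l : σ} {u : Fin k} [hF : Fact (3 ≤ k ∧ (2 : F) ≠ 0)] (g : ↥(zGrp F k l u)) :
    (slc l u g : Matrix (Off ({l} : Finset σ) → Fin k) (Off ({l} : Finset σ) → Fin k) F) =
      sliceM l u (g : GL (σ → Fin k) F) := rfl

theorem slc_facG {l : σ} {u : Fin k} [hF : Fact (3 ≤ k ∧ (2 : F) ≠ 0)] (m : Off ({l} : Finset σ)) (x : GL (Fin k) F)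
    (h : facG (m : σ) x ∈ zGrp F k l u) : slc l u ⟨facG (m : σ) x, h⟩ = facG m x :=
  Units.ext (by rw [slc_val, facG_val, facG_val, sliceM_facS])

/-- The slices of the stabiliser. -/
def sliceGrp (X : Subgroup (GL (σ → Fin k) F)) (l : σ) (u : Fin k) [hF : Fact (3 ≤ k ∧ (2 : F) ≠ 0)] :
    Subgroup (GL (Off ({l} : Finset σ) → Fin k) F) :=
  (X.subgroupOf (zGrp F k l u)).map (slc l u)

theorem slc_iso {l : σ} {u : Fin k} [hF : Fact (3 ≤ k ∧ (2 : F) ≠ 0)] (hd : ∀ i, d i ≠ 0) {g : ↥(zGrp F k l u)}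
    (hg : (g : GL (σ → Fin k) F) ∈ IsoD (wt d)) : slc l u g ∈ IsoD (wt d) := by
  obtain ⟨G, hG⟩ : ∃ G, G = ((g : GL (σ → Fin k) F) : Matrix (σ → Fin k) (σ → Fin k) F) := ⟨_, rfl⟩
  have hrow : ∀ a b, G a b ≠ 0 → (a l = u ↔ b l = u) := fun a b hab => zGrp_entry hF.out.2 g.2 (hG ▸ hab)
  have e := congrArg (sliceM l u) (mem_isoD.1 hg)
  rw [← hG, Matrix.mul_assoc, sliceM_mul (G := Gᵀ) (Or.inl fun a b hab => (hrow b a hab).2),
    sliceM_mul (Or.inr fun a b hab => (hrow a b hab).2)] at e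
  have hD : sliceM l u (Matrix.diagonal (wt (σ := σ) d)) = d u • Matrix.diagonal (wt d) := by
    rw [sliceM, blkM, Matrix.submatrix_diagonal _ _ (glue_inj _ _), ← Matrix.diagonal_smul]
    exact congrArg _ (funext fun c => by
      rw [Function.comp_apply, wt_glue, Finset.prod_singleton, Pi.smul_apply, smul_eq_mul])
  rw [hD, Matrix.smul_mul, Matrix.mul_smul] at e
  have e1 := smul_right_injective _ (hd u) e
  rw [mem_isoD, slc_val, ← hG, Matrix.mul_assoc]
  exact e1

theorem Ctx.sliceGrp_ctx (C : Ctx d X) [hF : Fact (3 ≤ k ∧ (2 : F) ≠ 0)] (l : σ) (u : Fin k) :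
    Ctx d (sliceGrp X l u) := by
  refine ⟨C.shape, ?_, fun m g hg => ?_, fun hev m g hg => ?_⟩
  · rintro _ ⟨x, hx, rfl⟩
    exact slc_iso C.shape.ne (C.iso hx)
  · exact ⟨⟨facG (m : σ) g, facG_mem_zGrp (fun e => m.2 (by simp [e])) u g⟩, C.omega _ _ hg, slc_facG m g _⟩
  · exact ⟨⟨facG (m : σ) g, facG_mem_zGrp (fun e => m.2 (by simp [e])) u g⟩, C.ext hev _ _ hg, slc_facG m g _⟩

/-- Trivial slices fix the slice. -/
theorem fix_of_slc {l : σ} {u : Fin k} [hF : Fact (3 ≤ k ∧ (2 : F) ≠ 0)] {g : ↥(zGrp F k l u)}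
    (hX : (g : GL (σ → Fin k) F) ∈ X) (h : slc l u g = 1) : (g : GL (σ → Fin k) F) ∈ fixGrp X l u := by
  refine ⟨hX, fun b hb => funext fun a => ?_⟩
  rw [Matrix.mulVec_single_one, Matrix.col_apply, Pi.single_apply]
  have hg : ∀ x, x l = u → glue ({l} : Finset σ) (fun _ => u) (fun j => x j) = x := fun x hx =>
    glue_eq fun j hj => by rw [Finset.mem_singleton] at hj; rw [hj]; exact hx
  by_cases ha : a l = u
  · have e := congrFun (congrFun (congrArg (fun z : GL (Off ({l} : Finset σ) → Fin k) F => (z : Matrix (Off ({l} : Finset σ) → Fin k) (Off ({l} : Finset σ) → Fin k) F)) h) fun j => a j) fun j => b j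
    rw [slc_val, sliceM, blkM, Matrix.submatrix_apply, hg a ha, hg b hb, Units.val_one, Matrix.one_apply] at e
    refine e.trans (if_congr ⟨fun h' => ?_, fun h' => by rw [h']⟩ rfl rfl)
    rw [← hg a ha, h', hg b hb]
  · rw [if_neg fun e : a = b => ha (by rw [e]; exact hb)]
    exact by_contra fun hne => ha ((zGrp_entry hF.out.2 g.2 hne).2 hb)

/-- The slice of a standard element is standard. -/
theorem Shape.slc_std (hd : Shape d) {l : σ} {u : Fin k} [hF : Fact (3 ≤ k ∧ (2 : F) ≠ 0)]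
    [Nonempty (Off ({l} : Finset σ))] {g : ↥(zGrp F k l u)} (hs : (g : GL (σ → Fin k) F) ∈ Std F k σ) :
    slc l u g ∈ Std F k (Off ({l} : Finset σ)) := by
  haveI : NeZero k := ⟨by have := hd.three; omega⟩
  obtain ⟨A, π, hg⟩ := hs
  have hrow : ∀ a b, ((g : GL (σ → Fin k) F) : Matrix (σ → Fin k) (σ → Fin k) F) a b ≠ 0 → (a l = u ↔ b l = u) :=
    fun a b hab => zGrp_entry hF.out.2 g.2 hab
  have hpres : ∀ j : Off ({l} : Finset σ), π j ≠ l := by
    intro j hj
    -- otherwise the slot algebra would act by scalars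
    obtain ⟨S, hS⟩ := exists_gen (k := k) hd.three
    have e := congrArg (sliceM l u) (std_facS A π (j : σ) ((sg S : GL (Fin k) F) : Matrix (Fin k) (Fin k) F))
    rw [← hg, sliceM_mul (Or.inl fun a b hab => (hrow a b hab).1),
      sliceM_mul (Or.inr fun a b hab => (hrow a b hab).2), sliceM_facS, hj] at e
    obtain ⟨c, hc⟩ : ∃ c : F, ∀ Y, sliceM l u (facS l Y) = Y u u • (1 : Matrix (Off ({l} : Finset σ) → Fin k)
        (Off ({l} : Finset σ) → Fin k) F) := ⟨0, fun Y => by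
      ext x y
      rw [sliceM, blkM, Matrix.submatrix_apply, facS_apply, Matrix.smul_apply, Matrix.one_apply, smul_eq_mul, mul_ite,
        mul_one, mul_zero]
      refine if_congr ⟨fun h => funext fun i => ?_, fun h i _ => by rw [h]⟩
        (by rw [glue_mem _ x (Finset.mem_singleton_self l), glue_mem _ y (Finset.mem_singleton_self l)]) rfl
      have hi : (i : σ) ≠ l := fun e => i.2 (by simp [e])
      simpa [glue_off] using h i hi⟩
    rw [hc, ← slc_val, Matrix.smul_mul, Matrix.one_mul] at e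
    have hu := (slc l u g).isUnit
    generalize hq : ((A l : Matrix (Fin k) (Fin k) F) * ((sg S : GL (Fin k) F) : Matrix (Fin k) (Fin k) F) *
      (((A l)⁻¹ : GL (Fin k) F) : Matrix (Fin k) (Fin k) F)) u u = q at e
    have e' : facS j ((sg S : GL (Fin k) F) : Matrix (Fin k) (Fin k) F) =
        q • (1 : Matrix (Off ({l} : Finset σ) → Fin k) (Off ({l} : Finset σ) → Fin k) F) :=
      hu.mul_left_cancel (by rw [e, Matrix.mul_smul, Matrix.mul_one])
    exact hd.sg_not_scalar hS q (facS_inj j (by rw [e', facS_smul, facS_one]))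
  refine mem_std_of_conj (by have := hd.three; omega) _ fun j => ⟨⟨π j, by simpa using hpres j⟩, fun Y => ?_⟩
  refine ⟨(A (π j) : Matrix (Fin k) (Fin k) F) * Y * (((A (π j))⁻¹ : GL (Fin k) F) : Matrix (Fin k) (Fin k) F), ?_⟩
  have e := congrArg (sliceM l u) (std_facS A π (j : σ) Y)
  rw [← hg, sliceM_mul (Or.inl fun a b hab => (hrow a b hab).1),
    sliceM_mul (Or.inr fun a b hab => (hrow a b hab).2), sliceM_facS,
    show sliceM l u (facS (π j) _) = facS (⟨π j, by simpa using hpres j⟩ : Off ({l} : Finset σ)) _ from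
      sliceM_facS (⟨π j, by simpa using hpres j⟩ : Off ({l} : Finset σ)) u _] at e
  exact e

/-- A matrix commuting with the other slot groups is a slot matrix. -/
theorem Shape.slot_of_commute (hd : Shape d) {l : σ} {G : Matrix (σ → Fin k) (σ → Fin k) F}
    (h : ∀ i, i ≠ l → ∀ g ∈ Om d, G * facS i (g : Matrix (Fin k) (Fin k) F) = facS i (g : Matrix (Fin k) (Fin k) F) * G) :
    ∃ M, G = facS l M := by
  haveI : NeZero k := ⟨by have := hd.three; omega⟩
  obtain ⟨a₀⟩ : Nonempty (σ → Fin k) := ⟨fun _ => 0⟩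
  have hblk : BlkM ({l}ᶜ : Finset σ) G := fun a b hab i hi => by
    by_contra hne
    obtain ⟨c, hc⟩ := hd.slot_entries (h i (by simpa using hi)) a b
    have := hc (a i) (b i)
    rw [Function.update_eq_self, Function.update_eq_self, if_neg hne] at this
    exact hab this
  refine ⟨fibM l G a₀, fibM_ext hblk (facS_blkM l _) fun a => ?_⟩
  rw [fibM_facS]
  ext u v
  rw [fibM_apply, fibM_apply]
  have := eq_of_steps (J := ({l}ᶜ : Finset σ)) (f := fun x => G (Function.update x l u) (Function.update x l v))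
    (fun x i hi w => ?_) (a := a) (b := Function.update a₀ l (a l)) fun j hj => by
      rw [show j = l by simpa using hj, Function.update_self]
  · simpa using this
  · have hi' : i ≠ l := by simpa using hi
    obtain ⟨c, hc⟩ := hd.slot_entries (h i hi') (Function.update x l u) (Function.update x l v)
    have h1 := hc (x i) (x i)
    rw [if_pos rfl] at h1
    have h2 := hc w w
    rw [if_pos rfl] at h2
    show G (Function.update (Function.update x i w) l u) (Function.update (Function.update x i w) l v) = _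
    rw [Function.update_comm hi', Function.update_comm hi', h2, ← h1]
    congr 1 <;> funext j <;> rcases eq_or_ne j i with rfl | hj <;> simp_all [Function.update_of_ne]

/-- An element commuting with the sign of one index is standard. -/
theorem Ctx.stab_std (C : Ctx d X) (hL : Light X) {l : σ} {u : Fin k} [Nonempty (Off ({l} : Finset σ))]
    (hcore : CoreHolds d (Off ({l} : Finset σ))) {g : GL (σ → Fin k) F} (hg : g ∈ X)
    (hc : Commute g (facG l (sg {u}))) : g ∈ Std F k σ := by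
  classical
  have hd := C.shape
  haveI := hd.fact
  haveI : NeZero k := ⟨by have := hd.three; omega⟩
  haveI : Nonempty σ := ⟨l⟩
  have hL' : Light (sliceGrp X l u) := by
    rintro m _ ⟨⟨x, hx, rfl⟩, hy⟩
    refine hd.slc_std (hL (m : σ) ⟨hx, mem_Blk_iff.2 ?_⟩)
    intro i hi S hS
    rw [Finset.mem_singleton] at hi
    subst hi
    have hm : (m : σ) ≠ l := fun e => m.2 (by simp [e])
    obtain ⟨e, he⟩ : ∃ e : ↥(zGrp F k l u), e = ⟨facG (m : σ) (sg S), facG_mem_zGrp hm u _⟩ := ⟨_, rfl⟩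
    have heX : e.1 ∈ X := he ▸ C.sg_mem _ hS
    have hw : slc l u (x * e * x⁻¹ * e⁻¹) = 1 := by
      rw [map_mul, map_mul, map_mul, map_inv, map_inv, show slc l u e = facG m (sg S) by rw [he]; exact slc_facG m _ _,
        (mem_Blk_iff.1 hy m (Finset.mem_singleton_self m) S hS).eq, mul_inv_cancel_right, mul_inv_cancel]
    obtain ⟨h, hh⟩ := C.fix_slot hL
      (fix_of_slc (g := x * e * x⁻¹ * e⁻¹) (mul_mem (mul_mem (mul_mem hx heX) (inv_mem hx)) (inv_mem heX)) hw)
    have hconj : x.1 * facG (m : σ) (sg S) * x.1⁻¹ = facG l h * facG (m : σ) (sg S) := by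
      rw [← hh, he]; simp only [Subgroup.coe_mul, Subgroup.coe_inv]; group
    have hee : facG (m : σ) (sg S : GL (Fin k) F) * facG (m : σ) (sg S) = 1 := by rw [← map_mul, sg_mul_self, map_one]
    have hh2 : h * h = 1 := facG_inj l (by
      have h1 : (x.1 * facG (m : σ) (sg S) * x.1⁻¹) * (x.1 * facG (m : σ) (sg S) * x.1⁻¹) = 1 := by
        rw [show x.1 * facG (m : σ) (sg S) * x.1⁻¹ * (x.1 * facG (m : σ) (sg S) * x.1⁻¹) =
          x.1 * (facG (m : σ) (sg S) * facG (m : σ) (sg S)) * x.1⁻¹ by group, hee, mul_one, mul_inv_cancel]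
      rw [hconj, (facG_commute hm (sg S) h).mul_mul_mul_comm (facG l h) (facG (m : σ) (sg S)), hee, mul_one] at h1
      rw [map_mul, h1, map_one])
    have h1 : h = 1 := twist_one hd hm hS.trace hh2 hconj
    rw [h1, map_one, one_mul] at hconj
    exact mul_inv_eq_iff_eq_mul.1 hconj
  obtain ⟨A, π, hy⟩ := hcore _ (C.sliceGrp_ctx l u) hL' ⟨⟨g, mem_zGrp_iff.2 hc⟩, hg, rfl⟩
  have hyI : pureG A * permG k F π ∈ IsoD (wt (σ := Off ({l} : Finset σ)) d) :=
    hy ▸ slc_iso hd.ne (g := ⟨g, mem_zGrp_iff.2 hc⟩) (C.iso hg)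
  have hne : ∀ j : Off ({l} : Finset σ), (j : σ) ≠ l := fun j e => j.2 (by simp [e])
  obtain ⟨P, hPdef⟩ : ∃ P : Subgroup (GL (Fin k) F), P = if k = 4 then IsoD d else Om d := ⟨_, rfl⟩
  have hOP : Om d ≤ P := by rw [hPdef]; split_ifs <;> [exact om_le d; exact le_rfl]
  have hPX : ∀ i : Off ({l} : Finset σ), ∀ h ∈ P,
      facG ((π i : Off ({l} : Finset σ)) : σ) (A (π i) * h * (A (π i))⁻¹) ∈ X ∧ facG (i : σ) h ∈ X := by
    intro i h hh
    have hconjI : ∀ p ∈ IsoD d, A (π i) * p * (A (π i))⁻¹ ∈ IsoD d := fun p hp => hd.isoD_of_facG (l := π i) (by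
      rw [← std_facG]
      exact mul_mem (mul_mem hyI (facG_iso i hp)) (inv_mem hyI))
    rw [hPdef] at hh
    split_ifs at hh with h4
    · exact ⟨C.ext (h4 ▸ by decide) _ _ (hconjI h hh), C.ext (h4 ▸ by decide) _ _ hh⟩
    · exact ⟨C.omega _ _ (hd.conj_om (fun p hp => hconjI p (om_le d hp)) hh), C.omega _ _ hh⟩
  have hlam : ∀ i : Off ({l} : Finset σ), ∀ h ∈ P, ∃ κ, g * facG (i : σ) h * g⁻¹ =
      facG l κ * facG ((π i : Off ({l} : Finset σ)) : σ) (A (π i) * h * (A (π i))⁻¹) := by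
    intro i h hh
    obtain ⟨e, he⟩ : ∃ e : ↥(zGrp F k l u), e = ⟨facG (i : σ) h, facG_mem_zGrp (hne i) u _⟩ := ⟨_, rfl⟩
    obtain ⟨e', he'⟩ : ∃ e' : ↥(zGrp F k l u),
        e' = ⟨facG ((π i : Off ({l} : Finset σ)) : σ) (A (π i) * h * (A (π i))⁻¹), facG_mem_zGrp (hne _) u _⟩ :=
      ⟨_, rfl⟩
    have heX : e.1 ∈ X ∧ e'.1 ∈ X := ⟨he ▸ (hPX i h hh).2, he' ▸ (hPX i h hh).1⟩
    have hw : slc l u (⟨g, mem_zGrp_iff.2 hc⟩ * e * ⟨g, mem_zGrp_iff.2 hc⟩⁻¹ * e'⁻¹) = 1 := by
      rw [map_mul, map_mul, map_mul, map_inv, map_inv, show slc l u e = facG i h by rw [he]; exact slc_facG i _ _,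
        show slc l u e' = facG (π i) (A (π i) * h * (A (π i))⁻¹) by rw [he']; exact slc_facG (π i) _ _, hy, std_facG,
        mul_inv_cancel]
    obtain ⟨κ, hκ⟩ := C.fix_slot hL (fix_of_slc (g := ⟨g, mem_zGrp_iff.2 hc⟩ * e * ⟨g, mem_zGrp_iff.2 hc⟩⁻¹ * e'⁻¹)
      (mul_mem (mul_mem (mul_mem hg heX.1) (inv_mem hg)) (inv_mem heX.2)) hw)
    refine ⟨κ, ?_⟩
    rw [← hκ, he, he']
    simp only [Subgroup.coe_mul, Subgroup.coe_inv]
    group
  have hgood : ∀ i : Off ({l} : Finset σ), ∀ h ∈ Om d, g * facG (i : σ) h * g⁻¹ =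
      facG ((π i : Off ({l} : Finset σ)) : σ) (A (π i) * h * (A (π i))⁻¹) := by
    intro i
    obtain ⟨Φ, hΦ⟩ : ∃ Φ : GL (Fin k) F →* GL (σ → Fin k) F,
        Φ = (MulAut.conj g).toMonoidHom.comp (facG (i : σ)) := ⟨_, rfl⟩
    obtain ⟨Ψ, hΨ⟩ : ∃ Ψ : GL (Fin k) F →* GL (σ → Fin k) F,
        Ψ = (facG ((π i : Off ({l} : Finset σ)) : σ)).comp (MulAut.conj (A (π i))).toMonoidHom := ⟨_, rfl⟩
    have hΦv : ∀ h, Φ h = g * facG (i : σ) h * g⁻¹ := fun h => by rw [hΦ]; rfl
    have hΨv : ∀ h, Ψ h = facG ((π i : Off ({l} : Finset σ)) : σ) (A (π i) * h * (A (π i))⁻¹) := fun h => by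
      rw [hΨ]; rfl
    have hlam' : ∀ h ∈ P, ∃ κ, Φ h = facG l κ * Ψ h := fun h hh => by rw [hΦv, hΨv]; exact hlam i h hh
    have hcm : ∀ κ h, Commute (facG l κ) (Ψ h) := fun κ h => by
      rw [hΨv]; exact facG_commute (hne _).symm _ _
    obtain ⟨S, hS⟩ := exists_gen (k := k) hd.three
    have hgenP : ∀ T : Finset (Fin k), Gen T → sg T ∈ P := fun T hT => by
      rw [hPdef]
      rcases hT with ⟨h4, -⟩ | ⟨h4, h2, hm⟩
      · rw [if_pos h4]; exact sg_iso d T
      · rw [if_neg h4]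
        obtain ⟨a, b, hab, rfl⟩ := Finset.card_eq_two.1 h2
        exact hd.pair_mem (hm a (by simp)) (hm b (by simp)) hab
    have hgen : ∀ T : Finset (Fin k), Gen T → Φ (sg T) = Ψ (sg T) := by
      intro T hT
      obtain ⟨κ, hκ⟩ := hlam' _ (hgenP T hT)
      have hκ2 : κ * κ = 1 := facG_inj l (by
        have h1 : Φ (sg T) * Φ (sg T) = 1 := by rw [← map_mul, sg_mul_self, map_one]
        rw [hκ, (hcm κ (sg T)).symm.mul_mul_mul_comm (facG l κ) (Ψ (sg T)), ← map_mul Ψ, sg_mul_self, map_one,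
          mul_one] at h1
        rw [map_mul, h1, map_one])
      obtain ⟨τ, hτ⟩ : ∃ τ : Equiv.Perm σ, τ = Equiv.swap (i : σ) ((π i : Off ({l} : Finset σ)) : σ) := ⟨_, rfl⟩
      obtain ⟨r, hr⟩ : ∃ r, r = permG k F τ * facG ((π i : Off ({l} : Finset σ)) : σ) (A (π i))⁻¹ := ⟨_, rfl⟩
      have hperm : ∀ (j : σ) (x : GL (Fin k) F), permG k F τ * facG j x * (permG k F τ)⁻¹ = facG (τ j) x := by
        intro j x
        refine mul_inv_eq_iff_eq_mul.2 (Units.ext ?_)
        rw [Units.val_mul, Units.val_mul, facG_val, facG_val, permG_val, permS_facS]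
      have hr1 : ∀ x, r * facG l x * r⁻¹ = facG l x := fun x => by
        rw [hr]
        have c : Commute (facG ((π i : Off ({l} : Finset σ)) : σ) (A (π i))⁻¹) (facG l x) := facG_commute (hne _) _ _
        calc _ = permG k F τ * (facG ((π i : Off ({l} : Finset σ)) : σ) (A (π i))⁻¹ * facG l x *
              (facG ((π i : Off ({l} : Finset σ)) : σ) (A (π i))⁻¹)⁻¹) * (permG k F τ)⁻¹ := by group
          _ = _ := by rw [c.eq, mul_inv_cancel_right, hperm, hτ, Equiv.swap_apply_of_ne_of_ne (hne _).symm (hne _).symm]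
      have hr2 : r * Ψ (sg T) * r⁻¹ = facG (i : σ) (sg T) := by
        rw [hr, hΨv]
        simp only [map_mul, map_inv]
        calc _ = permG k F τ * facG ((π i : Off ({l} : Finset σ)) : σ) (sg T) * (permG k F τ)⁻¹ := by group
          _ = _ := by rw [hperm, hτ, Equiv.swap_apply_right]
      have h1 : κ = 1 := by
        refine twist_one hd (hne i) hT.trace hκ2 (g := r * g) ?_
        calc r * g * facG (i : σ) (sg T) * (r * g)⁻¹ = r * Φ (sg T) * r⁻¹ := by rw [hΦv]; group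
          _ = (r * facG l κ * r⁻¹) * (r * Ψ (sg T) * r⁻¹) := by rw [hκ]; group
          _ = _ := by rw [hr1, hr2]
      rw [hκ, h1, map_one, one_mul]
    obtain ⟨N, hN⟩ : ∃ N, N = Om d ⊓ MonoidHom.eqLocus Φ Ψ := ⟨_, rfl⟩
    rcases hd.om_cases (N := N) (hN ▸ inf_le_left) (fun x hx p hp => by
        rw [hN, Subgroup.mem_inf] at hp ⊢
        refine ⟨mul_mem (mul_mem hx hp.1) (inv_mem hx), ?_⟩
        obtain ⟨κ, hκ⟩ := hlam' x (hOP hx)
        show Φ _ = Ψ _
        rw [map_mul, map_mul, map_inv, show Φ p = Ψ p from hp.2, hκ, map_mul, map_mul, map_inv]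
        calc facG l κ * Ψ x * Ψ p * (facG l κ * Ψ x)⁻¹ = facG l κ * (Ψ x * Ψ p * (Ψ x)⁻¹) * (facG l κ)⁻¹ := by group
          _ = _ := by
            rw [← map_inv Ψ, ← map_mul, ← map_mul, (hcm κ _).eq, mul_inv_cancel_right]) with hNe | hNe
    · intro h hh
      have := (hNe.symm ▸ hh : h ∈ N)
      rw [hN] at this
      have h' : Φ h = Ψ h := this.2
      rwa [hΦv, hΨv] at h'
    · exfalso
      obtain ⟨a, ha, -, -⟩ := hd.exists_main_avoid ⟨0, by have := hd.three; omega⟩ ⟨0, by have := hd.three; omega⟩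
      obtain ⟨b, hb, hba, -⟩ := hd.exists_main_avoid a a
      obtain ⟨w, hw, hwa, hwb⟩ := hd.exists_main_avoid a b
      obtain ⟨c, hc'⟩ := hNe (sg {a, b}) (by
        rw [hN, Subgroup.mem_inf]
        refine ⟨hd.pair_mem ha hb hba.symm, show Φ _ = Ψ _ from ?_⟩
        by_cases h4 : k = 4
        · have e1 : (sg {a, b} : GL (Fin k) F) = sg {a} * sg {b} := Units.ext (by
            rw [Units.val_mul, sg_val, sg_val, sg_val, Matrix.diagonal_mul_diagonal]
            refine congrArg _ (funext fun j => ?_)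
            simp only [sv, Finset.mem_insert, Finset.mem_singleton]
            by_cases e1 : j = a <;> by_cases e2 : j = b <;> simp_all)
          rw [e1, map_mul, map_mul, hgen _ (Or.inl ⟨h4, rfl⟩), hgen _ (Or.inl ⟨h4, rfl⟩)]
        · exact hgen _ (Or.inr ⟨h4, Finset.card_pair hba.symm, by simp [ha, hb]⟩))
      have eu := congrFun (congrFun hc' a) a
      have ew := congrFun (congrFun hc' w) w
      simp [sg_val, sv] at eu
      simp [sg_val, sv, hwa, hwb] at ew
      rw [← ew] at eu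
      exact hd.two (by linear_combination -eu)
  -- the lift differs by an element of one slot
  obtain ⟨A', hA'⟩ : ∃ A' : σ → GL (Fin k) F,
      A' = fun j => if h : j ∈ ({l} : Finset σ) then 1 else A ⟨j, h⟩ := ⟨_, rfl⟩
  obtain ⟨g', hg'⟩ : ∃ g', g' = pureG A' * permG k F π.ofSubtype := ⟨_, rfl⟩
  have hg's : g' ∈ Std F k σ := ⟨A', _, hg'⟩
  obtain ⟨M, hM⟩ := hd.slot_of_commute (l := l)
    (G := ((g'⁻¹ * g : GL (σ → Fin k) F) : Matrix (σ → Fin k) (σ → Fin k) F)) fun i hi h hh => by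
      have e : g' * facG i h * g'⁻¹ = g * facG i h * g⁻¹ := by
        rw [hgood ⟨i, by simpa using hi⟩ h hh, hg', std_facG,
          Equiv.Perm.ofSubtype_apply_of_mem π (show i ∉ ({l} : Finset σ) by simpa using hi), hA']
        congr 1
        simp only [dif_neg (π ⟨i, by simpa using hi⟩).2]
      have hc' : Commute (g'⁻¹ * g) (facG i h) := by
        show g'⁻¹ * g * facG i h = facG i h * (g'⁻¹ * g)
        calc g'⁻¹ * g * facG i h = g'⁻¹ * (g * facG i h * g⁻¹) * g := by group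
          _ = g'⁻¹ * (g' * facG i h * g'⁻¹) * g := by rw [e]
          _ = _ := by group
      have := congrArg Units.val hc'.eq
      rwa [Units.val_mul _ (facG i h), Units.val_mul (facG i h), facG_val] at this
  have hMu : IsUnit M := by
    obtain ⟨a⟩ : Nonempty (σ → Fin k) := ⟨fun _ => 0⟩
    refine IsUnit.of_mul_eq_one (fibM l ((g'⁻¹ * g)⁻¹ : GL (σ → Fin k) F).val a) ?_
    have hb : BlkM ({l}ᶜ : Finset σ) (Units.val (g'⁻¹ * g)) := hM ▸ facS_blkM l M
    have := fibM_mul hb ((g'⁻¹ * g)⁻¹ : GL (σ → Fin k) F).val a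
    rw [← Units.val_mul, mul_inv_cancel, Units.val_one, hM, fibM_facS] at this
    rw [← this, ← facS_one l, fibM_facS]
  have : g'⁻¹ * g = facG l hMu.unit := Units.ext (by rw [hM, facG_val, IsUnit.unit_spec])
  rw [show g = g' * (g'⁻¹ * g) by group, this]
  exact mul_mem hg's (facG_mem l _)

end Cfsg.Agent.Classical.OTPow
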