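/-
Standard conjugates of a slot reflection, and the elements moving one slot reflection to another.
-/
import Cfsg.Agent.Lib.Classical.OTPow.Sig
import Cfsg.Agent.Lib.Classical.OTPow.Stab

set_option autoImplicit false
set_option linter.unusedSectionVars false

namespace Cfsg.Agent.Classical.OTPow

open Matrix

variable {F : Type*} [Field F] {k : ℕ} {σ : Type} [Fintype σ] [DecidableEq σ]
  {d : Fin k → F} {X : Subgroup (GL (σ → Fin k) F)}

/-- The signs of the distinguished involution of index `u`. -/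
def zset (u : Fin k) : Finset (Fin k) := if Odd k then ({u} : Finset (Fin k))ᶜ else {u}

/-- The distinguished involution of a slot. -/
def zz (u : Fin k) : GL (Fin k) F := sg (zset u)

theorem zz_sv (u i : Fin k) : (sv (zset u) i : F) = (if Odd k then -1 else 1) * sv {u} i := by
  unfold zset sv
  by_cases h : Odd k <;> by_cases hi : i = u <;> simp [h, hi]

theorem commute_zz {g : GL (σ → Fin k) F} {l : σ} {u : Fin k} :
    Commute g (facG l (zz u)) ↔ Commute g (facG l (sg {u})) := by
  have e : ((facG l (zz u) : GL (σ → Fin k) F) : Matrix (σ → Fin k) (σ → Fin k) F) =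
      (if Odd k then -1 else 1 : F) • ((facG l (sg {u}) : GL (σ → Fin k) F) : Matrix (σ → Fin k) (σ → Fin k) F) := by
    rw [zz, facG_sg_val, facG_sg_val, ← Matrix.diagonal_smul]
    exact congrArg _ (funext fun a => by rw [zz_sv, Pi.smul_apply, smul_eq_mul])
  have hc : (if Odd k then -1 else 1 : F) ≠ 0 := by split_ifs <;> simp
  constructor <;> intro h <;> refine Units.ext ?_
  · have h' := congrArg Units.val h.eq
    rw [Units.val_mul, Units.val_mul, e, Matrix.mul_smul, Matrix.smul_mul] at h'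
    rw [Units.val_mul, Units.val_mul]
    exact smul_right_injective _ hc h'
  · rw [Units.val_mul, Units.val_mul, e, Matrix.mul_smul, Matrix.smul_mul]
    exact congrArg _ (congrArg Units.val h.eq)

theorem sv_mul_insert {a b : Fin k} (hab : a ≠ b) (i : Fin k) :
    (sv {a, b} i : F) = sv {a} i * sv {b} i := by
  unfold sv
  by_cases h1 : i = a
  · subst h1; simp [hab]
  · by_cases h2 : i = b
    · subst h2; simp [h1]
    · simp [h1, h2]

theorem compl_single_three : ∀ {a b c : Fin 3}, a ≠ b → a ≠ c → b ≠ c → ({c} : Finset (Fin 3))ᶜ = {a, b} := by decide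

theorem sg_pair_eq {a b : Fin k} (hab : a ≠ b) : (sg {a, b} : GL (Fin k) F) = sg {a} * sg {b} :=
  Units.ext (by
    rw [Units.val_mul, sg_val, sg_val, sg_val, Matrix.diagonal_mul_diagonal]
    exact congrArg _ (funext fun i => sv_mul_insert hab i))

theorem sg_pair_zz {a b : Fin k} (hab : a ≠ b) : (sg {a, b} : GL (Fin k) F) = zz a * zz b :=
  Units.ext (by
    rw [zz, zz, Units.val_mul, sg_val, sg_val, sg_val, Matrix.diagonal_mul_diagonal]
    refine congrArg _ (funext fun i => ?_)
    rw [zz_sv, zz_sv, sv_mul_insert hab]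
    split_ifs <;> ring)

/-- Standard elements have one permutation. -/
theorem std_perm_unique [Fintype F] (hd : Shape d) {A B : σ → GL (Fin k) F} {π τ : Equiv.Perm σ}
    (e : pureG A * permG k F π = pureG B * permG k F τ) : π = τ := by
  haveI : NeZero k := ⟨by have := hd.three; omega⟩
  refine Equiv.ext fun j => by_contra fun hne => ?_
  obtain ⟨S, hS⟩ := exists_gen (k := k) hd.three
  have h := std_facG A π j (sg S)
  rw [e, std_facG] at h
  have h' := congrArg Units.val h
  rw [facG_val, facG_val] at h'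
  obtain ⟨c, hc⟩ := facS_eq_facS (Ne.symm hne) h'
  have h3 : ((B (τ j) * sg S * (B (τ j))⁻¹ : GL (Fin k) F) : Matrix (Fin k) (Fin k) F) = c • 1 :=
    hc
  refine hd.sg_not_scalar hS c ?_
  have e1 : (sg S : GL (Fin k) F) = (B (τ j))⁻¹ * (B (τ j) * sg S * (B (τ j))⁻¹) * B (τ j) := by group
  rw [e1, Units.val_mul, Units.val_mul, h3, Matrix.mul_smul, Matrix.mul_one, Matrix.smul_mul, Units.inv_mul]

theorem exists_facG {l : σ} [NeZero k] {g : GL (σ → Fin k) F} {M : Matrix (Fin k) (Fin k) F}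
    (h : (g : Matrix (σ → Fin k) (σ → Fin k) F) = facS l M) : ∃ x, g = facG l x := by
  have hu : IsUnit M := by
    obtain ⟨a⟩ : Nonempty (σ → Fin k) := ⟨fun _ => 0⟩
    refine IsUnit.of_mul_eq_one (fibM l ((g⁻¹ : GL (σ → Fin k) F).val) a) ?_
    have := fibM_mul (h ▸ facS_blkM l M) (g⁻¹ : GL (σ → Fin k) F).val a
    rw [← Units.val_mul, mul_inv_cancel, Units.val_one, h, fibM_facS] at this
    rw [← this, ← facS_one l, fibM_facS]
  exact ⟨hu.unit, Units.ext (by rw [facG_val, h, IsUnit.unit_spec])⟩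

theorem sig_facG_sg [DecidableEq F] (h2 : (2 : F) ≠ 0) (l : σ) (S : Finset (Fin k)) :
    sig (facG l (sg S) : GL (σ → Fin k) F) = ((k : ℤ) - 2 * S.card) * (k : ℤ) ^ (Fintype.card σ - 1) := by
  obtain ⟨v, hv⟩ : ∃ v : σ → Fin k → F, v = fun j => if j = l then sv S else fun _ => 1 := ⟨_, rfl⟩
  have hv1 : ∀ j u, v j u * v j u = 1 := fun j u => by
    rw [hv]; dsimp only; split_ifs <;> simp [sv_sq]
  rw [sig_diag h2 (f := fun a => ∏ j, v j (a j)) (fun a => by rw [← Finset.prod_mul_distrib]; simp [hv1]),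
    ztr_prod h2 hv1, ← Finset.mul_prod_erase _ _ (Finset.mem_univ l), Finset.prod_congr rfl
      (fun j hj => by simp [hv, Finset.ne_of_mem_erase hj, ztr, sgn_one] :
        ∀ j ∈ Finset.univ.erase l, ztr (v j) = (k : ℤ)), Finset.prod_const, Finset.card_erase_of_mem (Finset.mem_univ l),
    Finset.card_univ, hv]
  · simp [ztr_sv h2]
  · rw [facG_sg_val]
    refine congrArg _ (funext fun a => ?_)
    rw [Finset.prod_eq_single l (fun j _ hj => by simp [hv, hj]) (by simp), hv]
    simp

/-- The absolute signature of the distinguished involutions. -/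
theorem abs_sig_zz (h2 : (2 : F) ≠ 0) (hk : 3 ≤ k) (l : σ) (u : Fin k) :
    |sig (facG l (zz u) : GL (σ → Fin k) F)| = ((k : ℤ) - 2) * (k : ℤ) ^ (Fintype.card σ - 1) := by
  classical
  rw [zz, sig_facG_sg h2, abs_mul, abs_pow, Nat.abs_cast]
  congr 1
  unfold zset
  split_ifs
  · rw [Finset.card_compl, Finset.card_singleton, Fintype.card_fin, abs_of_nonpos (by omega)]
    push_cast [Nat.cast_sub (show 1 ≤ k by omega)]
    ring
  · rw [Finset.card_singleton, abs_of_nonneg (by omega)]
    push_cast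
    ring

variable [Fintype F]

theorem Shape.pair_not_scalar (hd : Shape d) {a b : Fin k} (hab : a ≠ b) (c : F) :
    ((sg {a, b} : GL (Fin k) F) : Matrix (Fin k) (Fin k) F) ≠ c • 1 := by
  intro h
  obtain ⟨w, hwa, hwb⟩ := exists_third hd.three a b
  have ea := congrFun (congrFun h a) a
  have ew := congrFun (congrFun h w) w
  simp [sg_val, sv] at ea
  simp [sg_val, sv, hwa, hwb] at ew
  rw [← ew] at ea
  exact hd.two (by linear_combination -ea)

theorem Shape.sg_even_mem (hd : Shape d) {S : Finset (Fin k)} (hev : Even S.card) (hm : ∀ i ∈ S, Main i) :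
    (sg S : GL (Fin k) F) ∈ Om d := by
  induction h : S.card using Nat.strong_induction_on generalizing S with
  | _ n ih =>
    rcases Nat.eq_zero_or_pos n with rfl | hn
    · rw [Finset.card_eq_zero.1 h]
      convert one_mem (Om d)
      exact Units.ext (by rw [sg_val, Units.val_one, ← Matrix.diagonal_one]; rfl)
    obtain ⟨a, ha, b, hb, hab⟩ := Finset.one_lt_card.1 (show 1 < S.card by obtain ⟨r, hr⟩ := hev; omega)
    have hc : ((S.erase a).erase b).card + 2 = n := by
      have := Finset.one_lt_card.2 ⟨a, ha, b, hb, hab⟩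
      rw [Finset.card_erase_of_mem (Finset.mem_erase.2 ⟨hab.symm, hb⟩), Finset.card_erase_of_mem ha]; omega
    have e : (sg S : GL (Fin k) F) = sg {a, b} * sg ((S.erase a).erase b) := Units.ext (by
      rw [Units.val_mul, sg_val, sg_val, sg_val, Matrix.diagonal_mul_diagonal]
      refine congrArg _ (funext fun i => ?_)
      unfold sv
      by_cases h1 : i = a
      · subst h1; simp [ha, hab]
      · by_cases h2 : i = b
        · subst h2; simp [hb, h1]
        · simp [h1, h2])
    rw [e]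
    refine mul_mem (hd.pair_mem (hm a ha) (hm b hb) hab) (ih _ (by omega) ?_ (fun i hi =>
      hm i (Finset.mem_of_mem_erase (Finset.mem_of_mem_erase hi))) rfl)
    obtain ⟨r, hr⟩ := hev
    exact ⟨r - 1, by omega⟩

theorem Shape.zz_mem_om (hd : Shape d) (hodd : Odd k) (u : Fin k) : (zz u : GL (Fin k) F) ∈ Om d := by
  refine hd.sg_even_mem ?_ fun i _ => Or.inr hodd
  rw [zset, if_pos hodd, Finset.card_compl, Finset.card_singleton, Fintype.card_fin]
  obtain ⟨r, hr⟩ := hodd
  exact ⟨r, by omega⟩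

theorem Ctx.zz_mem (C : Ctx d X) (l : σ) (u : Fin k) : facG l (zz u) ∈ X := by
  rcases Nat.even_or_odd k with h | h
  · exact C.ext h l _ (sg_iso d _)
  · exact C.omega l _ (C.shape.zz_mem_om h u)

theorem Shape.zz_not_scalar (hd : Shape d) (u : Fin k) (c : F) :
    ((zz u : GL (Fin k) F) : Matrix (Fin k) (Fin k) F) ≠ c • 1 := by
  intro h
  obtain ⟨v, hvu, -⟩ := exists_third hd.three u u
  have eu := congrFun (congrFun h u) u
  have ev := congrFun (congrFun h v) v
  simp [zz, sg_val, zz_sv] at eu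
  simp [zz, sg_val, zz_sv] at ev
  simp [sv] at eu
  simp [sv, hvu] at ev
  have h0 : (if Odd k then (-1 : F) else 1) ≠ 0 := by split_ifs <;> simp
  have : (2 : F) * (if Odd k then (-1 : F) else 1) = 0 := by
    split_ifs at eu ev ⊢ <;> first | linear_combination ev - eu | linear_combination eu - ev
  exact (mul_eq_zero.1 this).elim hd.two h0

/-- A standard involution with the signature of a slot reflection is one, or swaps two slots for `k = 3`. -/
theorem Shape.std_cases [Nonempty σ] (hd : Shape d) {A : σ → GL (Fin k) F} {π : Equiv.Perm σ}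
    (hinv : (pureG A * permG k F π) * (pureG A * permG k F π) = 1)
    (hs : |sig (pureG A * permG k F π)| = ((k : ℤ) - 2) * (k : ℤ) ^ (Fintype.card σ - 1)) :
    (π = 1 ∧ ∃ m h, pureG A * permG k F π = facG m h) ∨
      (k = 3 ∧ ∃ m n, m ≠ n ∧ π = Equiv.swap m n ∧
        ∀ j, j ≠ m → j ≠ n → ∃ c : F, (A j : Matrix (Fin k) (Fin k) F) = c • 1) := by
  classical
  haveI : NeZero k := ⟨by have := hd.three; omega⟩
  obtain ⟨hππ, R, s, hR, hR', hcard, hsig, hfix⟩ := std_sig hd hinv
  have hk := hd.three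
  obtain ⟨Fx, hFx⟩ : ∃ Fx : Finset σ, Fx = Finset.univ.filter (fun j => π j = j) := ⟨_, rfl⟩
  rw [← hFx] at hsig hcard
  have hmem : ∀ j, j ∈ Fx ↔ π j = j := fun j => by simp [hFx]
  have hnat : (k - 2) * k ^ (Fintype.card σ - 1) = k ^ R.card * ∏ j ∈ Fx, s j := by
    have h := hs.symm.trans hsig
    have e : ((k : ℤ) - 2) = ((k - 2 : ℕ) : ℤ) := by omega
    rw [e] at h
    exact_mod_cast h
  have hle : ∏ j ∈ Fx, s j ≤ k ^ Fx.card := Finset.prod_le_pow_card _ _ _ fun j hj => (hfix j ((hmem j).1 hj)).1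
  have hpos : 1 ≤ Fintype.card σ := Fintype.card_pos
  by_cases hR2 : 2 ≤ R.card
  · exfalso
    have h1 : (k - 2) * k ^ (Fintype.card σ - 1) ≤ k ^ (R.card + Fx.card) := by
      rw [hnat, pow_add]; exact Nat.mul_le_mul_left _ hle
    have h3 : k ^ (R.card + Fx.card) * k ≤ k ^ (Fintype.card σ - 1) := by
      rw [← pow_succ]; exact Nat.pow_le_pow_right (by omega) (by omega)
    have h4 := (Nat.mul_le_mul_right k h1).trans h3
    have h5 : 0 < k ^ (Fintype.card σ - 1) := pow_pos (by omega) _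
    have h6 : 2 ≤ (k - 2) * k := (show 2 ≤ 1 * k by omega).trans (Nat.mul_le_mul_right k (by omega))
    nlinarith [Nat.mul_le_mul_right (k ^ (Fintype.card σ - 1)) h6]
  rcases (show R.card = 0 ∨ R.card = 1 by omega) with h0 | h1
  · -- no slot moves
    have hπ : π = 1 := Equiv.ext fun j => by
      rw [Equiv.Perm.one_apply]
      by_contra hj
      rw [Finset.card_eq_zero] at h0
      have h1 := hR j hj
      have hj' : π (π j) ≠ π j := fun h => hj (π.injective h)
      have h2 := hR (π j) hj'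
      have hππj : π (π j) = j := by rw [← Equiv.Perm.mul_apply, hππ, Equiv.Perm.one_apply]
      rw [hππj] at h2
      simp [h0] at h1
    left
    subst hπ
    have hall : Fx = Finset.univ := by rw [hFx]; simp
    rw [hall, Finset.card_univ] at hle
    rw [hall, h0, pow_zero, one_mul] at hnat
    obtain ⟨m, hm⟩ : ∃ m, s m ≠ k := by
      by_contra hcon
      push Not at hcon
      rw [Finset.prod_congr rfl fun j _ => hcon j, Finset.prod_const, Finset.card_univ] at hnat
      rw [show k ^ Fintype.card σ = k * k ^ (Fintype.card σ - 1) by rw [← pow_succ', Nat.sub_add_cancel hpos]] at hnat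
      have := Nat.eq_of_mul_eq_mul_right (pow_pos (by omega) _) hnat
      omega
    have huniq : ∀ j, j ≠ m → s j = k := by
      intro j hj
      by_contra hne
      have hb : ∀ i, s i ≠ k → s i ≤ k - 2 := fun i hi => by
        obtain ⟨h1, ⟨r, hr⟩, -⟩ := hfix i rfl
        omega
      have h1 : ∏ i, s i ≤ (k - 2) * (k - 2) * k ^ (Fintype.card σ - 2) := by
        rw [← Finset.mul_prod_erase _ _ (Finset.mem_univ m),
          ← Finset.mul_prod_erase _ _ (Finset.mem_erase.2 ⟨hj, Finset.mem_univ j⟩), ← mul_assoc]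
        refine Nat.mul_le_mul (Nat.mul_le_mul (hb m hm) (hb j hne)) ?_
        refine (Finset.prod_le_pow_card _ _ _ fun i _ => (hfix i rfl).1).trans (le_of_eq ?_)
        rw [Finset.card_erase_of_mem (Finset.mem_erase.2 ⟨hj, Finset.mem_univ j⟩),
          Finset.card_erase_of_mem (Finset.mem_univ m), Finset.card_univ, Nat.sub_sub]
      rw [← hnat] at h1
      have h2 : 2 ≤ Fintype.card σ := by
        have := Finset.card_le_univ ({m, j} : Finset σ); rw [Finset.card_pair (Ne.symm hj)] at this; exact this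
      rw [show k ^ (Fintype.card σ - 1) = k * k ^ (Fintype.card σ - 2) by
        rw [← pow_succ']; congr 1; omega, ← mul_assoc] at h1
      have h3 := Nat.le_of_mul_le_mul_right h1 (pow_pos (by omega) _)
      have h4 := Nat.le_of_mul_le_mul_left h3 (by omega)
      omega
    refine ⟨rfl, m, ?_⟩
    choose! c hc using fun j (hj : j ≠ m) => (hfix j rfl).2.2 (huniq j hj)
    obtain ⟨e, he⟩ : ∃ e : F, e = ∏ j ∈ Finset.univ.erase m, c j := ⟨_, rfl⟩
    refine exists_facG (M := e • (A m : Matrix (Fin k) (Fin k) F)) ?_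
    rw [map_one, mul_one, pureG_val]
    have hsplit : (fun j => (A j : Matrix (Fin k) (Fin k) F)) =
        fun j => Function.update c m 1 j • Function.update (1 : σ → Matrix (Fin k) (Fin k) F) m (A m) j := by
      funext j
      rcases eq_or_ne j m with rfl | hj
      · simp
      · simp [hj, hc j hj]
    rw [hsplit, pureS_smul', facS_smul, facS]
    congr 1
    rw [he, ← Finset.mul_prod_erase _ _ (Finset.mem_univ m), Function.update_self, one_mul]
    exact Finset.prod_congr rfl fun j hj => by rw [Function.update_of_ne (Finset.ne_of_mem_erase hj)]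
  · -- one pair of slots moves
    obtain ⟨m, hm⟩ := Finset.card_eq_one.1 h1
    have hmm : π m ≠ m := hR' m (by rw [hm]; exact Finset.mem_singleton_self m)
    have hπ : π = Equiv.swap m (π m) := Equiv.ext fun j => by
      have hmπ : π (π m) = m := by rw [← Equiv.Perm.mul_apply, hππ, Equiv.Perm.one_apply]
      by_cases hj : π j = j
      · rw [hj, Equiv.swap_apply_of_ne_of_ne (fun e => hmm (by rw [← e]; exact hj))]
        intro e
        rw [e, hmπ] at hj
        exact hmm hj.symm
      · have hh := hR j hj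
        by_cases hjm : j = m
        · rw [hjm, Equiv.swap_apply_left]
        · have : π j = m := by
            by_contra hne
            exact hjm (Finset.mem_singleton.1 (hm ▸ hh.2 (by rw [hm]; simpa using hne)))
          rw [this, show j = π m by rw [← this, ← Equiv.Perm.mul_apply, hππ, Equiv.Perm.one_apply],
            Equiv.swap_apply_right]
    have hcard' : Fx.card + 1 = Fintype.card σ - 1 := by omega
    rw [h1, pow_one] at hnat
    have hk3 : k = 3 := by
      have : (k - 2) * k ^ (Fintype.card σ - 1) ≤ k ^ (Fintype.card σ - 1) := by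
        rw [hnat, ← hcard', pow_succ']; exact Nat.mul_le_mul_left _ hle
      have := Nat.le_of_mul_le_mul_right (this.trans (one_mul _).ge) (pow_pos (by omega) _)
      omega
    refine Or.inr ⟨hk3, m, π m, Ne.symm hmm, hπ, fun j hjm hjn => ?_⟩
    have hj : π j = j := by rw [hπ]; exact Equiv.swap_apply_of_ne_of_ne hjm hjn
    refine (hfix j hj).2.2 (by_contra fun hne => ?_)
    have hlt : s j < k := lt_of_le_of_ne (hfix j hj).1 hne
    rw [← Finset.mul_prod_erase _ _ ((hmem j).2 hj), ← hcard', pow_succ'] at hnat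
    have hb : ∏ i ∈ Fx.erase j, s i ≤ k ^ (Fx.card - 1) := by
      refine (Finset.prod_le_pow_card _ _ _ fun i hi => (hfix i ((hmem i).1 (Finset.mem_of_mem_erase hi))).1).trans
        (le_of_eq ?_)
      rw [Finset.card_erase_of_mem ((hmem j).2 hj)]
    rw [show k - 2 = 1 by omega, one_mul] at hnat
    have hpow : 0 < k ^ (Fx.card - 1) := pow_pos (by omega) _
    have hF1 : 1 ≤ Fx.card := Finset.card_pos.2 ⟨j, (hmem j).2 hj⟩
    rw [show k ^ Fx.card = k * k ^ (Fx.card - 1) by rw [← pow_succ']; congr 1; omega] at hnat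
    have h3 := Nat.eq_of_mul_eq_mul_left (show 0 < k by omega) hnat
    have h4 : s j * ∏ i ∈ Fx.erase j, s i ≤ s j * k ^ (Fx.card - 1) := Nat.mul_le_mul_left _ hb
    have h5 := Nat.mul_lt_mul_of_lt_of_le hlt le_rfl hpow
    omega

/-- The standard elements fixing the slots are normalised by the standard ones. -/
theorem pure_normal {g x : GL (σ → Fin k) F} (hg : g ∈ Std F k σ) (hx : x ∈ (pureG (F := F) (k := k) (σ := σ)).range) :
    g * x * g⁻¹ ∈ (pureG (F := F) (k := k) (σ := σ)).range := by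
  obtain ⟨A, π, rfl⟩ := hg
  obtain ⟨B, rfl⟩ := hx
  refine ⟨A * (fun j => B (π.symm j)) * A⁻¹, ?_⟩
  rw [map_mul, map_mul, map_inv]
  calc pureG A * pureG (fun j => B (π.symm j)) * (pureG A)⁻¹ =
      pureG A * (pureG (fun j => B (π.symm j)) * permG k F π) * (pureG A * permG k F π)⁻¹ := by group
    _ = pureG A * (permG k F π * pureG B) * (pureG A * permG k F π)⁻¹ := by rw [perm_pure]
    _ = _ := by group

/-- Perfect images of a slot group in one slot fill it. -/
theorem Shape.slot_image (hd : Shape d) {w : GL (σ → Fin k) F} (hw : w ∈ IsoD (wt d)) {i j : σ}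
    (h : ∀ f ∈ Om d, ∃ f', w * facG i f * w⁻¹ = facG j f') :
    (∀ f ∈ Om d, ∃ f' ∈ Om d, w * facG i f * w⁻¹ = facG j f') ∧
      ∀ f' ∈ Om d, ∃ f ∈ Om d, w * facG i f * w⁻¹ = facG j f' := by
  classical
  haveI : NeZero k := ⟨by have := hd.three; omega⟩
  obtain ⟨H, hH⟩ : ∃ H : Subgroup (GL (Fin k) F),
      H = (((Om d).map (facG i)).map (MulAut.conj w).toMonoidHom).comap (facG j) := ⟨_, rfl⟩
  have hmem : ∀ f', f' ∈ H ↔ ∃ f ∈ Om d, w * facG i f * w⁻¹ = facG j f' := fun f' => by
    rw [hH, Subgroup.mem_comap]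
    constructor
    · rintro ⟨_, ⟨f, hf, rfl⟩, e⟩; exact ⟨f, hf, e⟩
    · rintro ⟨f, hf, e⟩; exact ⟨_, ⟨f, hf, rfl⟩, e⟩
  have hHI : H ≤ IsoD d := fun f' hf' => by
    obtain ⟨f, hf, e⟩ := (hmem f').1 hf'
    exact hd.isoD_of_facG (l := j) (e ▸ mul_mem (mul_mem hw (facG_iso i (om_le d hf))) (inv_mem hw))
  have hmap : H.map (facG j) = ((Om d).map (facG i)).map (MulAut.conj w).toMonoidHom := by
    rw [hH, Subgroup.map_comap_eq]
    refine inf_eq_right.2 ?_
    rintro _ ⟨_, ⟨f, hf, rfl⟩, rfl⟩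
    obtain ⟨f', hf'⟩ := h f hf
    exact ⟨f', hf'.symm⟩
  have hHp : ⁅H, H⁆ = H := Subgroup.map_injective (facG_inj j) (by
    rw [Subgroup.map_commutator, hmap, ← Subgroup.map_commutator, ← Subgroup.map_commutator, hd.om_perfect])
  have hHO : H ≤ Om d := om_absorb hHI hHp
  have hcard : Nat.card ↥H = Nat.card ↥(Om d) := by
    rw [← Subgroup.card_map_of_injective (facG_inj (k := k) (F := F) j), hmap,
      Subgroup.card_map_of_injective (MulAut.conj w).injective, Subgroup.card_map_of_injective (facG_inj (k := k) (F := F) i)]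
  have hHeq : H = Om d := Subgroup.eq_of_le_of_card_ge hHO hcard.ge
  exact ⟨fun f hf => by
    obtain ⟨f', hf'⟩ := h f hf
    exact ⟨f', hHeq ▸ (hmem f').2 ⟨f, hf, hf'⟩, hf'⟩, fun f' hf' => (hmem f').1 (hHeq.symm ▸ hf')⟩

/-- An element moving a distinguished involution to a slot is standard. -/
theorem Ctx.move (C : Ctx d X) (hL : Light X) [Nontrivial σ] (hcore : ∀ l : σ, CoreHolds d (Off ({l} : Finset σ)))
    {g : GL (σ → Fin k) F} (hg : g ∈ X) {l m : σ} {u : Fin k} {h : GL (Fin k) F}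
    (ht : g * facG l (zz u) * g⁻¹ = facG m h) : g ∈ Std F k σ := by
  classical
  have hd := C.shape
  have hk := hd.three
  haveI : NeZero k := ⟨by omega⟩
  haveI : Nonempty σ := ⟨l⟩
  haveI : Nonempty (Off ({l} : Finset σ)) := by
    obtain ⟨b, hb⟩ := exists_ne l
    exact ⟨⟨b, by simpa using hb⟩⟩
  obtain ⟨w, hw⟩ : ∃ w, w = g⁻¹ := ⟨_, rfl⟩
  have hwX : w ∈ X := hw ▸ inv_mem hg
  have hz : facG l (zz u) = w * facG m h * w⁻¹ := by rw [← ht, hw]; group
  have hP : ∀ i, i ≠ m → ∀ f, facG i f ∈ X → w * facG i f * w⁻¹ ∈ Std F k σ := by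
    intro i hi f hf
    refine C.stab_std hL (hcore l) (mul_mem (mul_mem hwX hf) (inv_mem hwX)) (u := u) (commute_zz.1 ?_)
    rw [hz]
    exact (facG_commute hi f h).map (MulAut.conj w).toMonoidHom
  have hcase : ∀ i, i ≠ m → ∀ a : Fin k, ∃ A π, w * facG i (zz a) * w⁻¹ = pureG A * permG k F π ∧
      ((π = 1 ∧ ∃ j x, w * facG i (zz a) * w⁻¹ = facG j x) ∨ k = 3 ∧ ∃ p q, p ≠ q ∧ π = Equiv.swap p q) := by
    intro i hi a
    obtain ⟨A, π, e⟩ := hP i hi _ (C.zz_mem i a)
    have hsq : (zz a : GL (Fin k) F) * zz a = 1 := sg_mul_self _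
    refine ⟨A, π, e, ?_⟩
    rcases hd.std_cases (A := A) (π := π) (by
        rw [← e, show w * facG i (zz a) * w⁻¹ * (w * facG i (zz a) * w⁻¹) = w * (facG i (zz a) * facG i (zz a)) * w⁻¹
          by group, ← map_mul, hsq, map_one, mul_one, mul_inv_cancel])
        (by rw [← e, sig_conj, abs_sig_zz hd.two hk]) with ⟨h1, j, x, hx⟩ | ⟨h1, p, q, hpq, h2, -⟩
    · exact Or.inl ⟨h1, j, x, e.trans hx⟩
    · exact Or.inr ⟨h1, p, q, hpq, h2⟩
  -- the images fix the slots
  have hpure : ∀ i, i ≠ m → ∀ f ∈ Om d, w * facG i f * w⁻¹ ∈ (pureG (F := F) (k := k) (σ := σ)).range := by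
    intro i hi
    obtain ⟨N, hN⟩ : ∃ N, N = Om d ⊓ ((pureG (F := F) (k := k) (σ := σ)).range.comap
        ((MulAut.conj w).toMonoidHom.comp (facG i))) := ⟨_, rfl⟩
    have hNmem : ∀ f, f ∈ N ↔ f ∈ Om d ∧ w * facG i f * w⁻¹ ∈ (pureG (F := F) (k := k) (σ := σ)).range := fun f => by
      rw [hN]; exact Iff.rfl
    rcases hd.om_cases (N := N) (fun f hf => ((hNmem f).1 hf).1) (fun x hx f hf => by
        rw [hNmem] at hf ⊢
        refine ⟨mul_mem (mul_mem hx hf.1) (inv_mem hx), ?_⟩
        have := pure_normal (hP i hi x (C.omega i x hx)) hf.2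
        convert this using 1
        rw [map_mul, map_mul, map_inv]; group) with hNe | hNe
    · exact fun f hf => ((hNmem f).1 (hNe.symm ▸ hf)).2
    exfalso
    obtain ⟨a, ha, -, -⟩ := hd.exists_main_avoid ⟨0, by omega⟩ ⟨0, by omega⟩
    obtain ⟨b, hb, hba, -⟩ := hd.exists_main_avoid a a
    obtain ⟨c, hc, hca, hcb⟩ := hd.exists_main_avoid a b
    obtain ⟨Aa, πa, ea, hca'⟩ := hcase i hi a
    obtain ⟨Ab, πb, eb, hcb'⟩ := hcase i hi b
    obtain ⟨Ac, πc, ec, hcc'⟩ := hcase i hi c
    have hrange : ∀ (A : σ → GL (Fin k) F) (π : Equiv.Perm σ), π = 1 →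
        pureG A * permG k F π ∈ (pureG (F := F) (k := k) (σ := σ)).range := fun A π h => by
      rw [h, map_one, mul_one]; exact ⟨A, rfl⟩
    by_cases hk3 : k = 3
    · have hodd : Odd k := by subst hk3; decide
      have hin : ∀ x, πa = 1 ∧ x = a ∨ πb = 1 ∧ x = b ∨ πc = 1 ∧ x = c → False := by
        intro x hx
        obtain ⟨q, hq⟩ := hNe (zz x) ((hNmem _).2 ⟨hd.zz_mem_om hodd x, by
          rcases hx with ⟨h1, rfl⟩ | ⟨h1, rfl⟩ | ⟨h1, rfl⟩
          · rw [ea]; exact hrange _ _ h1
          · rw [eb]; exact hrange _ _ h1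
          · rw [ec]; exact hrange _ _ h1⟩)
        exact hd.zz_not_scalar x q hq
      obtain ⟨pa, qa, hpa, sa⟩ := (hca'.resolve_left fun h => hin a (Or.inl ⟨h.1, rfl⟩)).2
      obtain ⟨pb, qb, hpb, sb⟩ := (hcb'.resolve_left fun h => hin b (Or.inr (Or.inl ⟨h.1, rfl⟩))).2
      obtain ⟨pc, qc, hpc, sc⟩ := (hcc'.resolve_left fun h => hin c (Or.inr (Or.inr ⟨h.1, rfl⟩))).2
      -- three transpositions cannot multiply like the involutions of a frame
      have hab' : (zz a : GL (Fin k) F) * zz b = zz c := by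
        have e1 : (zset c : Finset (Fin k)) = {a, b} := by
          rw [zset, if_pos hodd]
          subst hk3
          exact compl_single_three hba.symm hca.symm hcb.symm
        rw [← sg_pair_zz hba.symm]
        rw [show (zz c : GL (Fin k) F) = sg (zset c) from rfl, e1]
      have hπ : πa * πb = πc := by
        refine std_perm_unique hd (A := Aa * fun j => Ab (πa.symm j)) (B := Ac) ?_
        rw [← ec, ← hab', map_mul, map_mul, map_mul,
          show w * (facG i (zz a) * facG i (zz b)) * w⁻¹ = w * facG i (zz a) * w⁻¹ * (w * facG i (zz b) * w⁻¹) by group,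
          ea, eb, mul_assoc, ← mul_assoc (pureG fun j => Ab (πa.symm j)), ← perm_pure]
        simp only [mul_assoc]
      have := congrArg Equiv.Perm.sign hπ
      rw [map_mul, sa, sb, sc, Equiv.Perm.sign_swap hpa, Equiv.Perm.sign_swap hpb, Equiv.Perm.sign_swap hpc] at this
      exact absurd this (by decide)
    · have h1 : πa = 1 := (hca'.resolve_right fun h => hk3 h.1).1
      have h2 : πb = 1 := (hcb'.resolve_right fun h => hk3 h.1).1
      obtain ⟨q, hq⟩ := hNe (sg {a, b}) ((hNmem _).2 ⟨hd.pair_mem ha hb hba.symm, by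
        rw [sg_pair_zz hba.symm, map_mul,
          show w * (facG i (zz a) * facG i (zz b)) * w⁻¹ = w * facG i (zz a) * w⁻¹ * (w * facG i (zz b) * w⁻¹) by group,
          ea, eb]
        exact mul_mem (hrange _ _ h1) (hrange _ _ h2)⟩)
      exact hd.pair_not_scalar hba.symm q hq
  -- the images lie in single slots
  have hslot : ∀ i, i ≠ m → ∃ j, ∀ f ∈ Om d, ∃ f', w * facG i f * w⁻¹ = facG j f' := by
    intro i hi
    obtain ⟨a, ha, -, -⟩ := hd.exists_main_avoid ⟨0, by omega⟩ ⟨0, by omega⟩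
    obtain ⟨b, hb, hba, -⟩ := hd.exists_main_avoid a a
    obtain ⟨c, hc, hca, hcb⟩ := hd.exists_main_avoid a b
    have hsingle : ∀ x, Main x → ∃ j y, w * facG i (zz x) * w⁻¹ = facG j y := by
      intro x hx
      obtain ⟨A, π, e, h'⟩ := hcase i hi x
      rcases h' with h' | ⟨hk3, p, q, hpq, hsw⟩
      · exact h'.2
      · exfalso
        have hodd : Odd k := by subst hk3; decide
        obtain ⟨B, hB⟩ := hpure i hi _ (hd.zz_mem_om hodd x)
        have := std_perm_unique hd (A := B) (B := A) (π := 1) (τ := π) (by rw [← e, ← hB, map_one, mul_one])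
        exact hpq (Equiv.swap_eq_refl_iff.1 (hsw ▸ this.symm))
    obtain ⟨j, y, hy⟩ := hsingle a ha
    have hconj : ∀ f ∈ Om d, ∀ x j' y', w * facG i x * w⁻¹ = facG j' y' →
        ∃ y'', w * facG i (f * x * f⁻¹) * w⁻¹ = facG j' y'' := by
      intro f hf x j' y' hxy
      obtain ⟨B, hB⟩ := hpure i hi f hf
      refine ⟨B j' * y' * (B j')⁻¹, ?_⟩
      have e1 : w * facG i (f * x * f⁻¹) * w⁻¹ =
          w * facG i f * w⁻¹ * (w * facG i x * w⁻¹) * (w * facG i f * w⁻¹)⁻¹ := by
        rw [map_mul, map_mul, map_inv]; group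
      rw [e1, ← hB, hxy]
      have := std_facG B 1 j' y'
      rwa [map_one, mul_one, Equiv.Perm.one_apply] at this
    obtain ⟨N, hN⟩ : ∃ N, N = Om d ⊓ ((facG (F := F) (k := k) j).range.comap
        ((MulAut.conj w).toMonoidHom.comp (facG i))) := ⟨_, rfl⟩
    have hNmem : ∀ f, f ∈ N ↔ f ∈ Om d ∧ ∃ f', w * facG i f * w⁻¹ = facG j f' := fun f => by
      rw [hN]; exact and_congr Iff.rfl ⟨fun ⟨f', h⟩ => ⟨f', h.symm⟩, fun ⟨f', h⟩ => ⟨f', h.symm⟩⟩
    rcases hd.om_cases (N := N) (fun f hf => ((hNmem f).1 hf).1) (fun x hx f hf => by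
        rw [hNmem] at hf ⊢
        obtain ⟨f', hf'⟩ := hf.2
        exact ⟨mul_mem (mul_mem hx hf.1) (inv_mem hx), hconj x hx f j f' hf'⟩) with hNe | hNe
    · exact ⟨j, fun f hf => ((hNmem f).1 (hNe.symm ▸ hf)).2⟩
    exfalso
    rcases Nat.even_or_odd k with hev | hodd
    · -- a cycle carries one involution to another
      obtain ⟨y', hy'⟩ : ∃ y', w * facG i (zz c) * w⁻¹ = facG j y' := by
        obtain ⟨y', h'⟩ := hconj _ (hd.cycle_mem ha hb hc hba.symm hcb.symm hca.symm) (zz a) j y hy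
        refine ⟨y', ?_⟩
        rw [← h']
        congr 3
        have hno : ¬ Odd k := Nat.not_odd_iff_even.2 hev
        rw [zz, zz, zset, zset, if_neg hno, if_neg hno, permMat_sg, Finset.map_singleton]
        congr 2
        simp only [Equiv.Perm.inv_def, Equiv.coe_toEmbedding]
        rw [Equiv.eq_symm_apply]
        simp [Equiv.swap_apply_of_ne_of_ne hca hcb, Equiv.swap_apply_left, Equiv.swap_apply_right]
      obtain ⟨q, hq⟩ := hNe (sg {a, c}) ((hNmem _).2 ⟨hd.pair_mem ha hc hca.symm, y * y', by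
        rw [sg_pair_zz hca.symm, map_mul, map_mul, ← hy, ← hy']; group⟩)
      exact hd.pair_not_scalar hca.symm q hq
    · obtain ⟨q, hq⟩ := hNe (zz a) ((hNmem _).2 ⟨hd.zz_mem_om hodd a, y, hy⟩)
      exact hd.zz_not_scalar a q hq
  choose! J hJ using hslot
  have hfull : ∀ i, i ≠ m → _ := fun i hi => hd.slot_image (C.iso hwX) (i := i) (j := J i) (hJ i hi)
  have hinj : ∀ i, i ≠ m → ∀ i', i' ≠ m → J i = J i' → i = i' := by
    intro i hi i' hi' e
    by_contra hne
    obtain ⟨a, ha, -, -⟩ := hd.exists_main_avoid ⟨0, by omega⟩ ⟨0, by omega⟩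
    obtain ⟨b, hb, hba, -⟩ := hd.exists_main_avoid a a
    obtain ⟨c, hc⟩ := hd.scalar_of_commute (C := ((sg {a, b} : GL (Fin k) F) : Matrix (Fin k) (Fin k) F))
      fun f hf => by
        obtain ⟨x, -, hx⟩ := (hfull i hi).2 f hf
        obtain ⟨x', -, hx'⟩ := (hfull i' hi').2 _ (hd.pair_mem ha hb hba.symm)
        have hc := (facG_commute hne x x').map (MulAut.conj w).toMonoidHom
        change Commute (w * facG i x * w⁻¹) (w * facG i' x' * w⁻¹) at hc
        rw [hx, hx', ← e] at hc
        have := facG_inj (J i) (by rw [map_mul, map_mul]; exact hc.eq : facG (J i) (f * sg {a, b}) = facG (J i) (sg {a, b} * f))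
        exact congrArg Units.val this
    exact hd.pair_not_scalar hba.symm c hc
  obtain ⟨j₀, hj₀⟩ : ∃ j₀, ∀ i, i ≠ m → J i ≠ j₀ := by
    by_contra hcon
    push Not at hcon
    have h1 : ((Finset.univ.erase m).image J) = Finset.univ := Finset.eq_univ_of_forall fun j => by
      obtain ⟨i, hi, e⟩ := hcon j
      exact Finset.mem_image.2 ⟨i, by simp [hi], e⟩
    have h2 := congrArg Finset.card h1
    rw [Finset.card_univ] at h2
    have := Finset.card_image_le (s := Finset.univ.erase m) (f := J)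
    rw [Finset.card_erase_of_mem (Finset.mem_univ m), Finset.card_univ] at this
    have := Fintype.card_pos (α := σ)
    omega
  have hsurj : ∀ j, j ≠ j₀ → ∃ i, i ≠ m ∧ J i = j := by
    have h1 : ((Finset.univ.erase m).image J) = Finset.univ.erase j₀ := by
      refine Finset.eq_of_subset_of_card_le (fun j hj => ?_) ?_
      · obtain ⟨i, hi, rfl⟩ := Finset.mem_image.1 hj
        simp [hj₀ i (Finset.ne_of_mem_erase hi)]
      · rw [Finset.card_image_of_injOn fun i hi i' hi' e =>
          hinj i (Finset.ne_of_mem_erase hi) i' (Finset.ne_of_mem_erase hi') e,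
          Finset.card_erase_of_mem (Finset.mem_univ m), Finset.card_erase_of_mem (Finset.mem_univ j₀)]
    intro j hj
    obtain ⟨i, hi, e⟩ := Finset.mem_image.1 (h1.symm ▸ Finset.mem_erase.2 ⟨hj, Finset.mem_univ j⟩)
    exact ⟨i, Finset.ne_of_mem_erase hi, e⟩
  -- a commutant of the other images is a slot
  have hcomm : ∀ (i : σ) (Y : Matrix (Fin k) (Fin k) F) (j : σ),
      (∀ j', j' ≠ j → ∀ f ∈ Om d, ∃ i', i' ≠ i ∧ ∃ x, w * facG i' x * w⁻¹ = facG j' f) →
      ∃ Y', (w : Matrix (σ → Fin k) (σ → Fin k) F) * facS i Y * ((w⁻¹ : GL (σ → Fin k) F) : Matrix (σ → Fin k) (σ → Fin k) F) =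
        facS j Y' := by
    intro i Y j hH
    refine hd.slot_of_commute fun j' hj' f hf => ?_
    obtain ⟨i', hi', x, hx⟩ := hH j' hj' f hf
    rw [← facG_val, ← hx, Units.val_mul, Units.val_mul, facG_val]
    have hc := facS_commute hi'.symm Y (x : Matrix (Fin k) (Fin k) F)
    simp only [Matrix.mul_assoc]
    rw [← Matrix.mul_assoc _ (w : Matrix (σ → Fin k) (σ → Fin k) F), Units.inv_mul, Matrix.one_mul,
      ← Matrix.mul_assoc _ (w : Matrix (σ → Fin k) (σ → Fin k) F), Units.inv_mul, Matrix.one_mul,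
      ← Matrix.mul_assoc (facS i Y), hc, Matrix.mul_assoc]
  have hm : ∀ f ∈ Om d, ∃ f', w * facG m f * w⁻¹ = facG j₀ f' := by
    intro f hf
    obtain ⟨Y', hY⟩ := hcomm m (f : Matrix (Fin k) (Fin k) F) j₀ fun j' hj' p hp => by
      obtain ⟨i, hi, rfl⟩ := hsurj j' hj'
      obtain ⟨x, -, hx⟩ := (hfull i hi).2 p hp
      exact ⟨i, hi, x, hx⟩
    exact exists_facG (by rw [Units.val_mul, Units.val_mul, facG_val, hY])
  have hm2 := (hd.slot_image (C.iso hwX) hm).2
  obtain ⟨J', hJ'⟩ : ∃ J' : σ → σ, J' = Function.update J m j₀ := ⟨_, rfl⟩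
  have hall : ∀ i Y, ∃ Y', (w : Matrix (σ → Fin k) (σ → Fin k) F) * facS i Y *
      ((w⁻¹ : GL (σ → Fin k) F) : Matrix (σ → Fin k) (σ → Fin k) F) = facS (J' i) Y' := by
    intro i Y
    refine hcomm i Y _ fun j' hj' f hf => ?_
    by_cases hj0 : j' = j₀
    · obtain ⟨x, -, hx⟩ := hm2 f hf
      refine ⟨m, fun e => hj' (by rw [hJ', ← e, Function.update_self, hj0]), x, hj0 ▸ hx⟩
    · obtain ⟨i', hi', rfl⟩ := hsurj j' hj0
      obtain ⟨x, -, hx⟩ := (hfull i' hi').2 f hf
      refine ⟨i', fun e => hj' ?_, x, hx⟩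
      rw [hJ', ← e, Function.update_of_ne hi']
  have hwS : w ∈ Std F k σ := mem_std_of_conj (by omega) w fun i => ⟨J' i, fun Y => by
    obtain ⟨Y', hY⟩ := hall i Y
    exact ⟨Y', by rw [← hY, Matrix.mul_assoc _ _ (w : Matrix (σ → Fin k) (σ → Fin k) F), Units.inv_mul, Matrix.mul_one]⟩⟩
  rw [show g = w⁻¹ by rw [hw, inv_inv]]
  exact inv_mem hwS

end Cfsg.Agent.Classical.OTPow
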