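/-
An element conjugating a slot reflection into the standard group is standard.
-/
import Cfsg.Agent.Lib.Classical.OTPow.Move

set_option autoImplicit false
set_option linter.unusedSectionVars false

namespace Cfsg.Agent.Classical.OTPow

open Matrix
open scoped commutatorElement

variable {F : Type*} [Field F] [Fintype F] {k : ℕ} {σ : Type} [Fintype σ] [DecidableEq σ]
  {d : Fin k → F} {X : Subgroup (GL (σ → Fin k) F)}

/-- The hypotheses of the induction. -/
structure Base (d : Fin k → F) (X : Subgroup (GL (σ → Fin k) F)) : Prop where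
  ctx : Ctx d X
  light : Light X
  core : ∀ l : σ, CoreHolds d (Off ({l} : Finset σ))

theorem std_mul_eq (A B : σ → GL (Fin k) F) (π τ : Equiv.Perm σ) :
    (pureG A * permG k F π) * (pureG B * permG k F τ) =
      pureG (A * fun j => B (π.symm j)) * permG k F (π * τ) := by
  rw [map_mul, map_mul, mul_assoc, ← mul_assoc (permG k F π), perm_pure]
  simp only [mul_assoc]

/-- The permutation of a standard element. -/
noncomputable def stdPerm (hd : Shape d) : ↥(Std F k σ) →* Equiv.Perm σ where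
  toFun g := (mem_std.1 g.2).choose_spec.choose
  map_one' := std_perm_unique hd (A := (mem_std.1 (1 : ↥(Std F k σ)).2).choose) (B := 1) (by
    rw [← (mem_std.1 (1 : ↥(Std F k σ)).2).choose_spec.choose_spec, map_one, map_one, mul_one]; rfl)
  map_mul' g h := by
    refine std_perm_unique hd (A := (mem_std.1 (g * h).2).choose)
      (B := (mem_std.1 g.2).choose * fun j => (mem_std.1 h.2).choose ((mem_std.1 g.2).choose_spec.choose.symm j)) ?_
    rw [← (mem_std.1 (g * h).2).choose_spec.choose_spec, ← std_mul_eq, ← (mem_std.1 g.2).choose_spec.choose_spec,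
      ← (mem_std.1 h.2).choose_spec.choose_spec]
    rfl

theorem stdPerm_eq (hd : Shape d) {g : ↥(Std F k σ)} {A : σ → GL (Fin k) F} {π : Equiv.Perm σ}
    (e : (g : GL (σ → Fin k) F) = pureG A * permG k F π) : stdPerm hd g = π :=
  std_perm_unique hd ((mem_std.1 g.2).choose_spec.choose_spec.symm.trans e)

/-- The signature of a slot involution. -/
theorem sig_facG (h2 : (2 : F) ≠ 0) (l : σ) {h : GL (Fin k) F} (hh : h * h = 1) :
    sig (facG l h : GL (σ → Fin k) F) = sig h * (k : ℤ) ^ (Fintype.card σ - 1) := by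
  classical
  obtain ⟨P, f, hf, hP⟩ := exists_diag_invol h2 hh
  obtain ⟨v, hv⟩ : ∃ v : σ → Fin k → F, v = fun j => if j = l then f else fun _ => 1 := ⟨_, rfl⟩
  have hv1 : ∀ j u, v j u * v j u = 1 := fun j u => by
    rw [hv]; dsimp only; split_ifs <;> simp [hf]
  rw [← sig_conj' (facG l P), ← map_inv, ← map_mul, ← map_mul,
    sig_diag h2 (f := fun a => ∏ j, v j (a j)) (fun a => by rw [← Finset.prod_mul_distrib]; simp [hv1]),
    ztr_prod h2 hv1, ← sig_conj' P h, sig_diag h2 hf hP, ← Finset.mul_prod_erase _ _ (Finset.mem_univ l),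
    Finset.prod_congr rfl (fun j hj => by simp [hv, Finset.ne_of_mem_erase hj, ztr, sgn_one] :
      ∀ j ∈ Finset.univ.erase l, ztr (v j) = (k : ℤ)), Finset.prod_const,
    Finset.card_erase_of_mem (Finset.mem_univ l), Finset.card_univ, hv]
  · simp
  · rw [facG_val, hP, facS_diagonal]
    refine congrArg _ (funext fun a => ?_)
    rw [Finset.prod_eq_single l (fun j _ hj => by simp [hv, hj]) (by simp), hv]
    simp

/-- The slot parts of a pure isometry are similitudes. -/
theorem Shape.slot_simil (hd : Shape d) {A : σ → GL (Fin k) F} (h : pureG A ∈ IsoD (wt d)) (l : σ) :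
    ∃ μ : F, μ ≠ 0 ∧ (A l : Matrix (Fin k) (Fin k) F)ᵀ * Matrix.diagonal d * (A l : Matrix (Fin k) (Fin k) F) =
      μ • Matrix.diagonal d := by
  classical
  haveI : NeZero k := ⟨by have := hd.three; omega⟩
  obtain ⟨N, hN⟩ : ∃ N : σ → Matrix (Fin k) (Fin k) F,
      N = fun j => (A j : Matrix (Fin k) (Fin k) F)ᵀ * Matrix.diagonal d * (A j : Matrix (Fin k) (Fin k) F) := ⟨_, rfl⟩
  have e := mem_isoD.1 h
  rw [pureG_val, pureS_transpose, show Matrix.diagonal (wt d) = pureS (fun _ : σ => Matrix.diagonal d) from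
    (pureS_diagonal fun _ => d).symm, pureS_mul, pureS_mul] at e
  have hdet : ∀ j, N j ≠ 0 := fun j h0 => by
    have hu : IsUnit (N j) := by
      rw [hN]
      refine IsUnit.mul (IsUnit.mul ((Matrix.isUnit_transpose _).2 (A j).isUnit) ?_) (A j).isUnit
      rw [Matrix.isUnit_diagonal, Pi.isUnit_iff]
      exact fun i => (hd.ne i).isUnit
    rw [h0] at hu
    exact not_isUnit_zero hu
  have hne : ∀ j, ∃ a b, N j a b ≠ 0 := fun j => by
    by_contra h
    push Not at h
    exact hdet j (Matrix.ext fun x y => h x y)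
  choose a b hab using hne
  obtain ⟨p, hp⟩ : ∃ p : F, p = ∏ j ∈ Finset.univ.erase l, N j (a j) (b j) := ⟨_, rfl⟩
  obtain ⟨q, hq⟩ : ∃ q : F, q = ∏ j ∈ Finset.univ.erase l, Matrix.diagonal d (a j) (b j) := ⟨_, rfl⟩
  have hp0 : p ≠ 0 := hp ▸ Finset.prod_ne_zero_iff.2 fun j _ => hab j
  have key : ∀ u v, N l u v * p = Matrix.diagonal d u v * q := by
    intro u v
    have e' := congrFun (congrFun e (Function.update a l u)) (Function.update b l v)
    rw [pureS_apply, pureS_apply, ← Finset.mul_prod_erase _ _ (Finset.mem_univ l),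
      ← Finset.mul_prod_erase _ _ (Finset.mem_univ l)] at e'
    simp only [Function.update_self] at e'
    rw [hp, hq]
    simp only [hN]
    refine Eq.trans (congrArg _ (Finset.prod_congr rfl fun j hj => ?_)) (e'.trans (congrArg _ (Finset.prod_congr rfl fun j hj => ?_)))
    · rw [Function.update_of_ne (Finset.ne_of_mem_erase hj), Function.update_of_ne (Finset.ne_of_mem_erase hj)]
    · rw [Function.update_of_ne (Finset.ne_of_mem_erase hj), Function.update_of_ne (Finset.ne_of_mem_erase hj)]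
  have hNl : N l = (q / p) • Matrix.diagonal d := Matrix.ext fun u v => by
    rw [Matrix.smul_apply, smul_eq_mul, div_mul_eq_mul_div, eq_div_iff hp0, key, mul_comm]
  refine ⟨q / p, fun h0 => hdet l (by rw [hNl, h0, zero_smul]), ?_⟩
  rw [← hNl, hN]

/-- Similitudes in odd dimension are scalar multiples of isometries. -/
theorem Shape.simil_rescale (hd : Shape d) (hodd : Odd k) {a : GL (Fin k) F} {μ : F} (hμ : μ ≠ 0)
    (h : (a : Matrix (Fin k) (Fin k) F)ᵀ * Matrix.diagonal d * (a : Matrix (Fin k) (Fin k) F) = μ • Matrix.diagonal d) :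
    ∃ (s : F) (a' : GL (Fin k) F), a' ∈ IsoD d ∧ (a : Matrix (Fin k) (Fin k) F) = s • (a' : Matrix (Fin k) (Fin k) F) := by
  obtain ⟨r, hr⟩ := hodd
  obtain ⟨D, hD⟩ : ∃ D : F, D = (a : Matrix (Fin k) (Fin k) F).det := ⟨_, rfl⟩
  have hd0 : (Matrix.diagonal d).det ≠ 0 := by
    rw [Matrix.det_diagonal]; exact Finset.prod_ne_zero_iff.2 fun i _ => hd.ne i
  have hDD : D * D = μ ^ k := by
    have e := congrArg Matrix.det h
    rw [Matrix.det_mul, Matrix.det_mul, Matrix.det_transpose, Matrix.det_smul, Fintype.card_fin, ← hD] at e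
    exact mul_right_cancel₀ hd0 (by linear_combination e)
  obtain ⟨s, hs⟩ : ∃ s : F, s = D / μ ^ r := ⟨_, rfl⟩
  have hss : s * s = μ := by
    rw [hs, div_mul_div_comm, hDD, ← pow_add, div_eq_iff (pow_ne_zero _ hμ), hr, ← two_mul, pow_succ']
  have hs0 : s ≠ 0 := fun h0 => hμ (by rw [← hss, h0, zero_mul])
  have hu : IsUnit (s⁻¹ • (a : Matrix (Fin k) (Fin k) F)) := by
    rw [Matrix.isUnit_iff_isUnit_det, Matrix.det_smul]
    exact ((inv_ne_zero hs0).isUnit.pow _).mul ((Matrix.isUnit_iff_isUnit_det _).1 a.isUnit)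
  refine ⟨s, hu.unit, mem_isoD.2 ?_, ?_⟩
  · rw [IsUnit.unit_spec, Matrix.transpose_smul, Matrix.smul_mul, Matrix.smul_mul, Matrix.mul_smul, h, smul_smul, smul_smul,
      show s⁻¹ * s⁻¹ * μ = (s⁻¹ * s) * (s⁻¹ * s) by rw [← hss]; ring, inv_mul_cancel₀ hs0, one_mul, one_smul]
  · rw [IsUnit.unit_spec, smul_smul, mul_inv_cancel₀ hs0, one_smul]

/-- The rotations fixing a coordinate of three commute. -/
theorem rotations_commute {c c' : Matrix (Fin 3) (Fin 3) F} {u : Fin 3} (hc : cᵀ * c = 1) (hc' : c'ᵀ * c' = 1)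
    (hd : c.det = 1) (hd' : c'.det = 1) (hu : c u u = 1) (hu' : c' u u = 1)
    (hz : ∀ v, v ≠ u → c u v = 0 ∧ c v u = 0) (hz' : ∀ v, v ≠ u → c' u v = 0 ∧ c' v u = 0) : c * c' = c' * c := by
  have key : ∀ {c : Matrix (Fin 3) (Fin 3) F}, cᵀ * c = 1 → c.det = 1 → cᵀ = Matrix.adjugate c := by
    intro c h h1
    have h2 : c * cᵀ = 1 := mul_eq_one_comm.1 h
    calc cᵀ = cᵀ * (c * Matrix.adjugate c) := by rw [Matrix.mul_adjugate, h1, one_smul, Matrix.mul_one]
      _ = _ := by rw [← Matrix.mul_assoc, h, Matrix.one_mul]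
  have e := key hc hd
  have e' := key hc' hd'
  rw [Matrix.adjugate_fin_three] at e e'
  have E := fun i j => congrFun (congrFun e i) j
  have E' := fun i j => congrFun (congrFun e' i) j
  simp only [Matrix.transpose_apply] at E E'
  fin_cases u
  · have a1 := hz 1 (by decide); have a2 := hz 2 (by decide)
    have b1 := hz' 1 (by decide); have b2 := hz' 2 (by decide)
    have p := E 1 1; have q := E 1 2; have p' := E' 1 1; have q' := E' 1 2
    simp at hu hu' a1 a2 b1 b2
    simp [hu, hu', a1, a2, b1, b2] at p q p' q'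
    ext i j
    fin_cases i <;> fin_cases j <;>
      simp [Matrix.mul_apply, Fin.sum_univ_three, hu, hu', a1, a2, b1, b2, p, q, p', q'] <;> ring
  · have a1 := hz 0 (by decide); have a2 := hz 2 (by decide)
    have b1 := hz' 0 (by decide); have b2 := hz' 2 (by decide)
    have p := E 0 0; have q := E 0 2; have p' := E' 0 0; have q' := E' 0 2
    simp at hu hu' a1 a2 b1 b2
    simp [hu, hu', a1, a2, b1, b2] at p q p' q'
    ext i j
    fin_cases i <;> fin_cases j <;>
      simp [Matrix.mul_apply, Fin.sum_univ_three, hu, hu', a1, a2, b1, b2, p, q, p', q'] <;> ring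
  · have a1 := hz 0 (by decide); have a2 := hz 1 (by decide)
    have b1 := hz' 0 (by decide); have b2 := hz' 1 (by decide)
    have p := E 0 0; have q := E 0 1; have p' := E' 0 0; have q' := E' 0 1
    simp at hu hu' a1 a2 b1 b2
    simp [hu, hu', a1, a2, b1, b2] at p q p' q'
    ext i j
    fin_cases i <;> fin_cases j <;>
      simp [Matrix.mul_apply, Fin.sum_univ_three, hu, hu', a1, a2, b1, b2, p, q, p', q'] <;> ring

/-- An element conjugating a distinguished involution into the standard group is standard. -/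
theorem Base.conj_std (B : Base d X) [Nontrivial σ] {g : GL (σ → Fin k) F} (hg : g ∈ X) {l : σ} {u : Fin k}
    (ht : g * facG l (zz u) * g⁻¹ ∈ Std F k σ) : g ∈ Std F k σ := by
  classical
  have C := B.ctx
  have hd := C.shape
  have hk := hd.three
  haveI : NeZero k := ⟨by omega⟩
  haveI : Nonempty σ := ⟨l⟩
  haveI : Nonempty (Off ({l} : Finset σ)) := by
    obtain ⟨b, hb⟩ := exists_ne l
    exact ⟨⟨b, by simpa using hb⟩⟩
  obtain ⟨A, π, hA⟩ := ht
  have hsq : (zz u : GL (Fin k) F) * zz u = 1 := sg_mul_self _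
  rcases hd.std_cases (A := A) (π := π) (by
      rw [← hA, show g * facG l (zz u) * g⁻¹ * (g * facG l (zz u) * g⁻¹) = g * (facG l (zz u) * facG l (zz u)) * g⁻¹
        by group, ← map_mul, hsq, map_one, mul_one, mul_inv_cancel])
      (by rw [← hA, sig_conj, abs_sig_zz hd.two hk]) with ⟨-, m, h, hm⟩ | ⟨hk3, m, n, hmn, hπ, hsc⟩
  · exact C.move B.light B.core hg (hA.trans hm)
  obtain ⟨t, ht⟩ : ∃ t, t = g * facG l (zz u) * g⁻¹ := ⟨_, rfl⟩
  rw [← ht] at hA
  obtain ⟨w, hw⟩ : ∃ w, w = g⁻¹ := ⟨_, rfl⟩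
  have hwX : w ∈ X := hw ▸ inv_mem hg
  have hodd : Odd k := by rw [hk3]; decide
  have hz : facG l (zz u) = w * t * w⁻¹ := by rw [ht, hw]; group
  have htX : t ∈ X := ht ▸ mul_mem (mul_mem hg (C.zz_mem l u)) (inv_mem hg)
  have hstab : ∀ x ∈ X, Commute x t → w * x * w⁻¹ ∈ Std F k σ ∧
      Commute (w * x * w⁻¹) (facG l (sg {u})) := by
    intro x hx hc
    have h1 : Commute (w * x * w⁻¹) (facG l (sg {u})) := commute_zz.1 (by
      rw [hz]; exact hc.map (MulAut.conj w).toMonoidHom)
    exact ⟨C.stab_std B.light (B.core l) (mul_mem (mul_mem hwX hx) (inv_mem hwX)) h1, h1⟩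
  by_cases hfix : ∃ j, j ≠ m ∧ j ≠ n
  · -- a third slot gives a frame
    obtain ⟨j, hjm, hjn⟩ := hfix
    have hπj : π j = j := by rw [hπ]; exact Equiv.swap_apply_of_ne_of_ne hjm hjn
    obtain ⟨c, hc⟩ := hsc j hjm hjn
    have hcomm : ∀ f, Commute (facG j f) t := by
      intro f
      refine Commute.symm ?_
      show t * facG j f = facG j f * t
      refine mul_inv_eq_iff_eq_mul.1 ?_
      rw [hA, std_facG, hπj]
      refine congrArg _ (mul_inv_eq_iff_eq_mul.2 ?_)
      exact ((Scal.commute ⟨c, hc⟩ f)).eq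
    have hS : ∀ x : Fin k, ∃ hx : w * facG j (zz x) * w⁻¹ ∈ Std F k σ,
        g ∈ Std F k σ ∨ Equiv.Perm.sign (stdPerm hd ⟨_, hx⟩) = -1 := by
      intro x
      have hx := (hstab _ (C.zz_mem j x) (hcomm _)).1
      refine ⟨hx, ?_⟩
      obtain ⟨A', π', hA'⟩ := id hx
      rcases hd.std_cases (A := A') (π := π') (by
          rw [← hA', show w * facG j (zz x) * w⁻¹ * (w * facG j (zz x) * w⁻¹) = w * (facG j (zz x) * facG j (zz x)) * w⁻¹
            by group, ← map_mul, show (zz x : GL (Fin k) F) * zz x = 1 from sg_mul_self _, map_one, mul_one,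
            mul_inv_cancel])
          (by rw [← hA', sig_conj, abs_sig_zz hd.two hk]) with ⟨-, p, h, hp⟩ | ⟨-, p, q, hpq, hπ', -⟩
      · left
        have := C.move B.light B.core hwX (hA'.trans hp)
        rw [show g = w⁻¹ by rw [hw, inv_inv]]
        exact inv_mem this
      · right
        rw [stdPerm_eq hd hA', hπ', Equiv.Perm.sign_swap hpq]
    obtain ⟨a, -, -, -⟩ := hd.exists_main_avoid ⟨0, by omega⟩ ⟨0, by omega⟩
    obtain ⟨b, hb, hba, -⟩ := hd.exists_main_avoid a a
    obtain ⟨e, he, hea, heb⟩ := hd.exists_main_avoid a b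
    obtain ⟨h1, s1⟩ := hS a
    obtain ⟨h2, s2⟩ := hS b
    obtain ⟨h3, s3⟩ := hS e
    rcases s1 with s1 | s1
    · exact s1
    rcases s2 with s2 | s2
    · exact s2
    rcases s3 with s3 | s3
    · exact s3
    exfalso
    have hzz : (zz a : GL (Fin k) F) * zz b = zz e := by
      rw [← sg_pair_zz hba.symm, show (zz e : GL (Fin k) F) = sg (zset e) from rfl, zset, if_pos hodd]
      subst hk3
      rw [compl_single_three hba.symm hea.symm heb.symm]
    have hmul : (⟨_, h1⟩ : ↥(Std F k σ)) * ⟨_, h2⟩ = ⟨_, h3⟩ := Subtype.ext (by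
      show w * facG j (zz a) * w⁻¹ * (w * facG j (zz b) * w⁻¹) = w * facG j (zz e) * w⁻¹
      rw [← hzz, map_mul]; group)
    have := congrArg (fun x => Equiv.Perm.sign (stdPerm hd x)) hmul
    simp only [map_mul, s1, s2, s3] at this
    exact absurd this (by decide)
  -- two slots
  push Not at hfix
  exfalso
  subst hk3
  have hmn' : π m = n ∧ π n = m := ⟨by rw [hπ, Equiv.swap_apply_left], by rw [hπ, Equiv.swap_apply_right]⟩
  have ht2 : t * t = 1 := by
    rw [ht, show g * facG l (zz u) * g⁻¹ * (g * facG l (zz u) * g⁻¹) = g * (facG l (zz u) * facG l (zz u)) * g⁻¹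
      by group, ← map_mul, hsq, map_one, mul_one, mul_inv_cancel]
  have hconjI : ∀ p, p ∈ IsoD d → A n * p * (A n)⁻¹ ∈ IsoD d := fun p hp => hd.isoD_of_facG (l := n) (by
    rw [← hmn'.1, ← std_facG, ← hA]
    exact mul_mem (mul_mem (C.iso htX) (facG_iso m hp)) (inv_mem (C.iso htX)))
  obtain ⟨Δ, hΔ⟩ : ∃ Δ : GL (Fin 3) F →* GL (σ → Fin 3) F,
      ∀ f, Δ f = facG m f * facG n (A n * f * (A n)⁻¹) := ⟨
    { toFun := fun f => facG m f * facG n (A n * f * (A n)⁻¹)
      map_one' := by simp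
      map_mul' := fun x y => by
        have e : A n * (x * y) * (A n)⁻¹ = (A n * x * (A n)⁻¹) * (A n * y * (A n)⁻¹) := by group
        rw [e, map_mul, map_mul, (facG_commute hmn y (A n * x * (A n)⁻¹)).mul_mul_mul_comm] }, fun f => rfl⟩
  have hΔX : ∀ f ∈ Om d, Δ f ∈ X := fun f hf => hΔ f ▸
    mul_mem (C.omega m f hf) (C.omega n _ (hd.conj_om (fun p hp => hconjI p (om_le d hp)) hf))
  have hΔt : ∀ f, Commute (Δ f) t := by
    intro f
    refine Commute.symm ?_
    show t * Δ f = Δ f * t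
    refine mul_inv_eq_iff_eq_mul.1 ?_
    have e1 : t * facG n (A n * f * (A n)⁻¹) * t⁻¹ = facG m f := by
      have h2 : t * facG m f * t⁻¹ = facG n (A n * f * (A n)⁻¹) := by rw [hA, std_facG, hmn'.1]
      rw [← h2, show t * (t * facG m f * t⁻¹) * t⁻¹ = (t * t) * facG m f * (t * t)⁻¹ by group, ht2, one_mul, inv_one,
        mul_one]
    have e2 : t * facG m f * t⁻¹ = facG n (A n * f * (A n)⁻¹) := by rw [hA, std_facG, hmn'.1]
    rw [hΔ, show t * (facG m f * facG n (A n * f * (A n)⁻¹)) * t⁻¹ =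
      (t * facG m f * t⁻¹) * (t * facG n (A n * f * (A n)⁻¹) * t⁻¹) by group, e1, e2]
    exact (facG_commute hmn.symm _ _).eq
  obtain ⟨r, hrl⟩ := exists_ne l
  have hall : ∀ j, j = l ∨ j = r := fun j => by
    by_cases h1 : l = m
    · by_cases h2 : j = m
      · exact Or.inl (h2.trans h1.symm)
      · exact Or.inr ((hfix j h2).trans (hfix r (h1 ▸ hrl)).symm)
    · have hl := hfix l h1
      by_cases h2 : j = m
      · refine Or.inr (h2.trans (by_contra fun h3 => ?_))
        exact hrl ((hfix r (Ne.symm h3)).trans hl.symm)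
      · exact Or.inl ((hfix j h2).trans hl.symm)
  -- the target: a stabiliser with metabelian first part
  obtain ⟨S, hS⟩ : ∃ S : Subgroup (GL (Fin 3) F), S = IsoD d ⊓ Subgroup.centralizer {sg {u}} := ⟨_, rfl⟩
  have hSmem : ∀ a, a ∈ S ↔ a ∈ IsoD d ∧ Commute a (sg {u}) := fun a => by
    rw [hS, Subgroup.mem_inf, Subgroup.mem_centralizer_singleton_iff]; exact Iff.rfl
  obtain ⟨T, hT⟩ : ∃ T : Subgroup (GL (σ → Fin 3) F), ∀ y,
      y ∈ T ↔ ∃ a ∈ S, ∃ b, y = facG l a * facG r b := by
    refine ⟨{ carrier := {y | ∃ a ∈ S, ∃ b, y = facG l a * facG r b}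
              one_mem' := ⟨1, one_mem S, 1, by simp⟩
              mul_mem' := ?_, inv_mem' := ?_ }, fun y => Iff.rfl⟩
    · rintro _ _ ⟨a, ha, b, rfl⟩ ⟨a', ha', b', rfl⟩
      exact ⟨a * a', mul_mem ha ha', b * b', by rw [map_mul, map_mul, (facG_commute hrl b a').mul_mul_mul_comm]⟩
    · rintro _ ⟨a, ha, b, rfl⟩
      exact ⟨a⁻¹, inv_mem ha, b⁻¹, by rw [_root_.mul_inv_rev, map_inv, map_inv, ((facG_commute hrl b a).inv_inv).eq]⟩
  have hperm : ∀ f ∈ Om d, ∃ A', w * Δ f * w⁻¹ = pureG A' := by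
    intro f hf
    rw [← hd.om_perfect] at hf
    have hmem : ∀ x ∈ Om d, w * Δ x * w⁻¹ ∈ Std F 3 σ := fun x hx => (hstab _ (hΔX x hx) (hΔt x)).1
    suffices h : ⁅Om d, Om d⁆ ≤ (Om d ⊓ (pureG (F := F) (k := 3) (σ := σ)).range.comap
        ((MulAut.conj w).toMonoidHom.comp Δ)) by
      obtain ⟨A', hA'⟩ := (h hf).2
      exact ⟨A', hA'.symm⟩
    rw [Subgroup.commutator_le]
    intro x hx y hy
    refine ⟨hd.om_perfect.le (Subgroup.commutator_mem_commutator hx hy), ?_⟩
    have hab : ∀ p q : Equiv.Perm σ, p * q = q * p := by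
      have hp : ∀ p : Equiv.Perm σ, p = 1 ∨ p = Equiv.swap l r := by
        intro p
        rcases hall (p l) with h | h
        · refine Or.inl (Equiv.ext fun j => ?_)
          rcases hall j with rfl | rfl
          · rw [h]; rfl
          · rcases hall (p j) with h' | h'
            · exact absurd (p.injective (h'.trans h.symm)) hrl
            · rw [h']; rfl
        · refine Or.inr (Equiv.ext fun j => ?_)
          rcases hall j with rfl | rfl
          · rw [h, Equiv.swap_apply_left]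
          · rcases hall (p j) with h' | h'
            · rw [h', Equiv.swap_apply_right]
            · exact absurd (p.injective (h'.trans h.symm)) hrl
      intro p q
      rcases hp p with rfl | rfl <;> rcases hp q with rfl | rfl <;> simp
    obtain ⟨Z, hZ⟩ : ∃ Z : ↥(Std F 3 σ), Z = ⁅(⟨_, hmem x hx⟩ : ↥(Std F 3 σ)), ⟨_, hmem y hy⟩⁆ := ⟨_, rfl⟩
    obtain ⟨A', π', hA'⟩ := mem_std.1 Z.2
    have hπ' : π' = 1 := by
      rw [← stdPerm_eq hd hA', hZ, map_commutatorElement, commutatorElement_def, hab (stdPerm hd _) (stdPerm hd _)]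
      group
    refine ⟨A', ?_⟩
    show pureG A' = w * Δ ⁅x, y⁆ * w⁻¹
    rw [hπ', map_one, mul_one] at hA'
    subst hZ
    rw [← hA']
    show _ = (MulAut.conj w).toMonoidHom (Δ ⁅x, y⁆)
    rw [map_commutatorElement, map_commutatorElement]
    rfl
  have himg : ∀ f ∈ Om d, w * Δ f * w⁻¹ ∈ T := by
    intro f hf
    obtain ⟨A', hA'⟩ := hperm f hf
    have hI : pureG A' ∈ IsoD (wt d) := hA' ▸ C.iso (mul_mem (mul_mem hwX (hΔX f hf)) (inv_mem hwX))
    obtain ⟨μ, hμ, hsim⟩ := hd.slot_simil hI l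
    obtain ⟨s, a', ha', hAa⟩ := hd.simil_rescale hodd hμ hsim
    have hs : s ≠ 0 := fun h0 => by
      rw [h0, zero_smul] at hAa
      exact (A' l).isUnit.ne_zero hAa
    have hcl : Commute (A' l) (sg {u}) := by
      have h1 := (hstab _ (hΔX f hf) (hΔt f)).2
      rw [hA'] at h1
      have h2 := std_facG A' 1 l (sg {u} : GL (Fin 3) F)
      rw [map_one, mul_one, Equiv.Perm.one_apply, h1.eq, mul_inv_cancel_right] at h2
      exact mul_inv_eq_iff_eq_mul.1 (facG_inj l h2).symm
    refine (hT _).2 ⟨a', (hSmem a').2 ⟨ha', ?_⟩, ?_⟩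
    · refine Units.ext ?_
      have h1 := congrArg Units.val hcl.eq
      rw [Units.val_mul, Units.val_mul, hAa, Matrix.smul_mul, Matrix.mul_smul] at h1
      rw [Units.val_mul, Units.val_mul]
      exact smul_right_injective _ hs h1
    · obtain ⟨b, hb⟩ := exists_facG (l := r) (g := (facG l a')⁻¹ * (w * Δ f * w⁻¹))
        (M := s • (A' r : Matrix (Fin 3) (Fin 3) F)) (by
          rw [hA', ← map_inv, Units.val_mul, facG_val, pureG_val, facS, pureS_mul]
          have hsplit : (fun j => Function.update (fun _ : σ => (1 : Matrix (Fin 3) (Fin 3) F)) l (((a')⁻¹ : GL (Fin 3) F) : Matrix (Fin 3) (Fin 3) F) j *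
              (A' j : Matrix (Fin 3) (Fin 3) F)) =
              fun j => (if j = l then s else 1) • Function.update (fun _ : σ => (1 : Matrix (Fin 3) (Fin 3) F)) r (A' r) j := by
            funext j
            rcases hall j with rfl | rfl
            · rw [Function.update_self, Function.update_of_ne hrl.symm, if_pos rfl, hAa, Matrix.mul_smul, Units.inv_mul]
            · rw [Function.update_of_ne hrl, Function.update_self, if_neg hrl, one_smul, Matrix.one_mul]
          rw [hsplit, pureS_smul', facS_smul, facS, Finset.prod_ite_eq' Finset.univ l, if_pos (Finset.mem_univ l)])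
      exact ⟨b, by rw [← hb, mul_inv_cancel_left]⟩
  obtain ⟨a, ha, -, -⟩ := hd.exists_main_avoid ⟨0, by omega⟩ ⟨0, by omega⟩
  have hfin : w * Δ (zz a) * w⁻¹ ∈ (facG (F := F) (k := 3) r).range := by
    have himg' : ((Om d).map Δ).map (MulAut.conj w).toMonoidHom ≤ T := by
      rintro _ ⟨_, ⟨f, hf, rfl⟩, rfl⟩; exact himg f hf
    have hp := hd.om_perfect
    have hin : w * Δ (zz a) * w⁻¹ ∈ ⁅⁅T, T⁆, ⁅T, T⁆⁆ := by
      refine Subgroup.commutator_mono (?_ : ((Om d).map Δ).map (MulAut.conj w).toMonoidHom ≤ _) (?_ : ((Om d).map Δ).map (MulAut.conj w).toMonoidHom ≤ _) ?_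
      · nth_rewrite 1 [← hp]
        rw [Subgroup.map_commutator, Subgroup.map_commutator]
        exact Subgroup.commutator_mono himg' himg'
      · nth_rewrite 1 [← hp]
        rw [Subgroup.map_commutator, Subgroup.map_commutator]
        exact Subgroup.commutator_mono himg' himg'
      · rw [← Subgroup.map_commutator, ← Subgroup.map_commutator, hp]
        exact ⟨_, ⟨_, hd.zz_mem_om hodd a, rfl⟩, rfl⟩
    have hd1 : ∀ i, d i = 1 := fun i => hd.one i (Or.inr (by decide))
    have hD : Matrix.diagonal d = (1 : Matrix (Fin 3) (Fin 3) F) := by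
      rw [← Matrix.diagonal_one]; exact congrArg _ (funext hd1)
    obtain ⟨S1, hS1⟩ : ∃ S1 : Subgroup (GL (Fin 3) F), S1 = ⁅S, S⁆ := ⟨_, rfl⟩
    have hS1le : S1 ≤ S := hS1 ▸ Subgroup.commutator_le_self S
    have hrow : ∀ c ∈ S, ∀ v, v ≠ u → (c : Matrix (Fin 3) (Fin 3) F) u v = 0 ∧ (c : Matrix (Fin 3) (Fin 3) F) v u = 0 := by
      intro c hc v hv
      have h : Commute (c : Matrix (Fin 3) (Fin 3) F) (Matrix.diagonal (sv {u})) := by
        rw [← sg_val]; exact congrArg Units.val ((hSmem c).1 hc).2.eq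
      have hne : ∀ x y : Fin 3, ¬ (x = u ↔ y = u) → (c : Matrix (Fin 3) (Fin 3) F) x y = 0 := fun x y hxy =>
        by_contra fun h0 => sv_ne hd.two (S := ({u} : Finset (Fin 3))) (by simpa using hxy)
          ((commute_diagonal_iff _ _).1 h x y h0)
      exact ⟨hne u v (by simp [hv]), hne v u (by simp [hv])⟩
    obtain ⟨ev, hev⟩ : ∃ ev : ↥S →* F, ∀ c : ↥S, ev c = (c.1 : Matrix (Fin 3) (Fin 3) F) u u := by
      refine ⟨{ toFun := fun c => (c.1 : Matrix (Fin 3) (Fin 3) F) u u
                map_one' := by simp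
                map_mul' := fun c c' => ?_ }, fun c => rfl⟩
      rw [Subgroup.coe_mul, Units.val_mul, Matrix.mul_apply, Finset.sum_eq_single u]
      · intro v _ hv; rw [(hrow c.1 c.2 v hv).1, zero_mul]
      · simp
    have hS1prop : ∀ c ∈ S1, (c : Matrix (Fin 3) (Fin 3) F).det = 1 ∧ (c : Matrix (Fin 3) (Fin 3) F) u u = 1 := by
      intro c hc
      rw [hS1, Subgroup.commutator_def] at hc
      induction hc using Subgroup.closure_induction with
      | mem c hc =>
        obtain ⟨x, hx, y, hy, rfl⟩ := hc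
        constructor
        · have h1 : Matrix.GeneralLinearGroup.det ⁅x, y⁆ = 1 := by
            rw [map_commutatorElement, commutatorElement_def, mul_comm (Matrix.GeneralLinearGroup.det x)]; simp
          have := congrArg Units.val h1
          rwa [Matrix.GeneralLinearGroup.val_det_apply, Units.val_one] at this
        · have h := hev ⁅(⟨x, hx⟩ : ↥S), ⟨y, hy⟩⁆
          rw [show ((⁅(⟨x, hx⟩ : ↥S), ⟨y, hy⟩⁆ : ↥S) : GL (Fin 3) F) = ⁅x, y⁆ from rfl] at h
          rw [← h, commutatorElement_def, map_mul, map_mul, map_mul]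
          have i1 : ev ⟨x, hx⟩ * ev ⟨x, hx⟩⁻¹ = 1 := by rw [← map_mul, mul_inv_cancel, map_one]
          have i2 : ev ⟨y, hy⟩ * ev ⟨y, hy⟩⁻¹ = 1 := by rw [← map_mul, mul_inv_cancel, map_one]
          linear_combination (ev ⟨y, hy⟩ * ev ⟨y, hy⟩⁻¹) * i1 + i2
      | one => simp
      | mul x y hx hy ihx ihy =>
        have hxS : x ∈ S := hS1le (hS1 ▸ (Subgroup.commutator_def S S ▸ hx))
        have hyS : y ∈ S := hS1le (hS1 ▸ (Subgroup.commutator_def S S ▸ hy))
        refine ⟨by rw [Units.val_mul, Matrix.det_mul, ihx.1, ihy.1, one_mul], ?_⟩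
        have h := map_mul ev ⟨x, hxS⟩ ⟨y, hyS⟩
        rw [hev, hev, hev, ihx.2, ihy.2, one_mul] at h
        exact h
      | inv x hx ihx =>
        have hxS : x ∈ S := hS1le (hS1 ▸ (Subgroup.commutator_def S S ▸ hx))
        constructor
        · have h1 : ((x⁻¹ : GL (Fin 3) F) : Matrix (Fin 3) (Fin 3) F).det * (x : Matrix (Fin 3) (Fin 3) F).det = 1 := by
            rw [← Matrix.det_mul, Units.inv_mul, Matrix.det_one]
          rwa [ihx.1, mul_one] at h1
        · have h : ev ⟨x, hxS⟩ * ev ⟨x, hxS⟩⁻¹ = 1 := by rw [← map_mul, mul_inv_cancel, map_one]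
          rw [hev, hev, ihx.2, one_mul] at h
          exact h
    have hSS : ∀ c ∈ S1, ∀ c' ∈ S1, Commute c c' := by
      intro c hc c' hc'
      have o : ∀ p ∈ S1, (p : Matrix (Fin 3) (Fin 3) F)ᵀ * (p : Matrix (Fin 3) (Fin 3) F) = 1 := fun p hp => by
        have := mem_isoD.1 ((hSmem p).1 (hS1le hp)).1
        rwa [hD, Matrix.mul_one] at this
      exact Units.ext (rotations_commute (o c hc) (o c' hc') (hS1prop c hc).1 (hS1prop c' hc').1
        (hS1prop c hc).2 (hS1prop c' hc').2 (hrow c (hS1le hc)) (hrow c' (hS1le hc')))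
    obtain ⟨T1, hT1⟩ : ∃ T1 : Subgroup (GL (σ → Fin 3) F), ∀ y,
        y ∈ T1 ↔ ∃ a ∈ S1, ∃ b, y = facG l a * facG r b := by
      refine ⟨{ carrier := {y | ∃ a ∈ S1, ∃ b, y = facG l a * facG r b}
                one_mem' := ⟨1, one_mem S1, 1, by simp⟩
                mul_mem' := ?_, inv_mem' := ?_ }, fun y => Iff.rfl⟩
      · rintro _ _ ⟨a, ha, b, rfl⟩ ⟨a', ha', b', rfl⟩
        exact ⟨a * a', mul_mem ha ha', b * b', by rw [map_mul, map_mul, (facG_commute hrl b a').mul_mul_mul_comm]⟩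
      · rintro _ ⟨a, ha, b, rfl⟩
        exact ⟨a⁻¹, inv_mem ha, b⁻¹, by rw [_root_.mul_inv_rev, map_inv, map_inv, ((facG_commute hrl b a).inv_inv).eq]⟩
    have hprod : ∀ a b a' b' : GL (Fin 3) F, ⁅(facG l a * facG r b : GL (σ → Fin 3) F), facG l a' * facG r b'⁆ =
        facG l ⁅a, a'⁆ * facG r ⁅b, b'⁆ := by
      intro a b a' b'
      let φ : GL (Fin 3) F × GL (Fin 3) F →* GL (σ → Fin 3) F :=
        { toFun := fun p => facG l p.1 * facG r p.2
          map_one' := by simp
          map_mul' := fun p q => by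
            rw [Prod.fst_mul, Prod.snd_mul, map_mul, map_mul, (facG_commute hrl p.2 q.1).mul_mul_mul_comm] }
      exact (map_commutatorElement φ (a, b) (a', b')).symm
    have hT1mem : ∀ y ∈ ⁅T, T⁆, ∃ a ∈ S1, ∃ b, y = facG l a * facG r b := by
      intro y hy
      have : ⁅T, T⁆ ≤ T1 := by
        rw [Subgroup.commutator_le]
        intro x hx x' hx'
        obtain ⟨a, ha, b, rfl⟩ := (hT x).1 hx
        obtain ⟨a', ha', b', rfl⟩ := (hT x').1 hx'
        exact (hT1 _).2 ⟨⁅a, a'⁆, hS1 ▸ Subgroup.commutator_mem_commutator ha ha', ⁅b, b'⁆, hprod _ _ _ _⟩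
      exact (hT1 y).1 (this hy)
    have : ⁅⁅T, T⁆, ⁅T, T⁆⁆ ≤ (facG (F := F) (k := 3) r).range := by
      rw [Subgroup.commutator_le]
      intro x hx x' hx'
      obtain ⟨a, ha, b, rfl⟩ := hT1mem x hx
      obtain ⟨a', ha', b', rfl⟩ := hT1mem x' hx'
      rw [hprod, commutatorElement_eq_one_iff_commute.2 (hSS a ha a' ha'), map_one, one_mul]
      exact ⟨_, rfl⟩
    exact this hin
  -- signatures
  obtain ⟨b, hb⟩ := hfin
  have hb2 : b * b = 1 := facG_inj r (by
    rw [map_mul, hb, show w * Δ (zz a) * w⁻¹ * (w * Δ (zz a) * w⁻¹) = w * Δ (zz a * zz a) * w⁻¹ by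
      rw [map_mul]; group, show (zz a : GL (Fin 3) F) * zz a = 1 from sg_mul_self _, map_one, map_one, mul_one,
      mul_inv_cancel])
  have hcard : Fintype.card σ = 2 := by
    rw [← Finset.card_univ, show (Finset.univ : Finset σ) = {l, r} from
      Finset.ext fun j => by simpa using hall j, Finset.card_pair hrl.symm]
  have hsig1 : sig (w * Δ (zz a) * w⁻¹) = sig b * 3 := by
    rw [← hb, sig_facG hd.two r hb2, hcard]; norm_num
  have hsig2 : |sig (w * Δ (zz a) * w⁻¹)| = 1 := by
    rw [sig_conj, hΔ, ← sig_conj' (facG n (A n))]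
    obtain ⟨v, hv⟩ : ∃ v : σ → Fin 3 → F, v = fun _ => sv (zset a) := ⟨_, rfl⟩
    have hv1 : ∀ j i, v j i * v j i = 1 := fun j i => by rw [hv]; exact sv_sq _ _
    have e : ((facG n (A n))⁻¹ * (facG m (zz a) * facG n (A n * zz a * (A n)⁻¹)) * facG n (A n) : GL (σ → Fin 3) F) =
        facG m (zz a) * facG n (zz a) := by
      simp only [map_mul, map_inv]
      rw [show (facG n (A n))⁻¹ * (facG m (zz a) * (facG n (A n) * facG n (zz a) * (facG n (A n))⁻¹)) * facG n (A n) =
        ((facG n (A n))⁻¹ * facG m (zz a)) * facG n (A n) * facG n (zz a) by group,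
        ((facG_commute hmn.symm (A n) (zz a)).inv_left).eq, mul_assoc (facG m (zz a)), inv_mul_cancel, mul_one]
    rw [e, sig_diag hd.two (f := fun x => ∏ j, v j (x j)) (fun x => by rw [← Finset.prod_mul_distrib]; simp [hv1]),
      ztr_prod hd.two hv1, hv, Finset.prod_const, Finset.card_univ, hcard, ztr_sv hd.two]
    · rw [zset, if_pos hodd, Finset.card_compl, Finset.card_singleton, Fintype.card_fin]; norm_num
    · rw [Units.val_mul, zz, facG_sg_val, facG_sg_val, Matrix.diagonal_mul_diagonal]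
      refine congrArg _ (funext fun x => ?_)
      have huniv : (Finset.univ : Finset σ) = {m, n} := Finset.ext fun j => by
        simpa using (em (j = m)).imp id (hfix j)
      rw [huniv, Finset.prod_pair hmn, hv]
  rw [hsig1, abs_mul, abs_of_nonneg (show (0 : ℤ) ≤ 3 by norm_num)] at hsig2
  have := abs_nonneg (sig b)
  omega

end Cfsg.Agent.Classical.OTPow
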