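/-
Reflections of a slot by vectors: products, signatures and transitivity.
-/
import Cfsg.Agent.Lib.Classical.OTPow.Sig
import Cfsg.Agent.Lib.Classical.OrthOmega

set_option autoImplicit false
set_option linter.unusedSectionVars false

namespace Cfsg.Agent.Classical.OTPow

open Matrix QuadraticMap
open Cfsg.Agent.Classical
open Cfsg.Agent.Classical.OCount (PND)
open Cfsg.Agent.Classical.ORefl (Iso)
open Cfsg.Agent.Classical.OOmega (rf)

variable {F : Type*} [Field F] [Fintype F] {k : ℕ} {d : Fin k → F}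

/-- The symmetric form of a slot. -/
def bform (d v w : Fin k → F) : F := ∑ i, d i * (v i * w i)

theorem bform_self (d v : Fin k → F) : bform d v v = Qd d v := (Qd_apply d v).symm

theorem bform_comm (d v w : Fin k → F) : bform d v w = bform d w v :=
  Finset.sum_congr rfl fun i _ => by rw [mul_comm (v i)]

/-- The reflection of a vector. -/
noncomputable def refG (d v : Fin k → F) : GL (Fin k) F := slotHom d (rf (Qd d) v)

/-- The projection to a vector. -/
noncomputable def projM (d v : Fin k → F) : Matrix (Fin k) (Fin k) F :=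
  (Qd d v)⁻¹ • Matrix.vecMulVec v (fun y => d y * v y)

theorem refG_val (d v : Fin k → F) :
    (refG d v : Matrix (Fin k) (Fin k) F) = 1 - (2 : F) • projM d v := by
  ext x y
  rw [refG, slot_rf_entry, Matrix.sub_apply, Matrix.smul_apply, projM, Matrix.smul_apply, Matrix.vecMulVec_apply,
    Matrix.one_apply, Pi.single_apply, smul_eq_mul, smul_eq_mul]
  ring

theorem refG_mul_self (d v : Fin k → F) : refG d v * refG d v = 1 := by
  rw [refG, ← map_mul, OOmega.rf_mul_self, map_one]

theorem refG_iso (h2 : (2 : F) ≠ 0) (d v : Fin k → F) : refG d v ∈ IsoD d := slotHom_range h2 ▸ ⟨_, rfl⟩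

theorem refG_smul (d v : Fin k → F) {c : F} (hc : c ≠ 0) : refG d (c • v) = refG d v := by
  rw [refG, OOmega.rf_smul hc, refG]

theorem projM_mul (d v w : Fin k → F) :
    projM d v * projM d w = ((Qd d v)⁻¹ * (Qd d w)⁻¹ * bform d v w) • Matrix.vecMulVec v (fun y => d y * w y) := by
  rw [projM, projM, Matrix.smul_mul, Matrix.mul_smul, smul_smul, Matrix.vecMulVec_mul_vecMulVec]
  ext x y
  simp only [Matrix.smul_apply, Matrix.vecMulVec_apply, dotProduct, Pi.smul_apply, smul_eq_mul, bform, MulOpposite.smul_eq_mul_unop,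
    MulOpposite.unop_op]
  rw [Finset.sum_congr rfl fun i _ => mul_assoc (d i) (v i) (w i)]
  ring

theorem projM_idem (d : Fin k → F) {v : Fin k → F} (hv : Qd d v ≠ 0) : projM d v * projM d v = projM d v := by
  rw [projM_mul, bform_self, projM]
  congr 1
  field_simp

theorem projM_orth (d : Fin k → F) {v w : Fin k → F} (h : bform d v w = 0) : projM d v * projM d w = 0 := by
  rw [projM_mul, h, mul_zero, zero_smul]

theorem rank_projM (hd : ∀ i, d i ≠ 0) {v : Fin k → F} (hv : Qd d v ≠ 0) : (projM d v).rank = 1 := by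
  classical
  refine le_antisymm ?_ ?_
  · rw [projM, ← Matrix.smul_vecMulVec]
    exact Matrix.rank_vecMulVec_le _ _
  · by_contra h
    have h0 : (projM d v).rank = 0 := by omega
    obtain ⟨x, hx⟩ : ∃ x, v x ≠ 0 := by
      by_contra hall
      push Not at hall
      exact hv (by rw [Qd_apply]; simp [hall])
    rw [Matrix.rank, Submodule.finrank_eq_zero, LinearMap.range_eq_bot] at h0
    have := congrFun (LinearMap.congr_fun h0 (Pi.single x 1)) x
    simp only [Matrix.mulVecLin_apply, Matrix.mulVec_single_one, Matrix.col_apply, LinearMap.zero_apply, Pi.zero_apply,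
      projM, Matrix.smul_apply, Matrix.vecMulVec_apply, smul_eq_mul, mul_eq_zero, inv_eq_zero, hv, hx, hd x,
      or_self] at this

/-- Ranks of orthogonal idempotents add. -/
theorem rank_add_orth {ι : Type*} [Fintype ι] [DecidableEq ι] {P Q : Matrix ι ι F} (hP : P * P = P) (hQ : Q * Q = Q)
    (hPQ : P * Q = 0) (hQP : Q * P = 0) : (P + Q).rank = P.rank + Q.rank := by
  have e1 : LinearMap.range (P + Q).mulVecLin = LinearMap.range P.mulVecLin ⊔ LinearMap.range Q.mulVecLin := by
    refine le_antisymm ?_ (sup_le ?_ ?_)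
    · rintro _ ⟨x, rfl⟩
      rw [Matrix.mulVecLin_apply, Matrix.add_mulVec]
      exact Submodule.add_mem_sup ⟨x, rfl⟩ ⟨x, rfl⟩
    · rintro _ ⟨x, rfl⟩
      refine ⟨P *ᵥ x, ?_⟩
      rw [Matrix.mulVecLin_apply, Matrix.mulVecLin_apply, Matrix.mulVec_mulVec, Matrix.add_mul, hP, hQP, add_zero]
    · rintro _ ⟨x, rfl⟩
      refine ⟨Q *ᵥ x, ?_⟩
      rw [Matrix.mulVecLin_apply, Matrix.mulVecLin_apply, Matrix.mulVec_mulVec, Matrix.add_mul, hQ, hPQ, zero_add]
  have e2 : LinearMap.range P.mulVecLin ⊓ LinearMap.range Q.mulVecLin = ⊥ := by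
    rw [Submodule.eq_bot_iff]
    rintro z ⟨⟨x, rfl⟩, ⟨y, hy⟩⟩
    rw [Matrix.mulVecLin_apply, Matrix.mulVecLin_apply] at hy
    rw [Matrix.mulVecLin_apply]
    calc P *ᵥ x = P *ᵥ (P *ᵥ x) := by rw [Matrix.mulVec_mulVec, hP]
      _ = 0 := by rw [← hy, Matrix.mulVec_mulVec, hPQ, Matrix.zero_mulVec]
  have := Submodule.finrank_sup_add_finrank_inf_eq (LinearMap.range P.mulVecLin) (LinearMap.range Q.mulVecLin)
  rw [e2, finrank_bot, add_zero, ← e1] at this
  exact this

theorem sig_of_idem (h2 : (2 : F) ≠ 0) {g : GL (Fin k) F} {P : Matrix (Fin k) (Fin k) F}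
    (hg : (g : Matrix (Fin k) (Fin k) F) = 1 - (2 : F) • P) : sig g = (k : ℤ) - 2 * (P.rank : ℤ) := by
  rw [sig, hg, sub_sub_cancel, Fintype.card_fin, show (2 : F) • P = ((2 : F) • (1 : Matrix (Fin k) (Fin k) F)) * P by rw [Matrix.smul_mul, Matrix.one_mul],
    Matrix.rank_mul_eq_right_of_isUnit_det]
  rw [Matrix.det_smul, Matrix.det_one, mul_one]
  exact (h2.isUnit).pow _

theorem refG_mul_val (d : Fin k → F) {v w : Fin k → F} (h : bform d v w = 0) :
    ((refG d v * refG d w : GL (Fin k) F) : Matrix (Fin k) (Fin k) F) = 1 - (2 : F) • (projM d v + projM d w) := by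
  rw [Units.val_mul, refG_val, refG_val, Matrix.sub_mul, Matrix.one_mul, Matrix.mul_sub, Matrix.mul_one,
    Matrix.smul_mul, Matrix.mul_smul, projM_orth d h, smul_zero, smul_zero, sub_zero, smul_add]
  abel

theorem sig_ref (h2 : (2 : F) ≠ 0) (hd : ∀ i, d i ≠ 0) {v : Fin k → F} (hv : Qd d v ≠ 0) :
    sig (refG d v) = (k : ℤ) - 2 := by
  rw [sig_of_idem h2 (refG_val d v), rank_projM hd hv]; norm_num

theorem sig_ref_two (h2 : (2 : F) ≠ 0) (hd : ∀ i, d i ≠ 0) {v w : Fin k → F} (hv : Qd d v ≠ 0) (hw : Qd d w ≠ 0)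
    (h : bform d v w = 0) : sig (refG d v * refG d w) = (k : ℤ) - 4 := by
  rw [sig_of_idem h2 (refG_mul_val d h), rank_add_orth (projM_idem d hv) (projM_idem d hw) (projM_orth d h)
    (projM_orth d (by rw [bform_comm, h])), rank_projM hd hv, rank_projM hd hw]
  norm_num

theorem sig_ref_three (h2 : (2 : F) ≠ 0) (hd : ∀ i, d i ≠ 0) {u v w : Fin k → F} (hu : Qd d u ≠ 0) (hv : Qd d v ≠ 0)
    (hw : Qd d w ≠ 0) (huv : bform d u v = 0) (huw : bform d u w = 0) (hvw : bform d v w = 0) :
    sig (refG d u * refG d v * refG d w) = (k : ℤ) - 6 := by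
  have h1 : (projM d u + projM d v) * projM d w = 0 := by
    rw [Matrix.add_mul, projM_orth d huw, projM_orth d hvw, add_zero]
  have h1' : projM d w * (projM d u + projM d v) = 0 := by
    rw [Matrix.mul_add, projM_orth d (by rw [bform_comm, huw]), projM_orth d (by rw [bform_comm, hvw]), add_zero]
  have h3 : (projM d u + projM d v) * (projM d u + projM d v) = projM d u + projM d v := by
    rw [Matrix.add_mul, Matrix.mul_add, Matrix.mul_add, projM_idem d hu, projM_idem d hv, projM_orth d huv,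
      projM_orth d (by rw [bform_comm, huv]), add_zero, zero_add]
  have e : ((refG d u * refG d v * refG d w : GL (Fin k) F) : Matrix (Fin k) (Fin k) F) =
      1 - (2 : F) • (projM d u + projM d v + projM d w) := by
    rw [Units.val_mul, refG_mul_val d huv, refG_val, Matrix.sub_mul, Matrix.one_mul, Matrix.mul_sub, Matrix.mul_one,
      Matrix.smul_mul, Matrix.mul_smul, h1, smul_zero, smul_zero, sub_zero]
    simp only [smul_add]
    abel
  rw [sig_of_idem h2 e, rank_add_orth h3 (projM_idem d hw) h1 h1', rank_add_orth (projM_idem d hu) (projM_idem d hv)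
    (projM_orth d huv) (projM_orth d (by rw [bform_comm, huv])), rank_projM hd hu, rank_projM hd hv, rank_projM hd hw]
  norm_num

/-- Commuting reflections are equal or orthogonal. -/
theorem refG_commute (h2 : (2 : F) ≠ 0) (hd : ∀ i, d i ≠ 0) {v w : Fin k → F} (hv : Qd d v ≠ 0) (hw : Qd d w ≠ 0)
    (h : Commute (refG d v) (refG d w)) : refG d v = refG d w ∨ bform d v w = 0 := by
  by_cases hb : bform d v w = 0
  · exact Or.inr hb
  left
  have e := congrArg Units.val h.eq
  simp only [Units.val_mul, refG_val, Matrix.sub_mul, Matrix.mul_sub, Matrix.one_mul, Matrix.mul_one,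
    Matrix.smul_mul, Matrix.mul_smul] at e
  have e' : projM d v * projM d w = projM d w * projM d v := by
    refine smul_right_injective _ h2 (smul_right_injective _ h2 ?_)
    have := sub_eq_zero.2 e
    rw [← sub_eq_zero]
    rw [← this]
    simp only [smul_sub]
    abel
  rw [projM_mul, projM_mul, bform_comm d w v, mul_comm (Qd d w)⁻¹] at e'
  have e'' := smul_right_injective _ (mul_ne_zero (mul_ne_zero (inv_ne_zero hv) (inv_ne_zero hw)) hb) e'
  obtain ⟨x, hx⟩ : ∃ x, v x ≠ 0 := by
    by_contra hall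
    push Not at hall
    exact hv (by rw [Qd_apply]; simp [hall])
  have hwv : w = (w x / v x) • v := funext fun y => by
    have := congrFun (congrFun e'' x) y
    simp only [Matrix.vecMulVec_apply] at this
    rw [Pi.smul_apply, smul_eq_mul, div_mul_eq_mul_div, eq_div_iff hx]
    exact mul_left_cancel₀ (hd y) (by linear_combination this)
  rw [hwv, refG_smul]
  intro h0
  rw [h0, zero_smul] at hwv
  exact hw (by rw [hwv, map_zero])

theorem Qd_single (d : Fin k → F) (u : Fin k) : Qd d (Pi.single u 1) = d u := by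
  rw [Qd_apply, Finset.sum_eq_single u (fun i _ hi => by simp [Pi.single_eq_of_ne hi]) (by simp)]
  simp

theorem bform_single (d v : Fin k → F) (u : Fin k) : bform d v (Pi.single u 1) = d u * v u := by
  rw [bform, Finset.sum_eq_single u (fun i _ hi => by simp [Pi.single_eq_of_ne hi]) (by simp)]
  simp

/-- The sign of one index is a reflection. -/
theorem refG_single (hd : ∀ i, d i ≠ 0) (u : Fin k) : refG d (Pi.single u 1) = sg {u} := by
  refine Units.ext ?_
  ext x y
  rw [refG, slot_rf_entry, Qd_single, sg_val]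
  by_cases hxy : x = y
  · subst hxy
    by_cases hxu : x = u
    · subst hxu
      simp [sv]
      rw [mul_left_comm, inv_mul_cancel₀ (hd x)]; norm_num
    · simp [sv, hxu, Pi.single_eq_of_ne hxu]
  · rw [Matrix.diagonal_apply_ne _ hxy, Pi.single_eq_of_ne hxy]
    by_cases hxu : x = u
    · subst hxu
      simp [Pi.single_eq_of_ne (Ne.symm hxy)]
    · simp [Pi.single_eq_of_ne hxu]

/-- Similitudes carry reflections to reflections. -/
theorem refG_simil (hd : ∀ i, d i ≠ 0) {A : GL (Fin k) F} {μ : F} (hμ : μ ≠ 0)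
    (h : (A : Matrix (Fin k) (Fin k) F)ᵀ * Matrix.diagonal d * (A : Matrix (Fin k) (Fin k) F) = μ • Matrix.diagonal d)
    (v : Fin k → F) :
    A * refG d v * A⁻¹ = refG d ((A : Matrix (Fin k) (Fin k) F) *ᵥ v) ∧
      Qd d ((A : Matrix (Fin k) (Fin k) F) *ᵥ v) = μ * Qd d v := by
  have hq : Qd d ((A : Matrix (Fin k) (Fin k) F) *ᵥ v) = μ * Qd d v := by
    rw [Qd_apply, Qd_apply, ← dot_diag, ← dot_diag, Matrix.mulVec_mulVec, Matrix.dotProduct_mulVec,
      ← Matrix.vecMul_transpose, Matrix.vecMul_vecMul, ← Matrix.mul_assoc, h, Matrix.dotProduct_mulVec,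
      Matrix.vecMul_smul, smul_dotProduct, smul_eq_mul]
  refine ⟨mul_inv_eq_iff_eq_mul.2 (Units.ext ?_), hq⟩
  rw [Units.val_mul, Units.val_mul, refG_val, refG_val, Matrix.mul_sub, Matrix.sub_mul, Matrix.mul_one, Matrix.one_mul,
    Matrix.mul_smul, Matrix.smul_mul]
  congr 2
  rw [projM, projM, hq, Matrix.mul_smul, Matrix.smul_mul, Matrix.mul_vecMulVec, Matrix.vecMulVec_mul]
  have e : Matrix.vecMul (fun y => d y * ((A : Matrix (Fin k) (Fin k) F) *ᵥ v) y) (A : Matrix (Fin k) (Fin k) F) =
      μ • fun y => d y * v y := by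
    have e1 : (fun y => d y * ((A : Matrix (Fin k) (Fin k) F) *ᵥ v) y) =
        Matrix.diagonal d *ᵥ ((A : Matrix (Fin k) (Fin k) F) *ᵥ v) := funext fun y => by rw [Matrix.mulVec_diagonal]
    rw [e1, ← Matrix.mulVec_transpose, Matrix.mulVec_mulVec, Matrix.mulVec_mulVec, h, Matrix.smul_mulVec]
    congr 1
    exact funext fun y => Matrix.mulVec_diagonal d v y
  rw [e, Matrix.vecMulVec_smul, smul_smul]
  congr 1
  field_simp

/-- The orthogonal complement of two orthogonal vectors is non-singular. -/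
theorem Shape.exists_orth_space (hd : Shape d) {u v : Fin k → F} (hu : Qd d u ≠ 0) (hv : Qd d v ≠ 0)
    (huv : bform d u v = 0) :
    ∃ W : Submodule F (Fin k → F), k ≤ Module.finrank F W + 2 ∧ PND ((Qd d).comp W.subtype) ∧
      ∀ w ∈ W, bform d u w = 0 ∧ bform d v w = 0 := by
  have hadd : ∀ a b c : Fin k → F, bform d a (b + c) = bform d a b + bform d a c := fun a b c => by
    simp only [bform, Pi.add_apply, ← Finset.sum_add_distrib]; exact Finset.sum_congr rfl fun i _ => by ring
  have hsm : ∀ (a b : Fin k → F) (t : F), bform d a (t • b) = t * bform d a b := fun a b t => by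
    simp only [bform, Pi.smul_apply, smul_eq_mul, Finset.mul_sum]; exact Finset.sum_congr rfl fun i _ => by ring
  let φ : (Fin k → F) →ₗ[F] F × F :=
    { toFun := fun x => (bform d u x, bform d v x)
      map_add' := fun x y => by simp [hadd]
      map_smul' := fun t x => by simp [hsm] }
  have hfin : k ≤ Module.finrank F (LinearMap.ker φ) + 2 := by
    have h1 := LinearMap.finrank_range_add_finrank_ker φ
    have h2 : Module.finrank F (LinearMap.range φ) ≤ 2 := (Submodule.finrank_le _).trans_eq (by simp)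
    simp only [Module.finrank_fin_fun] at h1
    omega
  have hP : PND ((Qd d).comp (LinearMap.ker φ).subtype) := by
    intro x hx
    refine Subtype.ext (pnd_Qd hd.two hd.ne x.1 fun y => ?_)
    obtain ⟨y', hy'⟩ : ∃ y', y' = y - (bform d u y / Qd d u) • u - (bform d v y / Qd d v) • v := ⟨_, rfl⟩
    have hmem : y' ∈ LinearMap.ker φ := by
      have hy : y = y' + (bform d u y / Qd d u) • u + (bform d v y / Qd d v) • v := by rw [hy']; abel
      rw [LinearMap.mem_ker]
      have e1 := congrArg (bform d u) hy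
      have e2 := congrArg (bform d v) hy
      rw [hadd, hadd, hsm, hsm, bform_self, huv, mul_zero, add_zero, div_mul_cancel₀ _ hu] at e1
      rw [hadd, hadd, hsm, hsm, bform_self, bform_comm d v u, huv, mul_zero, add_zero, div_mul_cancel₀ _ hv] at e2
      exact Prod.ext (show bform d u y' = 0 by simpa using e1) (show bform d v y' = 0 by simpa using e2)
    have h0 : polar (Qd d) x.1 y' = 0 := hx ⟨y', hmem⟩
    have hxu : bform d u x.1 = 0 ∧ bform d v x.1 = 0 := by
      have := LinearMap.mem_ker.1 x.2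
      exact ⟨congrArg Prod.fst this, congrArg Prod.snd this⟩
    have hpol : ∀ a b, polar (Qd d) a b = 2 * bform d a b := fun a b => polar_Qd d a b
    rw [hpol] at h0 ⊢
    have hy : y = y' + (bform d u y / Qd d u) • u + (bform d v y / Qd d v) • v := by rw [hy']; abel
    rw [hy, hadd, hadd, hsm, hsm, bform_comm d x.1 u, bform_comm d x.1 v, hxu.1, hxu.2]
    linear_combination h0
  exact ⟨LinearMap.ker φ, hfin, hP, fun w hw =>
    ⟨congrArg Prod.fst (LinearMap.mem_ker.1 hw), congrArg Prod.snd (LinearMap.mem_ker.1 hw)⟩⟩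

/-- A non-singular vector orthogonal to two orthogonal vectors. -/
theorem Shape.exists_orth_ne (hd : Shape d) {u v : Fin k → F} (hu : Qd d u ≠ 0) (hv : Qd d v ≠ 0)
    (huv : bform d u v = 0) : ∃ w, bform d u w = 0 ∧ bform d v w = 0 ∧ Qd d w ≠ 0 := by
  obtain ⟨W, h1, h2, h3⟩ := hd.exists_orth_space hu hv huv
  obtain ⟨w, hw⟩ := OOmega.exists_nonsing hd.two h2 (by have := hd.three; omega)
  exact ⟨w.1, (h3 _ w.2).1, (h3 _ w.2).2, hw⟩

/-- Value one orthogonal to two orthogonal vectors. -/
theorem Shape.exists_orth (hd : Shape d) (hk : 4 ≤ k) {u v : Fin k → F} (hu : Qd d u ≠ 0) (hv : Qd d v ≠ 0)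
    (huv : bform d u v = 0) : ∃ w, bform d u w = 0 ∧ bform d v w = 0 ∧ Qd d w = 1 := by
  obtain ⟨W, h1, h2, h3⟩ := hd.exists_orth_space hu hv huv
  obtain ⟨w, hw⟩ := OOmega.exists_value hd.two h2 (by omega) 1
  exact ⟨w.1, (h3 _ w.2).1, (h3 _ w.2).2, hw⟩

/-- The derived group is transitive on the vectors of value one. -/
theorem Shape.exists_om_map (hd : Shape d) {v : Fin k → F} (hv : Qd d v = 1) {a : Fin k} (ha : Main a) :
    ∃ f ∈ Om d, (f : Matrix (Fin k) (Fin k) F) *ᵥ Pi.single a 1 = v := by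
  have hk := hd.three
  have hQ := pnd_Qd hd.two hd.ne
  obtain ⟨b, hb, hba, -⟩ := hd.exists_main_avoid a a
  obtain ⟨c, hc, hca, hcb⟩ := hd.exists_main_avoid a b
  obtain ⟨S, hS⟩ : ∃ S : Subgroup ↥(Iso (Qd d)), ∀ g, g ∈ S ↔ g.1 (Pi.single a 1) = Pi.single a 1 := by
    refine ⟨{ carrier := {g | g.1 (Pi.single a 1) = Pi.single a 1}
              one_mem' := rfl
              mul_mem' := fun {x y} hx hy => by
                show x.1 (y.1 _) = _
                rw [hy, hx]
              inv_mem' := fun {x} hx => by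
                show x.1.symm _ = _
                rw [LinearEquiv.symm_apply_eq]; exact hx.symm }, fun g => Iff.rfl⟩
  have hrfmem : ∀ w, bform d w (Pi.single a 1) = 0 → rf (Qd d) w ∈ S := fun w hw => by
    rw [hS, show (rf (Qd d) w).1 = ORefl.refl (Qd d) w from rfl, ORefl.refl_apply, polar_Qd]
    have : (∑ i, d i * (w i * (Pi.single a 1 : Fin k → F) i)) = 0 := hw
    simp only [← Finset.sum_congr rfl fun i (_ : i ∈ Finset.univ) =>
      show d i * (w i * (Pi.single a 1 : Fin k → F) i) = d i * ((Pi.single a 1 : Fin k → F) i * w i) by ring] at *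
    rw [this]; simp
  obtain ⟨Φ, hΦ⟩ : ∃ Φ, Φ = QuotientGroup.mk' (commutator ↥(Iso (Qd d))) := ⟨_, rfl⟩
  letI : CommGroup (↥(Iso (Qd d)) ⧸ commutator ↥(Iso (Qd d))) :=
    inferInstanceAs (CommGroup (Abelianization ↥(Iso (Qd d))))
  have hall : ∀ g : ↥(Iso (Qd d)), ∃ r ∈ S, Φ r = Φ g := by
    intro g
    refine OOmega.induction_on (motive := fun g => ∃ r ∈ S, Φ r = Φ g) hQ (OOmega.two_ne hd.two) g
      ⟨1, one_mem S, rfl⟩ fun w g hw ih => ?_
    obtain ⟨r, hr, hrΦ⟩ := ih
    -- a vector of the same class orthogonal to the first one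
    obtain ⟨s, t, hst⟩ := OOmega.exists_rep (F := F) hd.two (one_ne_zero : (1 : F) ≠ 0) one_ne_zero (Qd d w)
    obtain ⟨w', hw'⟩ : ∃ w' : Fin k → F, w' = Pi.single b s + Pi.single c t := ⟨_, rfl⟩
    have hwq : Qd d w' = Qd d w := by
      rw [Qd_apply, hw', ← Finset.sum_subset (Finset.subset_univ {b, c}) (fun i _ hi => by
        simp only [Finset.mem_insert, Finset.mem_singleton, not_or] at hi
        simp [hi.1, hi.2]), Finset.sum_pair hcb.symm]
      simp [hd.one _ hb, hd.one _ hc, hcb, hcb.symm]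
      linear_combination hst
    have hwa : bform d w' (Pi.single a 1) = 0 := by
      rw [bform_single, hw']; simp [hba.symm, hca.symm]
    refine ⟨rf (Qd d) w' * r, mul_mem (hrfmem w' hwa) hr, ?_⟩
    rw [map_mul, map_mul, hrΦ, OOmega.map_rf_eq hQ Φ (v := w) (w := w') hw hwq]
  obtain ⟨g, hg⟩ := OOmega.exists_conj hQ (v := Pi.single a 1) (w := v)
    (by intro h; simpa using congrFun h a) (by intro h; rw [h, map_zero] at hv; exact zero_ne_one hv)
    (by rw [hv, Qd_single, hd.one _ ha])
  obtain ⟨r, hr, hrg⟩ := hall g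
  refine ⟨slotHom d (g * r⁻¹), ?_, ?_⟩
  · rw [om_eq_map hd.two]
    refine ⟨g * r⁻¹, ?_, rfl⟩
    have : Φ (g * r⁻¹) = 1 := by rw [map_mul, map_inv, hrg, mul_inv_cancel]
    rw [hΦ] at this
    exact (QuotientGroup.eq_one_iff _).1 this
  · rw [slotHom_apply]
    show g.1 (r⁻¹.1 (Pi.single a 1)) = v
    rw [(hS r⁻¹).1 (inv_mem hr), hg]

end Cfsg.Agent.Classical.OTPow
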