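/-
Standard conjugates of the distinguished involutions, and the centralisers of their products.
-/
import Cfsg.Agent.Lib.Classical.OTPow.Swap
import Cfsg.Agent.Lib.Classical.OTPow.Vect

set_option autoImplicit false
set_option linter.unusedSectionVars false

namespace Cfsg.Agent.Classical.OTPow

open Matrix

variable {F : Type*} [Field F] [Fintype F] {k : ℕ} {σ : Type} [Fintype σ] [DecidableEq σ]
  {d : Fin k → F} {X : Subgroup (GL (σ → Fin k) F)}

/-- The central factor of the distinguished involutions. -/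
def ez (F : Type*) [Field F] (k : ℕ) : GL (Fin k) F := if Odd k then -1 else 1

/-- Its sign. -/
def ezs (k : ℕ) : ℤ := if Odd k then -1 else 1

theorem ez_mul_self : ez F k * ez F k = 1 := by unfold ez; split_ifs <;> simp

theorem ez_commute (g : GL (Fin k) F) : Commute (ez F k) g := by
  unfold ez
  split_ifs
  · exact (Commute.one_left g).neg_left
  · exact Commute.one_left g

theorem ezs_ne : ezs k ≠ 0 := by unfold ezs; split_ifs <;> norm_num

theorem ezs_sq : ezs k * ezs k = 1 := by unfold ezs; split_ifs <;> norm_num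

theorem zz_eq_ref (hd : Shape d) (u : Fin k) : (zz u : GL (Fin k) F) = ez F k * refG d (Pi.single u 1) := by
  rw [refG_single hd.ne]
  refine Units.ext ?_
  rw [zz, Units.val_mul, sg_val, sg_val]
  unfold ez
  split_ifs with h
  · rw [Units.val_neg, Units.val_one, Matrix.neg_mul, Matrix.one_mul, Matrix.diagonal_neg]
    refine congrArg _ (funext fun i => ?_)
    rw [zz_sv, if_pos h]; simp
  · rw [Units.val_one, Matrix.one_mul]
    refine congrArg _ (funext fun i => ?_)
    rw [zz_sv, if_neg h, one_mul]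

/-- The slot involution of a vector. -/
noncomputable def rg (d v : Fin k → F) : GL (Fin k) F := ez F k * refG d v

theorem rg_mul_self (d v : Fin k → F) : rg d v * rg d v = 1 := by
  rw [rg, (ez_commute (refG d v)).symm.mul_mul_mul_comm, ez_mul_self, refG_mul_self, one_mul]

theorem rg_mul (d v w : Fin k → F) : rg d v * rg d w = refG d v * refG d w := by
  rw [rg, rg, (ez_commute (refG d v)).symm.mul_mul_mul_comm, ez_mul_self, one_mul]

theorem sig_ez (h2 : (2 : F) ≠ 0) {g : GL (Fin k) F} (hg : g * g = 1) : sig (ez F k * g) = ezs k * sig g := by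
  unfold ez ezs
  split_ifs
  · rw [sig_neg h2 hg (g' := -1 * g) (by rw [Units.val_mul, Units.val_neg, Units.val_one, Matrix.neg_mul, Matrix.one_mul])]
    ring
  · rw [one_mul, one_mul]

theorem sig_rg (hd : Shape d) {v : Fin k → F} (hv : Qd d v ≠ 0) : sig (rg d v) = ezs k * ((k : ℤ) - 2) := by
  rw [rg, sig_ez hd.two (refG_mul_self d v), sig_ref hd.two hd.ne hv]

/-- The signature of a pure involution. -/
theorem sig_pureG (h2 : (2 : F) ≠ 0) {A : σ → GL (Fin k) F} (hA : ∀ j, A j * A j = 1) :
    sig (pureG A : GL (σ → Fin k) F) = ∏ j, sig (A j) := by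
  classical
  choose P f hf hP using fun j => exists_diag_invol h2 (hA j)
  rw [← sig_conj' (pureG P), ← map_inv, ← map_mul, ← map_mul,
    sig_diag h2 (f := fun a => ∏ j, f j (a j)) (fun a => by rw [← Finset.prod_mul_distrib]; simp [hf]) (by
      rw [pureG_val, ← pureS_diagonal]
      exact congrArg pureS (funext fun j => hP j)), ztr_prod h2 hf]
  exact Finset.prod_congr rfl fun j _ => by rw [← sig_conj' (P j) (A j), sig_diag h2 (hf j) (hP j)]

theorem facG_eq_pureG (l : σ) (x : GL (Fin k) F) : facG l x = pureG (Pi.mulSingle l x) := rfl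

theorem prod_erase_card (l : σ) : ∏ _j ∈ Finset.univ.erase l, (k : ℤ) = (k : ℤ) ^ (Fintype.card σ - 1) := by
  rw [Finset.prod_const, Finset.card_erase_of_mem (Finset.mem_univ l), Finset.card_univ]

theorem sig_facG_two (h2 : (2 : F) ≠ 0) {l m : σ} (h : l ≠ m) {x y : GL (Fin k) F} (hx : x * x = 1) (hy : y * y = 1) :
    sig (facG l x * facG m y : GL (σ → Fin k) F) = sig x * sig y * (k : ℤ) ^ (Fintype.card σ - 2) := by
  rw [facG_eq_pureG, facG_eq_pureG, ← map_mul, sig_pureG h2,
    ← Finset.mul_prod_erase _ _ (Finset.mem_univ l),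
    ← Finset.mul_prod_erase _ _ (Finset.mem_erase.2 ⟨h.symm, Finset.mem_univ m⟩), ← mul_assoc]
  · simp only [Pi.mul_apply, Pi.mulSingle_eq_same, Pi.mulSingle_eq_of_ne h, Pi.mulSingle_eq_of_ne h.symm, mul_one, one_mul]
    congr 1
    rw [Finset.prod_congr rfl fun j hj => show _ = (k : ℤ) by
      rw [Pi.mulSingle_eq_of_ne (Finset.ne_of_mem_erase (Finset.mem_of_mem_erase hj)),
        Pi.mulSingle_eq_of_ne (Finset.ne_of_mem_erase hj), one_mul, sig_one, Fintype.card_fin],
      Finset.prod_const, Finset.card_erase_of_mem (Finset.mem_erase.2 ⟨h.symm, Finset.mem_univ m⟩),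
      Finset.card_erase_of_mem (Finset.mem_univ l), Finset.card_univ, Nat.sub_sub]
  · intro j
    rw [Pi.mul_apply]
    rcases eq_or_ne j l with rfl | hl
    · rw [Pi.mulSingle_eq_same, Pi.mulSingle_eq_of_ne h, mul_one, hx]
    · rw [Pi.mulSingle_eq_of_ne hl, one_mul]
      rcases eq_or_ne j m with rfl | hm
      · rw [Pi.mulSingle_eq_same, hy]
      · rw [Pi.mulSingle_eq_of_ne hm, one_mul]

theorem sig_facG_three (h2 : (2 : F) ≠ 0) {l m p : σ} (hlm : l ≠ m) (hlp : l ≠ p) (hmp : m ≠ p)
    {x y w : GL (Fin k) F} (hx : x * x = 1) (hy : y * y = 1) (hw : w * w = 1) :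
    sig (facG l x * facG m y * facG p w : GL (σ → Fin k) F) =
      sig x * sig y * sig w * (k : ℤ) ^ (Fintype.card σ - 3) := by
  obtain ⟨f, hf⟩ : ∃ f : σ → GL (Fin k) F, f = Function.update (Function.update (Function.update (1 : σ → GL (Fin k) F) l x) m y) p w :=
    ⟨_, rfl⟩
  have e : (facG l x * facG m y * facG p w : GL (σ → Fin k) F) = pureG f := by
    rw [facG_eq_pureG, facG_eq_pureG, facG_eq_pureG, ← map_mul, ← map_mul]
    congr 1
    funext j
    simp only [Pi.mul_apply, hf]
    rcases eq_or_ne j l with rfl | h1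
    · simp [Pi.mulSingle_eq_of_ne hlm, Pi.mulSingle_eq_of_ne hlp, hlm, hlp]
    · rcases eq_or_ne j m with rfl | h2
      · simp [Pi.mulSingle_eq_of_ne h1, Pi.mulSingle_eq_of_ne hmp, hmp]
      · rcases eq_or_ne j p with rfl | h3
        · simp [Pi.mulSingle_eq_of_ne h1, Pi.mulSingle_eq_of_ne h2]
        · simp [Pi.mulSingle_eq_of_ne h1, Pi.mulSingle_eq_of_ne h2, Pi.mulSingle_eq_of_ne h3, h1, h2, h3]
  have hl : f l = x := by simp [hf, hlm, hlp]
  have hm : f m = y := by simp [hf, hmp]
  have hp : f p = w := by simp [hf]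
  have ho : ∀ j, j ≠ l → j ≠ m → j ≠ p → f j = 1 := fun j h1 h2 h3 => by simp [hf, h1, h2, h3]
  rw [e, sig_pureG h2 fun j => by
    rcases eq_or_ne j l with rfl | h1
    · rw [hl, hx]
    · rcases eq_or_ne j m with rfl | h2
      · rw [hm, hy]
      · rcases eq_or_ne j p with rfl | h3
        · rw [hp, hw]
        · rw [ho j h1 h2 h3, one_mul]]
  have hcard : ({l, m, p} : Finset σ).card = 3 := by
    rw [Finset.card_insert_of_notMem (by simp [hlm, hlp]), Finset.card_pair hmp]
  rw [← Finset.prod_sdiff (Finset.subset_univ ({l, m, p} : Finset σ)), Finset.prod_congr rfl (fun j hj => by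
      simp only [Finset.mem_sdiff, Finset.mem_univ, true_and, Finset.mem_insert, Finset.mem_singleton, not_or] at hj
      rw [ho j hj.1 hj.2.1 hj.2.2, sig_one, Fintype.card_fin] :
      ∀ j ∈ Finset.univ \ ({l, m, p} : Finset σ), sig (f j) = (k : ℤ)),
    Finset.prod_const, Finset.card_univ_sdiff, hcard, Finset.prod_insert (by simp [hlm, hlp]), Finset.prod_pair hmp,
    hl, hm, hp]
  ring

/-- The standard conjugates of the distinguished involutions. -/
def IsCj (X : Subgroup (GL (σ → Fin k) F)) (s : GL (σ → Fin k) F) : Prop :=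
  ∃ x, x ∈ X ∧ x ∈ Std F k σ ∧ ∃ l u, s = x * facG l (zz u) * x⁻¹

theorem IsCj.conj {x s : GL (σ → Fin k) F} (hx : x ∈ X) (hxs : x ∈ Std F k σ) (h : IsCj X s) :
    IsCj X (x * s * x⁻¹) := by
  obtain ⟨y, hy, hys, l, u, rfl⟩ := h
  exact ⟨x * y, mul_mem hx hy, mul_mem hxs hys, l, u, by group⟩

theorem IsCj.sq {s : GL (σ → Fin k) F} (h : IsCj X s) : s * s = 1 := by
  obtain ⟨y, -, -, l, u, rfl⟩ := h
  rw [show y * facG l (zz u) * y⁻¹ * (y * facG l (zz u) * y⁻¹) = y * (facG l (zz u) * facG l (zz u)) * y⁻¹ by group,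
    ← map_mul, show (zz u : GL (Fin k) F) * zz u = 1 from sg_mul_self _, map_one, mul_one, mul_inv_cancel]

theorem IsCj.std {s : GL (σ → Fin k) F} (h : IsCj X s) : s ∈ Std F k σ := by
  obtain ⟨y, -, hys, l, u, rfl⟩ := h
  exact mul_mem (mul_mem hys (facG_mem l _)) (inv_mem hys)

theorem IsCj.mem (C : Ctx d X) {s : GL (σ → Fin k) F} (h : IsCj X s) : s ∈ X := by
  obtain ⟨y, hy, -, l, u, rfl⟩ := h
  exact mul_mem (mul_mem hy (C.zz_mem l u)) (inv_mem hy)

theorem IsCj.move (B : Base d X) [Nontrivial σ] {s g : GL (σ → Fin k) F} (h : IsCj X s) (hg : g ∈ X)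
    (hs : g * s * g⁻¹ ∈ Std F k σ) : g ∈ Std F k σ ∧ IsCj X (g * s * g⁻¹) := by
  obtain ⟨y, hy, hys, l, u, rfl⟩ := h
  have e : g * (y * facG l (zz u) * y⁻¹) * g⁻¹ = (g * y) * facG l (zz u) * (g * y)⁻¹ := by group
  rw [e] at hs
  have h1 := B.conj_std (mul_mem hg hy) hs
  exact ⟨by simpa using mul_mem h1 (inv_mem hys), g * y, mul_mem hg hy, h1, l, u, e⟩

theorem IsCj.cent (B : Base d X) [Nontrivial σ] {s g : GL (σ → Fin k) F} (h : IsCj X s) (hg : g ∈ X)
    (hc : Commute g s) : g ∈ Std F k σ :=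
  (h.move B hg (by rw [hc.eq, mul_inv_cancel_right]; exact h.std)).1

theorem IsCj.vec (C : Ctx d X) {s : GL (σ → Fin k) F} (h : IsCj X s) :
    ∃ m v, Qd d v ≠ 0 ∧ (Odd k → IsSquare (Qd d v)) ∧ s = facG m (rg d v) := by
  have hd := C.shape
  obtain ⟨y, hy, ⟨A, π, rfl⟩, l, u, rfl⟩ := h
  have hI : pureG A ∈ IsoD (wt (σ := σ) d) := by
    have := mul_mem (C.iso hy) (inv_mem (permG_iso (k := k) (F := F) (d := d) π))
    rwa [mul_inv_cancel_right] at this
  obtain ⟨μ, hμ, hsim⟩ := hd.slot_simil hI (π l)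
  obtain ⟨h1, h2⟩ := refG_simil hd.ne hμ hsim (Pi.single u 1)
  rw [Qd_single] at h2
  refine ⟨π l, (A (π l) : Matrix (Fin k) (Fin k) F) *ᵥ Pi.single u 1,
    by rw [h2]; exact mul_ne_zero hμ (hd.ne u), fun hodd => ?_, ?_⟩
  · rw [h2, hd.one u (Or.inr hodd), mul_one]
    obtain ⟨s, a', ha', he⟩ := hd.simil_rescale hodd hμ hsim
    have e := mem_isoD.1 ha'
    rw [he, Matrix.transpose_smul, Matrix.smul_mul, Matrix.smul_mul, Matrix.mul_smul, e, smul_smul] at hsim
    refine ⟨s, ?_⟩
    have := congrFun (congrFun hsim u) u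
    rw [Matrix.smul_apply, Matrix.smul_apply, Matrix.diagonal_apply_eq, smul_eq_mul, smul_eq_mul] at this
    exact (mul_right_cancel₀ (hd.ne u) this).symm
  · rw [std_facG, rg, ← h1, zz_eq_ref hd]
    congr 1
    rw [← mul_assoc (A (π l)), ← (ez_commute (A (π l))).eq]
    group

/-- Value one vectors give standard conjugates. -/
theorem cj_rg (C : Ctx d X) (l : σ) {w : Fin k → F} (hw : Qd d w = 1) : IsCj X (facG l (rg d w)) := by
  have hd := C.shape
  obtain ⟨a, ha, -, -⟩ := hd.exists_main_avoid ⟨0, by have := hd.three; omega⟩ ⟨0, by have := hd.three; omega⟩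
  obtain ⟨f, hf, hfa⟩ := hd.exists_om_map hw ha
  refine ⟨facG l f, C.omega l f hf, facG_mem l f, l, a, ?_⟩
  have hsim : (f : Matrix (Fin k) (Fin k) F)ᵀ * Matrix.diagonal d * (f : Matrix (Fin k) (Fin k) F) =
      (1 : F) • Matrix.diagonal d := by rw [one_smul]; exact mem_isoD.1 (om_le d hf)
  obtain ⟨h1, -⟩ := refG_simil hd.ne one_ne_zero hsim (Pi.single a 1)
  rw [← map_inv, ← map_mul, ← map_mul, rg, zz_eq_ref hd, ← hfa, ← h1]
  congr 1
  rw [← mul_assoc f, ← (ez_commute f).eq]
  group

/-- A criterion for the centraliser of an element to be standard. -/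
theorem Base.crit (B : Base d X) [Nontrivial σ] {j s z₁ : GL (σ → Fin k) F} (hs : IsCj X s) (hz : IsCj X z₁)
    (hsj : Commute s j) (hzj : Commute z₁ j) (hne : sig (s * j) ≠ sig (z₁ * j))
    (hK : ∀ s'', IsCj X s'' → Commute s s'' → s'' ≠ s → Commute s'' j →
      (sig (s'' * j) = sig (s * j) ∨ sig (s'' * j) = sig (z₁ * j)) →
      (sig (z₁ * j) ≠ sig z₁ → sig (z₁ * j) ≠ sig s → s * s'' ≠ j) →
      ∀ g ∈ X, Commute g j → Commute g (s * s'') → g ∈ Std F k σ)
    {g : GL (σ → Fin k) F} (hg : g ∈ X) (hgj : Commute g j) : g ∈ Std F k σ := by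
  have C := B.ctx
  obtain ⟨t, ht⟩ : ∃ t, t = g * z₁ * g⁻¹ := ⟨_, rfl⟩
  have htj : Commute t j := ht ▸ (hgj.mul_left hzj).mul_left hgj.inv_left
  have htX : t ∈ X := ht ▸ mul_mem (mul_mem hg (hz.mem C)) (inv_mem hg)
  have ht2 : t * t = 1 := by
    rw [ht, show g * z₁ * g⁻¹ * (g * z₁ * g⁻¹) = g * (z₁ * z₁) * g⁻¹ by group, hz.sq, mul_one, mul_inv_cancel]
  have hcl : ∀ d ∈ Subgroup.closure ({s, t} : Set (GL (σ → Fin k) F)), d ∈ X ∧ Commute d j := by
    intro d hd
    induction hd using Subgroup.closure_induction with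
    | mem d hd => rcases hd with rfl | rfl <;> [exact ⟨hs.mem C, hsj⟩; exact ⟨htX, htj⟩]
    | one => exact ⟨one_mem X, Commute.one_left j⟩
    | mul a b _ _ ha hb => exact ⟨mul_mem ha.1 hb.1, ha.2.mul_left hb.2⟩
    | inv a _ ha => exact ⟨inv_mem ha.1, ha.2.inv_left⟩
  have hsigt : sig (t * j) = sig (z₁ * j) := by
    have e : t * j = g * (z₁ * j) * g⁻¹ := by
      rw [ht]
      calc g * z₁ * g⁻¹ * j = g * z₁ * (g⁻¹ * j) := by group
        _ = g * z₁ * (j * g⁻¹) := by rw [hgj.inv_left.eq]
        _ = _ := by group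
    rw [e, sig_conj]
  have hconj : ∀ d a, Commute d j → d * a * d⁻¹ * j = d * (a * j) * d⁻¹ := fun d a h => by
    calc d * a * d⁻¹ * j = d * a * (d⁻¹ * j) := by group
      _ = d * a * (j * d⁻¹) := by rw [h.inv_left.eq]
      _ = _ := by group
  obtain ⟨j', hj', hj'2, hj'1, hjs, hjt, hcase⟩ := TensorNine.dihedral_pair hs.sq ht2 fun d hd e => hne (by
    rw [← hsigt, ← e, hconj d s (hcl d hd).2, sig_conj])
  obtain ⟨hj'X, hj'j⟩ := hcl j' hj'
  have hs''s : s * j' ∈ Std F k σ := mul_mem hs.std (hs.cent B hj'X hjs)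
  have hmain : IsCj X (s * j') ∧ (sig (s * j' * j) = sig (s * j) ∨ sig (s * j' * j) = sig (z₁ * j)) ∧
      (sig (z₁ * j) ≠ sig z₁ → sig (z₁ * j) ≠ sig s → j' ≠ j) := by
    rcases hcase with ⟨⟨d, hd, hde⟩, d', hd', hde'⟩ | ⟨d, hd, hde⟩
    · refine ⟨?_, Or.inl ?_, fun h1 _ e => h1 ?_⟩
      · have := (hs.move B (hcl d hd).1 (by rw [hde]; exact hs''s)).2
        rwa [hde] at this
      · rw [← hde, hconj d s (hcl d hd).2, sig_conj]
      · rw [← hsigt, ← e, ← hde', sig_conj, ht, sig_conj]
    · obtain ⟨hdX, hdj⟩ := hcl d hd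
      refine ⟨?_, Or.inr ?_, fun _ h2 e => h2 ?_⟩
      · have e : s * j' = (d⁻¹ * g) * z₁ * (d⁻¹ * g)⁻¹ := by
          rw [show (d⁻¹ * g) * z₁ * (d⁻¹ * g)⁻¹ = d⁻¹ * (g * z₁ * g⁻¹) * d by group, ← ht, ← hde]; group
        rw [e]
        exact (hz.move B (mul_mem (inv_mem hdX) hg) (e ▸ hs''s)).2
      · rw [← hsigt, ← hde, hconj d _ hdj, sig_conj]
      · rw [← hsigt, ← hde, hconj d _ hdj, sig_conj, e, mul_assoc, ← e, hj'2, mul_one]
  obtain ⟨h1, h2, h3⟩ := hmain
  have hss : s * (s * j') = j' := by rw [← mul_assoc, hs.sq, one_mul]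
  have := hK _ h1 (by
      show s * (s * j') = s * j' * s
      rw [hss, mul_assoc, hjs.eq, hss]) (fun e => hj'1 (mul_eq_left.1 e)) (hsj.mul_left hj'j) h2
    (by rw [hss]; exact h3) t htX htj (by rw [hss]; exact hjt.symm)
  have h4 := (hz.move B hg (ht ▸ this)).1
  exact h4

theorem comm_add {ι : Type*} [Fintype ι] [DecidableEq ι] {G P Q : Matrix ι ι F} (h1 : Commute G P) (h2 : Commute G Q) :
    Commute G (P + Q) := h1.add_right h2

/-- The centraliser of two products through a common involution fixes it. -/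
theorem commute_ref_of_pairs (hd : Shape d) {l : σ} {u v w : Fin k → F} (hu : Qd d u ≠ 0)
    (huv : bform d u v = 0) (huw : bform d u w = 0) (hvw : bform d v w = 0) {g : GL (σ → Fin k) F}
    (h1 : Commute g (facG l (refG d u * refG d v))) (h2 : Commute g (facG l (refG d u * refG d w))) :
    Commute g (facG l (rg d u)) := by
  have hP : ∀ a b : Fin k → F, bform d a b = 0 → Commute g (facG l (refG d a * refG d b)) →
      Commute (g : Matrix (σ → Fin k) (σ → Fin k) F) (facS l (projM d a + projM d b)) := by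
    intro a b hab h
    have e : Commute (g : Matrix (σ → Fin k) (σ → Fin k) F)
        (facS l ((refG d a * refG d b : GL (Fin k) F) : Matrix (Fin k) (Fin k) F)) := by
      rw [← facG_val]; exact congrArg Units.val h.eq
    have hx : projM d a + projM d b =
        (2 : F)⁻¹ • ((1 : Matrix (Fin k) (Fin k) F) + (-1 : F) • ((refG d a * refG d b : GL (Fin k) F) : Matrix (Fin k) (Fin k) F)) := by
      rw [refG_mul_val d hab, neg_one_smul, ← sub_eq_add_neg, sub_sub_cancel, smul_smul, inv_mul_cancel₀ hd.two, one_smul]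
    rw [hx, facS_smul, facS_add, facS_one, facS_smul]
    exact ((Commute.one_right _).add_right (e.smul_right (-1 : F))).smul_right _
  have e : (projM d u + projM d v) * (projM d u + projM d w) = projM d u := by
    rw [Matrix.add_mul, Matrix.mul_add, Matrix.mul_add, projM_idem d hu, projM_orth d huw,
      projM_orth d (by rw [bform_comm, huv]), projM_orth d hvw, add_zero, zero_add, add_zero]
  have h3 : Commute (g : Matrix (σ → Fin k) (σ → Fin k) F) (facS l (projM d u)) := by
    rw [← e, ← facS_mul]; exact (hP u v huv h1).mul_right (hP u w huw h2)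
  have h4 : Commute g (facG l (refG d u)) := by
    refine Units.ext ?_
    rw [Units.val_mul, Units.val_mul, facG_val, refG_val,
      show (1 : Matrix (Fin k) (Fin k) F) - (2 : F) • projM d u = 1 + (-2 : F) • projM d u by
        rw [neg_smul, ← sub_eq_add_neg], facS_add, facS_one, facS_smul]
    exact ((Commute.one_right _).add_right (h3.smul_right (-2 : F))).eq
  have h5 : Commute g (facG l (ez F k)) := by
    unfold ez
    split_ifs
    · refine Units.ext ?_
      rw [Units.val_mul, Units.val_mul, facG_val, Units.val_neg, Units.val_one,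
        show -(1 : Matrix (Fin k) (Fin k) F) = (-1 : F) • 1 by rw [neg_one_smul], facS_smul, facS_one, Matrix.mul_smul,
        Matrix.smul_mul, Matrix.mul_one, Matrix.one_mul]
    · rw [map_one]; exact Commute.one_right g
  rw [rg, map_mul]
  exact h5.mul_right h4

theorem commute_of_rg {l : σ} [NeZero k] {v w : Fin k → F} (h : Commute (facG l (rg d v)) (facG l (rg d w))) :
    Commute (refG d v) (refG d w) := by
  have h1 : rg d v * rg d w = rg d w * rg d v := facG_inj l (by rw [map_mul, map_mul]; exact h.eq)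
  rwa [rg_mul, rg_mul] at h1

/-- The centraliser of a product of two involutions of one slot. -/
theorem Base.cent_pair (B : Base d X) [Nontrivial σ] {l : σ} {u v : Fin k → F} (hs : IsCj X (facG l (rg d u)))
    (hs' : IsCj X (facG l (rg d v))) (hu : Qd d u ≠ 0) (hv : Qd d v ≠ 0) (hqu : Odd k → IsSquare (Qd d u))
    (hqv : Odd k → IsSquare (Qd d v)) (huv : bform d u v = 0) {g : GL (σ → Fin k) F} (hg : g ∈ X)
    (hgc : Commute g (facG l (rg d u) * facG l (rg d v))) : g ∈ Std F k σ := by
  classical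
  have C := B.ctx
  have hd := C.shape
  have h2 := hd.two
  haveI : NeZero k := ⟨by have := hd.three; omega⟩
  obtain ⟨j, hj⟩ : ∃ j, j = facG l (rg d u) * facG l (rg d v) := ⟨_, rfl⟩
  have hjv : j = facG l (refG d u * refG d v) := by rw [hj, ← map_mul, rg_mul]
  rw [← hj] at hgc
  by_cases hk3 : k = 3
  · -- the product is itself a conjugate
    subst hk3
    have hodd : Odd 3 := by decide
    obtain ⟨w, huw, hvw, hw⟩ := hd.exists_orth_ne hu hv huv
    have hone : projM d u + projM d v + projM d w = 1 := by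
      have h3 : (projM d u + projM d v) * (projM d u + projM d v) = projM d u + projM d v := by
        rw [Matrix.add_mul, Matrix.mul_add, Matrix.mul_add, projM_idem d hu, projM_idem d hv, projM_orth d huv,
          projM_orth d (by rw [bform_comm, huv]), add_zero, zero_add]
      have h4 : (projM d u + projM d v) * projM d w = 0 := by
        rw [Matrix.add_mul, projM_orth d huw, projM_orth d hvw, add_zero]
      have h5 : projM d w * (projM d u + projM d v) = 0 := by
        rw [Matrix.mul_add, projM_orth d (by rw [bform_comm, huw]), projM_orth d (by rw [bform_comm, hvw]), add_zero]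
      have hr : (projM d u + projM d v + projM d w).rank = 3 := by
        rw [rank_add_orth h3 (projM_idem d hw) h4 h5, rank_add_orth (projM_idem d hu) (projM_idem d hv)
          (projM_orth d huv) (projM_orth d (by rw [bform_comm, huv])), rank_projM hd.ne hu, rank_projM hd.ne hv,
          rank_projM hd.ne hw]
      obtain ⟨P, hP⟩ : ∃ P, P = projM d u + projM d v + projM d w := ⟨_, rfl⟩
      have hPP : P * P = P := by
        rw [hP, Matrix.add_mul (projM d u + projM d v) (projM d w), Matrix.mul_add (projM d u + projM d v),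
          Matrix.mul_add (projM d w), h3, h4, h5, projM_idem d hw, add_zero, zero_add]
      rw [← hP] at hr ⊢
      have hu' : IsUnit P := by
        rw [← Matrix.mulVec_surjective_iff_isUnit]
        have hT : LinearMap.range P.mulVecLin = ⊤ := Submodule.eq_top_of_finrank_eq (by
          rw [Module.finrank_fin_fun]; exact hr)
        exact LinearMap.range_eq_top.1 hT
      exact (IsUnit.mul_eq_left hu').1 hPP
    have hj' : j = facG l (rg d w) := by
      rw [hjv]
      refine congrArg _ (Units.ext ?_)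
      rw [refG_mul_val d huv, rg, ez, if_pos hodd, Units.val_mul, Units.val_neg, Units.val_one, Matrix.neg_mul,
        Matrix.one_mul, refG_val, show projM d u + projM d v = 1 - projM d w from eq_sub_of_add_eq hone,
        smul_sub, two_smul F (1 : Matrix (Fin 3) (Fin 3) F)]
      abel
    obtain ⟨r, hr⟩ : IsSquare (Qd d w) := by
      obtain ⟨M, hM⟩ : ∃ M : Matrix (Fin 3) (Fin 3) F, M = Matrix.of ![u, v, w] := ⟨_, rfl⟩
      have hD : M * Matrix.diagonal d * Mᵀ = Matrix.diagonal ![Qd d u, Qd d v, Qd d w] := by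
        have hb : ∀ a b : Fin 3 → F, ∑ i, a i * d i * b i = bform d a b := fun a b =>
          Finset.sum_congr rfl fun i _ => by ring
        ext x y
        rw [Matrix.mul_apply]
        simp only [Matrix.mul_diagonal, Matrix.transpose_apply, hM, Matrix.of_apply]
        fin_cases x <;> fin_cases y <;>
          simp [hb, bform_self, huv, huw, hvw, bform_comm d v u, bform_comm d w u, bform_comm d w v]
      have h1 := congrArg Matrix.det hD
      rw [Matrix.det_mul, Matrix.det_mul, Matrix.det_transpose, Matrix.det_diagonal, Matrix.det_diagonal,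
        Finset.prod_eq_one (fun i _ => hd.one i (Or.inr hodd)), mul_one] at h1
      simp [Fin.prod_univ_three] at h1
      obtain ⟨a, ha⟩ := hqu hodd
      obtain ⟨b, hb⟩ := hqv hodd
      rw [ha, hb] at h1
      have ha0 : a ≠ 0 := fun h => hu (by rw [ha, h, mul_zero])
      have hb0 : b ≠ 0 := fun h => hv (by rw [hb, h, mul_zero])
      refine ⟨M.det / (a * b), ?_⟩
      rw [div_mul_div_comm, h1]
      field_simp
    have hr0 : r ≠ 0 := fun h => hw (by rw [hr, h, mul_zero])
    have hcj : IsCj X j := by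
      rw [hj', rg, ← refG_smul d w (inv_ne_zero hr0)]
      refine cj_rg C l ?_
      rw [QuadraticMap.map_smul, hr, smul_eq_mul]
      field_simp
    exact hcj.cent B hg hgc
  have hk : 4 ≤ k := by have := hd.three; omega
  obtain ⟨w, huw, hvw, hw⟩ := hd.exists_orth hk hu hv huv
  have hw0 : Qd d w ≠ 0 := by rw [hw]; exact one_ne_zero
  have hpow : (k : ℤ) ^ (Fintype.card σ - 1) = k * (k : ℤ) ^ (Fintype.card σ - 2) := by
    rw [← pow_succ']; congr 1
    have := Fintype.one_lt_card (α := σ); omega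
  have hK0 : (k : ℤ) ^ (Fintype.card σ - 2) ≠ 0 := pow_ne_zero _ (by omega)
  have hcomm : ∀ {a b : Fin k → F}, bform d a b = 0 → Commute (refG d a) (refG d b) := fun {a b} h => by
    refine Units.ext ?_
    rw [refG_mul_val d h, refG_mul_val d (show bform d b a = 0 by rw [bform_comm, h]), add_comm]
  have hsj : Commute (facG l (rg d u)) j := by
    rw [hjv]
    refine (show Commute (rg d u) (refG d u * refG d v) from ?_).map (facG l)
    exact (ez_commute _).mul_left ((Commute.refl _).mul_right (hcomm huv))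
  have hzj : Commute (facG l (rg d w)) j := by
    rw [hjv]
    refine (show Commute (rg d w) (refG d u * refG d v) from ?_).map (facG l)
    exact (ez_commute _).mul_left ((hcomm huw).symm.mul_right (hcomm hvw).symm)
  have hsigv : sig (facG l (rg d u) * j) = ezs k * ((k : ℤ) - 2) * (k : ℤ) ^ (Fintype.card σ - 1) := by
    rw [hj, ← mul_assoc, ← map_mul, rg_mul_self, map_one, one_mul, sig_facG h2 l (rg_mul_self d v), sig_rg hd hv]
  have hsigw : sig (facG l (rg d w) * j) = ezs k * ((k : ℤ) - 6) * (k : ℤ) ^ (Fintype.card σ - 1) := by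
    have hwu : bform d w u = 0 := by rw [bform_comm, huw]
    have hwv : bform d w v = 0 := by rw [bform_comm, hvw]
    have hinv : (refG d w * refG d u * refG d v) * (refG d w * refG d u * refG d v) = 1 := by
      rw [((hcomm hwv).mul_left (hcomm huv)).symm.mul_mul_mul_comm, refG_mul_self, mul_one,
        (hcomm hwu).symm.mul_mul_mul_comm, refG_mul_self, refG_mul_self, one_mul]
    rw [hjv, ← map_mul, rg, mul_assoc, ← mul_assoc (refG d w),
      sig_facG h2 l (by rw [(ez_commute _).symm.mul_mul_mul_comm, ez_mul_self, hinv, one_mul]),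
      sig_ez h2 hinv, sig_ref_three h2 hd.ne hw0 hu hv hwu hwv huv]
  refine B.crit hs (cj_rg C l hw) hsj hzj ?_ (fun s'' h'' hc hne hcj hsig hno g hg hgj hgs => ?_) hg hgc
  · rw [hsigv, hsigw, hpow]
    intro h
    have := mul_left_cancel₀ (ezs_ne (k := k)) (show ezs k * (((k : ℤ) - 2) * k) = ezs k * (((k : ℤ) - 6) * k) from
      mul_right_cancel₀ hK0 (by linear_combination h))
    nlinarith
  obtain ⟨p, y, hy, -, rfl⟩ := h''.vec C
  by_cases hp : p = l
  · subst hp
    have hno' := hno (by
        rw [hsigw, sig_facG h2 p (rg_mul_self d w), sig_rg hd hw0]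
        intro h
        have := mul_left_cancel₀ (ezs_ne (k := k)) (mul_right_cancel₀ (pow_ne_zero (Fintype.card σ - 1) (by omega : (k : ℤ) ≠ 0)) h)
        omega) (by
        rw [hsigw, sig_facG h2 p (rg_mul_self d u), sig_rg hd hu]
        intro h
        have := mul_left_cancel₀ (ezs_ne (k := k)) (mul_right_cancel₀ (pow_ne_zero (Fintype.card σ - 1) (by omega : (k : ℤ) ≠ 0)) h)
        omega)
    rcases refG_commute h2 hd.ne hu hy (commute_of_rg hc) with e | huy
    · exact absurd (by rw [rg, rg, e]) hne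
    have h1 : Commute (refG d y) (refG d u * refG d v) := by
      have h1 : rg d y * (refG d u * refG d v) = (refG d u * refG d v) * rg d y :=
        facG_inj p (by rw [map_mul, map_mul _ _ (rg d y), ← hjv]; exact hcj.eq)
      have : refG d y = ez F k * rg d y := by rw [rg, ← mul_assoc, ez_mul_self, one_mul]
      rw [this]
      exact (ez_commute _).mul_left h1
    have h3 : Commute (refG d v) (refG d y) := by
      have : refG d v = refG d u * (refG d u * refG d v) := by rw [← mul_assoc, refG_mul_self, one_mul]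
      rw [this]
      exact (hcomm huy).mul_left h1.symm
    rcases refG_commute h2 hd.ne hv hy h3 with e | hvy
    · exact absurd (by rw [hj, show rg d y = rg d v by rw [rg, rg, e]]) hno'
    exact hs.cent B hg (commute_ref_of_pairs hd hu huv huy hvy (hjv ▸ hgj) (by rw [← rg_mul, map_mul]; exact hgs))
  · exfalso
    have hinv : (refG d u * refG d v) * (refG d u * refG d v) = 1 := by
      rw [(hcomm huv).symm.mul_mul_mul_comm, refG_mul_self, refG_mul_self, one_mul]
    have e : sig (facG p (rg d y) * j) = ezs k * ((k : ℤ) - 2) * ((k : ℤ) - 4) * (k : ℤ) ^ (Fintype.card σ - 2) := by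
      rw [hjv, sig_facG_two h2 hp (rg_mul_self d y) hinv, sig_rg hd hy, sig_ref_two h2 hd.ne hu hv huv]
    rw [hsigv, hsigw, e, hpow] at hsig
    rcases hsig with h | h
    · have := mul_left_cancel₀ (ezs_ne (k := k)) (show ezs k * (((k : ℤ) - 2) * ((k : ℤ) - 4)) = ezs k * (((k : ℤ) - 2) * k)
        from mul_right_cancel₀ hK0 (by linear_combination h))
      nlinarith
    · have := mul_left_cancel₀ (ezs_ne (k := k)) (show ezs k * (((k : ℤ) - 2) * ((k : ℤ) - 4)) = ezs k * (((k : ℤ) - 6) * k)
        from mul_right_cancel₀ hK0 (by linear_combination h))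
      nlinarith

/-- The centraliser of a product of two commuting conjugates. -/
theorem Base.cent_two (B : Base d X) [Nontrivial σ] {s s' : GL (σ → Fin k) F} (hs : IsCj X s) (hs' : IsCj X s')
    (hc : Commute s s') (hne : s ≠ s') {g : GL (σ → Fin k) F} (hg : g ∈ X) (hgc : Commute g (s * s')) :
    g ∈ Std F k σ := by
  classical
  have C := B.ctx
  have hd := C.shape
  have h2 := hd.two
  have hk := hd.three
  haveI : NeZero k := ⟨by omega⟩
  obtain ⟨l, u, hu, hqu, rfl⟩ := hs.vec C
  obtain ⟨m, v, hv, hqv, rfl⟩ := hs'.vec C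
  by_cases hlm : m = l
  · subst hlm
    rcases refG_commute h2 hd.ne hu hv (commute_of_rg hc) with e | huv
    · exact absurd (by rw [rg, rg, e]) hne
    exact B.cent_pair hs hs' hu hv hqu hqv huv hg hgc
  -- a value one vector orthogonal to the first one
  obtain ⟨w, huw, hw⟩ : ∃ w, bform d u w = 0 ∧ Qd d w = 1 := by
    obtain ⟨u', huu', hu'⟩ := OOmega.exists_perp h2 (pnd_Qd h2 hd.ne) (by simp; omega) hu
    rw [polar_Qd] at huu'
    have huu'' : bform d u u' = 0 := (mul_eq_zero.1 huu').resolve_left h2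
    obtain ⟨u'', h1, h3, hu''⟩ := hd.exists_orth_ne hu hu' huu''
    obtain ⟨a, b, hab⟩ := OOmega.exists_rep (F := F) h2 hu' hu'' 1
    have h3' : ∑ i, d i * (u' i * u'' i) = 0 := h3
    have h1' : ∑ i, d i * (u i * u'' i) = 0 := h1
    have h0' : ∑ i, d i * (u i * u' i) = 0 := huu''
    refine ⟨a • u' + b • u'', ?_, ?_⟩
    · have : bform d u (a • u' + b • u'') = a * ∑ i, d i * (u i * u' i) + b * ∑ i, d i * (u i * u'' i) := by
        simp only [bform, Finset.mul_sum, ← Finset.sum_add_distrib, Pi.add_apply, Pi.smul_apply, smul_eq_mul]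
        exact Finset.sum_congr rfl fun i _ => by ring
      rw [this, h0', h1', mul_zero, mul_zero, add_zero]
    · have : Qd d (a • u' + b • u'') =
          a ^ 2 * Qd d u' + b ^ 2 * Qd d u'' + 2 * a * b * ∑ i, d i * (u' i * u'' i) := by
        simp only [Qd_apply, Finset.mul_sum, ← Finset.sum_add_distrib, Pi.add_apply, Pi.smul_apply, smul_eq_mul]
        exact Finset.sum_congr rfl fun i _ => by ring
      rw [this, h3', mul_zero, add_zero]
      linear_combination hab
  have hw0 : Qd d w ≠ 0 := by rw [hw]; exact one_ne_zero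
  obtain ⟨j, hj⟩ : ∃ j, j = facG l (rg d u) * facG m (rg d v) := ⟨_, rfl⟩
  rw [← hj] at hgc
  obtain ⟨K, hK⟩ : ∃ K : ℤ, K = (k : ℤ) ^ (Fintype.card σ - 2) := ⟨_, rfl⟩
  have hK0 : K ≠ 0 := hK ▸ pow_ne_zero _ (by omega)
  have hpow : (k : ℤ) ^ (Fintype.card σ - 1) = k * K := by
    rw [hK, ← pow_succ']; congr 1
    have := Fintype.one_lt_card (α := σ); omega
  have hsigs : sig (facG l (rg d u) * j) = ezs k * ((k : ℤ) - 2) * (k * K) := by
    rw [hj, ← mul_assoc, ← map_mul, rg_mul_self, map_one, one_mul, sig_facG h2 m (rg_mul_self d v), sig_rg hd hv, hpow]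
  have hinv : refG d w * refG d u * (refG d w * refG d u) = 1 := by
    have hc' : Commute (refG d w) (refG d u) := Units.ext (by
      rw [refG_mul_val d (show bform d w u = 0 by rw [bform_comm, huw]), refG_mul_val d huw, add_comm])
    rw [hc'.symm.mul_mul_mul_comm, refG_mul_self, refG_mul_self, one_mul]
  have hsigz : sig (facG l (rg d w) * j) = ezs k * ((k : ℤ) - 4) * ((k : ℤ) - 2) * K := by
    rw [hj, ← mul_assoc, ← map_mul, rg_mul, sig_facG_two h2 (Ne.symm hlm) hinv (rg_mul_self d v),
      sig_ref_two h2 hd.ne hw0 hu (by rw [bform_comm, huw]), sig_rg hd hv, hK]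
    ring
  have hwu : Commute (facG l (rg d w) : GL (σ → Fin k) F) (facG l (rg d u)) := by
    refine (show Commute (rg d w) (rg d u) from ?_).map (facG l)
    show rg d w * rg d u = rg d u * rg d w
    rw [rg_mul, rg_mul]
    refine Units.ext ?_
    rw [refG_mul_val d (show bform d w u = 0 by rw [bform_comm, huw]), refG_mul_val d huw, add_comm]
  refine B.crit hs (cj_rg C l hw) (hj ▸ (Commute.refl _).mul_right hc)
    (hj ▸ hwu.mul_right (facG_commute (Ne.symm hlm) _ _)) ?_
    (fun s'' h'' hc'' hne'' hcj hsig hno g hg hgj hgs => ?_) hg hgc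
  · rw [hsigs, hsigz]
    intro h
    have := mul_left_cancel₀ (ezs_ne (k := k)) (show ezs k * (((k : ℤ) - 2) * k) = ezs k * (((k : ℤ) - 4) * ((k : ℤ) - 2))
      from mul_right_cancel₀ hK0 (by linear_combination h))
    nlinarith
  obtain ⟨p, y, hy, hqy, rfl⟩ := h''.vec C
  by_cases hpl : p = l
  · subst hpl
    rcases refG_commute h2 hd.ne hu hy (commute_of_rg hc'') with e | huy
    · exact absurd (by rw [rg, rg, e]) hne''
    exact B.cent_pair hs h'' hu hy hqu hqy huy hg hgs
  by_cases hpm : p = m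
  · subst hpm
    have hvy' : Commute (facG p (rg d v)) (facG p (rg d y)) := by
      have : facG p (rg d v) = facG l (rg d u) * j := by
        rw [hj, ← mul_assoc, ← map_mul, rg_mul_self, map_one, one_mul]
      rw [this]
      exact hc''.mul_left hcj.symm
    rcases refG_commute h2 hd.ne hv hy (commute_of_rg hvy') with e | hvy
    · refine absurd ?_ (hno ?_ ?_)
      · rw [hj, show rg d y = rg d v by rw [rg, rg, e]]
      · rw [hsigz, sig_facG h2 l (rg_mul_self d w), sig_rg hd hw0, hpow]
        intro h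
        have := mul_left_cancel₀ (ezs_ne (k := k)) (show ezs k * (((k : ℤ) - 4) * ((k : ℤ) - 2)) = ezs k * (((k : ℤ) - 2) * k)
          from mul_right_cancel₀ hK0 (by linear_combination h))
        nlinarith
      · rw [hsigz, sig_facG h2 l (rg_mul_self d u), sig_rg hd hu, hpow]
        intro h
        have := mul_left_cancel₀ (ezs_ne (k := k)) (show ezs k * (((k : ℤ) - 4) * ((k : ℤ) - 2)) = ezs k * (((k : ℤ) - 2) * k)
          from mul_right_cancel₀ hK0 (by linear_combination h))
        nlinarith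
    refine B.cent_pair hs' h'' hv hy hqv hqy hvy hg ?_
    have : facG p (rg d v) * facG p (rg d y) = j * (facG l (rg d u) * facG p (rg d y)) := by
      rw [hj, hc.eq]
      calc _ = facG p (rg d v) * (facG l (rg d u) * facG l (rg d u)) * facG p (rg d y) := by
            rw [hs.sq, mul_one]
        _ = _ := by group
    rw [this]
    exact hgj.mul_right hgs
  exfalso
  have e : sig (facG p (rg d y) * j) =
      ezs k * (((k : ℤ) - 2) * ((k : ℤ) - 2) * ((k : ℤ) - 2)) * (k : ℤ) ^ (Fintype.card σ - 3) := by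
    rw [hj, ← mul_assoc, sig_facG_three h2 hpl hpm (Ne.symm hlm) (rg_mul_self d y) (rg_mul_self d u) (rg_mul_self d v),
      sig_rg hd hy, sig_rg hd hu, sig_rg hd hv]
    linear_combination (ezs k * (((k : ℤ) - 2) * ((k : ℤ) - 2) * ((k : ℤ) - 2)) * (k : ℤ) ^ (Fintype.card σ - 3)) * ezs_sq (k := k)
  have h3 : 3 ≤ Fintype.card σ := by
    have := Finset.card_le_univ ({p, l, m} : Finset σ)
    rwa [Finset.card_insert_of_notMem (by simp [hpl, hpm]), Finset.card_pair (Ne.symm hlm)] at this
  have hK3 : K = k * (k : ℤ) ^ (Fintype.card σ - 3) := by rw [hK, ← pow_succ']; congr 1; omega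
  have h30 : (k : ℤ) ^ (Fintype.card σ - 3) ≠ 0 := pow_ne_zero _ (by omega)
  rw [hsigs, hsigz, e, hK3] at hsig
  have hk' : (3 : ℤ) ≤ k := by exact_mod_cast hk
  rcases hsig with h | h
  · have := mul_left_cancel₀ (ezs_ne (k := k)) (show ezs k * (((k : ℤ) - 2) * (((k : ℤ) - 2) * ((k : ℤ) - 2))) =
      ezs k * (((k : ℤ) - 2) * (k * k)) from mul_right_cancel₀ h30 (by linear_combination h))
    have := mul_left_cancel₀ (show ((k : ℤ) - 2) ≠ 0 by omega) this
    nlinarith
  · have := mul_left_cancel₀ (ezs_ne (k := k)) (show ezs k * (((k : ℤ) - 2) * (((k : ℤ) - 2) * ((k : ℤ) - 2))) =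
      ezs k * (((k : ℤ) - 2) * (((k : ℤ) - 4) * k)) from mul_right_cancel₀ h30 (by linear_combination h))
    have := mul_left_cancel₀ (show ((k : ℤ) - 2) ≠ 0 by omega) this
    nlinarith

end Cfsg.Agent.Classical.OTPow
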