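/-
Groups with standard sign centralisers are standard.
-/
import Cfsg.Agent.Lib.Classical.OTPow.Cj

set_option autoImplicit false
set_option linter.unusedSectionVars false

namespace Cfsg.Agent.Classical.OTPow

open Matrix
open scoped commutatorElement

variable {F : Type*} [Field F] [Fintype F] {k : ℕ} {σ : Type} [Fintype σ] [DecidableEq σ]
  {d : Fin k → F} {X : Subgroup (GL (σ → Fin k) F)}

/-- A slot element with every element of the sign centraliser is standard over one slot. -/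
theorem std_of_subsingleton [Nonempty σ] [Subsingleton σ] (hd : Shape d) (g : GL (σ → Fin k) F) : g ∈ Std F k σ := by
  haveI : NeZero k := ⟨by have := hd.three; omega⟩
  obtain ⟨l⟩ := ‹Nonempty σ›
  have hG : BlkM ({l}ᶜ : Finset σ) (g : Matrix (σ → Fin k) (σ → Fin k) F) := fun a b _ j hj =>
    absurd (Subsingleton.elim j l) (by simpa using hj)
  obtain ⟨x, hx⟩ := exists_facG (l := l) (g := g) (M := fibM l (g : Matrix (σ → Fin k) (σ → Fin k) F) fun _ => 0)
    (fibM_ext hG (facS_blkM l _) fun a => by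
      rw [fibM_facS]
      have ha : a = Function.update (fun _ => 0) l (a l) := funext fun j => by
        rw [Subsingleton.elim j l, Function.update_self]
      conv_lhs => rw [ha, fibM_update])
  exact hx ▸ facG_mem l x

/-- Elements permuting the slot groups are standard. -/
theorem Shape.std_of_slot_images (hd : Shape d) {w : GL (σ → Fin k) F} (hw : w ∈ IsoD (wt d)) [Nonempty σ] {J : σ → σ}
    (hJ : Function.Injective J) (h : ∀ i, ∀ f ∈ Om d, ∃ f', w * facG i f * w⁻¹ = facG (J i) f') : w ∈ Std F k σ := by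
  refine mem_std_of_conj (by have := hd.three; omega) w fun i => ⟨J i, fun Y => ?_⟩
  obtain ⟨Y', hY⟩ := hd.slot_of_commute (l := J i) (G := (w : Matrix (σ → Fin k) (σ → Fin k) F) * facS i Y *
    ((w⁻¹ : GL (σ → Fin k) F) : Matrix (σ → Fin k) (σ → Fin k) F)) fun j hj f hf => by
      obtain ⟨i', rfl⟩ := (Finite.injective_iff_surjective.1 hJ) j
      obtain ⟨x, -, hx⟩ := (hd.slot_image hw (h i')).2 f hf
      have hne : i ≠ i' := fun e => hj (by rw [e])
      rw [← facG_val, ← hx, Units.val_mul, Units.val_mul, facG_val]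
      have hc := facS_commute hne Y (x : Matrix (Fin k) (Fin k) F)
      simp only [Matrix.mul_assoc]
      rw [← Matrix.mul_assoc _ (w : Matrix (σ → Fin k) (σ → Fin k) F), Units.inv_mul, Matrix.one_mul,
        ← Matrix.mul_assoc _ (w : Matrix (σ → Fin k) (σ → Fin k) F), Units.inv_mul, Matrix.one_mul,
        ← Matrix.mul_assoc (facS i Y), hc, Matrix.mul_assoc]
  exact ⟨Y', by rw [← hY, Matrix.mul_assoc _ _ (w : Matrix (σ → Fin k) (σ → Fin k) F), Units.inv_mul, Matrix.mul_one]⟩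

/-- Commutators of similitudes are isometries. -/
theorem simil_commutator {a b : GL (Fin k) F} {μ ν : F} (hμ : μ ≠ 0) (hν : ν ≠ 0)
    (ha : (a : Matrix (Fin k) (Fin k) F)ᵀ * Matrix.diagonal d * (a : Matrix (Fin k) (Fin k) F) = μ • Matrix.diagonal d)
    (hb : (b : Matrix (Fin k) (Fin k) F)ᵀ * Matrix.diagonal d * (b : Matrix (Fin k) (Fin k) F) = ν • Matrix.diagonal d) :
    ⁅a, b⁆ ∈ IsoD d := by
  have hmul : ∀ {x y : GL (Fin k) F} {p q : F},
      (x : Matrix (Fin k) (Fin k) F)ᵀ * Matrix.diagonal d * (x : Matrix (Fin k) (Fin k) F) = p • Matrix.diagonal d →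
      (y : Matrix (Fin k) (Fin k) F)ᵀ * Matrix.diagonal d * (y : Matrix (Fin k) (Fin k) F) = q • Matrix.diagonal d →
      ((x * y : GL (Fin k) F) : Matrix (Fin k) (Fin k) F)ᵀ * Matrix.diagonal d *
        ((x * y : GL (Fin k) F) : Matrix (Fin k) (Fin k) F) = (p * q) • Matrix.diagonal d := by
    intro x y p q hx hy
    rw [Units.val_mul, Matrix.transpose_mul]
    calc _ = (y : Matrix (Fin k) (Fin k) F)ᵀ * ((x : Matrix (Fin k) (Fin k) F)ᵀ * Matrix.diagonal d *
          (x : Matrix (Fin k) (Fin k) F)) * (y : Matrix (Fin k) (Fin k) F) := by simp only [Matrix.mul_assoc]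
      _ = _ := by rw [hx, Matrix.mul_smul, Matrix.smul_mul, hy, smul_smul]
  have hinv : ∀ {x : GL (Fin k) F} {p : F}, p ≠ 0 →
      (x : Matrix (Fin k) (Fin k) F)ᵀ * Matrix.diagonal d * (x : Matrix (Fin k) (Fin k) F) = p • Matrix.diagonal d →
      ((x⁻¹ : GL (Fin k) F) : Matrix (Fin k) (Fin k) F)ᵀ * Matrix.diagonal d *
        ((x⁻¹ : GL (Fin k) F) : Matrix (Fin k) (Fin k) F) = p⁻¹ • Matrix.diagonal d := by
    intro x p hp hx
    have e := congrArg (fun M => ((x⁻¹ : GL (Fin k) F) : Matrix (Fin k) (Fin k) F)ᵀ * M *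
      ((x⁻¹ : GL (Fin k) F) : Matrix (Fin k) (Fin k) F)) hx
    simp only [Matrix.mul_smul, Matrix.smul_mul] at e
    have hxx : ((x⁻¹ : GL (Fin k) F) : Matrix (Fin k) (Fin k) F)ᵀ * (x : Matrix (Fin k) (Fin k) F)ᵀ = 1 := by
      rw [← Matrix.transpose_mul, Units.mul_inv, Matrix.transpose_one]
    have e1 : Matrix.diagonal d = p • (((x⁻¹ : GL (Fin k) F) : Matrix (Fin k) (Fin k) F)ᵀ * Matrix.diagonal d *
        ((x⁻¹ : GL (Fin k) F) : Matrix (Fin k) (Fin k) F)) := by
      rw [← e]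
      simp only [Matrix.mul_assoc]
      rw [Units.mul_inv, Matrix.mul_one, ← Matrix.mul_assoc, hxx, Matrix.one_mul]
    conv_rhs => rw [e1, smul_smul, inv_mul_cancel₀ hp, one_smul]
  rw [mem_isoD, commutatorElement_def]
  refine (hmul (hmul (hmul ha hb) (hinv hμ ha)) (hinv hν hb)).trans ?_
  rw [show μ * ν * μ⁻¹ * ν⁻¹ = (μ * μ⁻¹) * (ν * ν⁻¹) by ring, mul_inv_cancel₀ hμ, mul_inv_cancel₀ hν, one_mul,
    one_smul]

/-- The conjugates of a product of two distinguished involutions are standard. -/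
theorem Base.conj_two (B : Base d X) [Nontrivial σ] {l₀ l₁ : σ} (h01 : l₀ ≠ l₁) {a : Fin k} (ha : Main a)
    {g : GL (σ → Fin k) F} (hg : g ∈ X) :
    g * (facG l₀ (zz a) * facG l₁ (zz a)) * g⁻¹ ∈ Std F k σ := by
  classical
  have C := B.ctx
  have hd := C.shape
  have hk := hd.three
  have hk' : (3 : ℤ) ≤ k := by exact_mod_cast hk
  have h2 := hd.two
  haveI : NeZero k := ⟨by omega⟩
  have hz : ∀ l u, IsCj X (facG l (zz u) : GL (σ → Fin k) F) := fun l u =>
    ⟨1, one_mem X, one_mem _, l, u, by group⟩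
  obtain ⟨c, hc⟩ : ∃ c : GL (σ → Fin k) F, c = facG l₀ (zz a) * facG l₁ (zz a) := ⟨_, rfl⟩
  obtain ⟨s, hsdef⟩ : ∃ s, s = facG l₀ (zz a : GL (Fin k) F) := ⟨_, rfl⟩
  obtain ⟨e₀, he₀⟩ : ∃ e₀ : Fin k → F, e₀ = Pi.single a (1 : F) := ⟨_, rfl⟩
  have he0 : Qd d e₀ ≠ 0 := by rw [he₀, Qd_single]; exact hd.ne a
  have hzrg : ∀ u, (zz u : GL (Fin k) F) = rg d (Pi.single u 1) := fun u => zz_eq_ref hd u
  have hs : IsCj X s := hsdef ▸ hz l₀ a
  obtain ⟨K, hK⟩ : ∃ K : ℤ, K = (k : ℤ) ^ (Fintype.card σ - 2) := ⟨_, rfl⟩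
  have hK0 : K ≠ 0 := hK ▸ pow_ne_zero _ (by omega)
  have hpow : (k : ℤ) ^ (Fintype.card σ - 1) = k * K := by
    rw [hK, ← pow_succ']; congr 1
    have := Fintype.one_lt_card (α := σ); omega
  have hsigc : sig c = ((k : ℤ) - 2) * ((k : ℤ) - 2) * K := by
    rw [hc, hzrg, sig_facG_two h2 h01 (rg_mul_self d _) (rg_mul_self d _), ← he₀, sig_rg hd he0, hK]
    linear_combination (((k : ℤ) - 2) * ((k : ℤ) - 2) * (k : ℤ) ^ (Fintype.card σ - 2)) * ezs_sq (k := k)
  have hsigs : sig s = ezs k * ((k : ℤ) - 2) * (k * K) := by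
    rw [hsdef, hzrg, sig_facG h2 l₀ (rg_mul_self d _), ← he₀, sig_rg hd he0, hpow]
  have hne : sig s ≠ sig c := by
    rw [hsigs, hsigc]
    intro h
    have h' := congrArg (fun x : ℤ => |x|) h
    simp only [abs_mul, abs_of_nonneg (show (0 : ℤ) ≤ (k : ℤ) - 2 by omega), Nat.abs_cast] at h'
    rw [show |ezs k| = 1 by unfold ezs; split_ifs <;> norm_num, one_mul] at h'
    have := mul_left_cancel₀ (show ((k : ℤ) - 2) ≠ 0 by omega) (show ((k : ℤ) - 2) * ((k : ℤ) * |K|) =
      ((k : ℤ) - 2) * (((k : ℤ) - 2) * |K|) by linear_combination h')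
    have := mul_right_cancel₀ (abs_ne_zero.2 hK0) this
    omega
  have hcX : c ∈ X := hc ▸ mul_mem (C.zz_mem _ _) (C.zz_mem _ _)
  have hcc : c * c = 1 := by
    rw [hc, (facG_commute h01.symm (zz a) (zz a)).mul_mul_mul_comm, (hz l₀ a).sq, (hz l₁ a).sq, one_mul]
  have hcomm : Commute (facG l₀ (zz a) : GL (σ → Fin k) F) (facG l₁ (zz a)) := facG_commute h01 _ _
  have hne01 : (facG l₀ (zz a) : GL (σ → Fin k) F) ≠ facG l₁ (zz a) := fun e => by
    have h := congrArg Units.val e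
    rw [facG_val, facG_val] at h
    obtain ⟨q, hq⟩ := facS_eq_facS h01 h
    exact hd.zz_not_scalar a q hq
  rw [← hc]
  obtain ⟨t, ht⟩ : ∃ t, t = g * c * g⁻¹ := ⟨_, rfl⟩
  rw [← ht]
  have htX : t ∈ X := ht ▸ mul_mem (mul_mem hg hcX) (inv_mem hg)
  have ht2 : t * t = 1 := by
    rw [ht, show g * c * g⁻¹ * (g * c * g⁻¹) = g * (c * c) * g⁻¹ by group, hcc, mul_one, mul_inv_cancel]
  have hcl : Subgroup.closure ({s, t} : Set (GL (σ → Fin k) F)) ≤ X := (Subgroup.closure_le X).2 (by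
    intro x hx; rcases hx with rfl | rfl <;> [exact hs.mem C; exact htX])
  obtain ⟨j, hj, hj2, hj1, hjs, hjt, hcase⟩ := TensorNine.dihedral_pair hs.sq ht2 fun d hd' e => hne (by
    rw [← sig_conj d s, e, ht, sig_conj])
  have hjX := hcl hj
  have hsjS : s * j ∈ Std F k σ := mul_mem hs.std (hs.cent B hjX hjs)
  have hj_eq : s * (s * j) = j := by rw [← mul_assoc, hs.sq, one_mul]
  have hscom : Commute s (s * j) := by
    show s * (s * j) = s * j * s
    rw [hj_eq, mul_assoc, hjs.eq, hj_eq]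
  rcases hcase with ⟨⟨d', hd', hde⟩, -⟩ | ⟨d', hd', hde⟩
  · have h'' := (hs.move B (hcl hd') (hde ▸ hsjS)).2
    rw [hde] at h''
    exact B.cent_two hs h'' hscom (fun e => hj1 (mul_eq_left.1 e.symm)) htX (by rw [hj_eq]; exact hjt.symm)
  obtain ⟨y, hy⟩ : ∃ y, y = d'⁻¹ * g := ⟨_, rfl⟩
  have hyX : y ∈ X := hy ▸ mul_mem (inv_mem (hcl hd')) hg
  have hyc : s * j = y * c * y⁻¹ := by
    rw [hy, show d'⁻¹ * g * c * (d'⁻¹ * g)⁻¹ = d'⁻¹ * (g * c * g⁻¹) * d' by group, ← ht, ← hde]; group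
  have hyS : y ∈ Std F k σ := by
    have h1 : y⁻¹ * s * y⁻¹⁻¹ ∈ Std F k σ := by
      refine B.cent_two (hz l₀ a) (hz l₁ a) hcomm hne01 (mul_mem (mul_mem (inv_mem hyX) (hs.mem C)) (inv_mem (inv_mem hyX))) ?_
      rw [← hc, show c = y⁻¹ * (s * j) * y⁻¹⁻¹ by rw [hyc]; group]
      exact hscom.map (MulAut.conj y⁻¹).toMonoidHom
    simpa using inv_mem (hs.move B (inv_mem hyX) h1).1
  obtain ⟨P, hP⟩ : ∃ P, P = y * facG l₀ (zz a) * y⁻¹ := ⟨_, rfl⟩
  obtain ⟨Q, hQ⟩ : ∃ Q, Q = y * facG l₁ (zz a) * y⁻¹ := ⟨_, rfl⟩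
  have hPc : IsCj X P := hP ▸ (hz l₀ a).conj hyX hyS
  have hQc : IsCj X Q := hQ ▸ (hz l₁ a).conj hyX hyS
  have hPQ : s * j = P * Q := by rw [hyc, hP, hQ, hc]; group
  have hPQc : Commute P Q := hP ▸ hQ ▸ hcomm.map (MulAut.conj y).toMonoidHom
  obtain ⟨m, v, hv, hqv, rfl⟩ := hPc.vec C
  obtain ⟨p, w, hw, hqw, rfl⟩ := hQc.vec C
  have hmp : m ≠ p := by
    intro e
    subst e
    have h1 : sig (facG m (rg d v) * facG m (rg d w) : GL (σ → Fin k) F) = sig c := by
      rw [← hPQ, hyc, sig_conj]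
    rw [hsigc, ← map_mul] at h1
    rcases refG_commute h2 hd.ne hv hw (commute_of_rg hPQc) with e | hvw
    · rw [show rg d w = rg d v by rw [rg, rg, e], rg_mul_self, map_one, sig_one, Fintype.card_fun, Fintype.card_fin] at h1
      push_cast at h1
      rw [show (k : ℤ) ^ Fintype.card σ = k * (k * K) by
        rw [← hpow, ← pow_succ']; congr 1; have := Fintype.card_pos (α := σ); omega, ← mul_assoc] at h1
      have := mul_right_cancel₀ hK0 h1
      nlinarith
    · have hi : rg d v * rg d w * (rg d v * rg d w) = 1 := by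
        rw [← map_one (MonoidHom.id (GL (Fin k) F))]
        have hc' : Commute (rg d v) (rg d w) := facG_inj m (by rw [map_mul, map_mul]; exact hPQc.eq)
        rw [hc'.symm.mul_mul_mul_comm, rg_mul_self, rg_mul_self, one_mul]; rfl
      rw [sig_facG h2 m hi, rg_mul, sig_ref_two h2 hd.ne hv hw hvw, hpow] at h1
      have := mul_right_cancel₀ hK0 (show ((k : ℤ) - 4) * k * K = ((k : ℤ) - 2) * ((k : ℤ) - 2) * K by linear_combination h1)
      nlinarith
  have hjv : j = s * (facG m (rg d v) * facG p (rg d w)) := by rw [← hPQ, hj_eq]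
  have hsPQ : Commute s (facG m (rg d v) * facG p (rg d w)) := hPQ ▸ hscom
  have hseq : s = facG l₀ (rg d e₀) := by rw [hsdef, hzrg, he₀]
  have hboth : Commute s (facG m (rg d v)) ∧ Commute s (facG p (rg d w)) := by
    by_cases hlm : l₀ = m
    · have hq : Commute s (facG p (rg d w)) := hseq ▸ facG_commute (hlm ▸ hmp) _ _
      refine ⟨?_, hq⟩
      have e : facG m (rg d v) = facG m (rg d v) * facG p (rg d w) * facG p (rg d w) := by rw [mul_assoc, hQc.sq, mul_one]
      rw [e]; exact hsPQ.mul_right hq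
    · have hp : Commute s (facG m (rg d v)) := hseq ▸ facG_commute hlm _ _
      refine ⟨hp, ?_⟩
      have e : facG p (rg d w) = facG m (rg d v) * (facG m (rg d v) * facG p (rg d w)) := by
        rw [← mul_assoc, hPc.sq, one_mul]
      rw [e]; exact hp.mul_right hsPQ
  have hjP : Commute (facG m (rg d v)) j := hjv ▸ hboth.1.symm.mul_right ((Commute.refl _).mul_right hPQc)
  have hjQ : Commute (facG p (rg d w)) j := hjv ▸ hboth.2.symm.mul_right (hPQc.symm.mul_right (Commute.refl _))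
  have hsigsj : sig (s * j) = ((k : ℤ) - 2) * ((k : ℤ) - 2) * K := by rw [hyc, sig_conj, hsigc]
  have hsecond : ∀ z₁, IsCj X z₁ → Commute z₁ j → sig (z₁ * j) ≠ sig (s * j) → t ∈ Std F k σ := by
    intro z₁ hz1 hz1j hne'
    exact B.crit hs hz1 hjs.symm hz1j hne'.symm
      (fun s'' h'' hc'' hne'' _ _ _ g hg _ hgs => B.cent_two hs h'' hc'' hne''.symm hg hgs) htX hjt.symm
  by_cases hlm : l₀ = m
  · subst hlm
    rcases refG_commute h2 hd.ne he0 hv (commute_of_rg (hseq ▸ hboth.1)) with e | huv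
    · refine hQc.cent B htX ?_
      have : j = facG p (rg d w) := by
        rw [hjv, hseq, show rg d v = rg d e₀ by rw [rg, rg, e], ← mul_assoc, ← map_mul, rg_mul_self, map_one, one_mul]
      exact this ▸ hjt.symm
    refine hsecond _ hQc hjQ ?_
    have e : facG p (rg d w) * j = facG l₀ (refG d e₀ * refG d v) := by
      have : j = facG p (rg d w) * (s * facG l₀ (rg d v)) := by
        rw [hjv, hPQc.eq, ← mul_assoc, hboth.2.eq, mul_assoc]
      rw [this, ← mul_assoc, hQc.sq, one_mul, hseq, ← map_mul, rg_mul]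
    have hi : refG d e₀ * refG d v * (refG d e₀ * refG d v) = 1 := by
      have hc' : Commute (refG d e₀) (refG d v) := commute_of_rg (hseq ▸ hboth.1)
      rw [hc'.symm.mul_mul_mul_comm, refG_mul_self, refG_mul_self, one_mul]
    rw [e, hsigsj, sig_facG h2 l₀ hi, sig_ref_two h2 hd.ne he0 hv huv, hpow]
    intro h
    have := mul_right_cancel₀ hK0 (show ((k : ℤ) - 4) * k * K = ((k : ℤ) - 2) * ((k : ℤ) - 2) * K by linear_combination h)
    nlinarith
  by_cases hlp : l₀ = p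
  · subst hlp
    rcases refG_commute h2 hd.ne he0 hw (commute_of_rg (hseq ▸ hboth.2)) with e | huw
    · refine hPc.cent B htX ?_
      have : j = facG m (rg d v) := by
        rw [hjv, hPQc.eq, hseq, show rg d w = rg d e₀ by rw [rg, rg, e], ← mul_assoc, ← map_mul, rg_mul_self, map_one, one_mul]
      exact this ▸ hjt.symm
    refine hsecond _ hPc hjP ?_
    have e : facG m (rg d v) * j = facG l₀ (refG d e₀ * refG d w) := by
      have : j = facG m (rg d v) * (s * facG l₀ (rg d w)) := by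
        rw [hjv, ← mul_assoc, hboth.1.eq, mul_assoc]
      rw [this, ← mul_assoc, hPc.sq, one_mul, hseq, ← map_mul, rg_mul]
    have hi : refG d e₀ * refG d w * (refG d e₀ * refG d w) = 1 := by
      have hc' : Commute (refG d e₀) (refG d w) := commute_of_rg (hseq ▸ hboth.2)
      rw [hc'.symm.mul_mul_mul_comm, refG_mul_self, refG_mul_self, one_mul]
    rw [e, hsigsj, sig_facG h2 l₀ hi, sig_ref_two h2 hd.ne he0 hw huw, hpow]
    intro h
    have := mul_right_cancel₀ hK0 (show ((k : ℤ) - 4) * k * K = ((k : ℤ) - 2) * ((k : ℤ) - 2) * K by linear_combination h)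
    nlinarith
  -- three slots
  obtain ⟨b, hb, hba, -⟩ := hd.exists_main_avoid a a
  obtain ⟨e₁, he₁⟩ : ∃ e₁ : Fin k → F, e₁ = Pi.single b (1 : F) := ⟨_, rfl⟩
  have hq1 : Qd d e₁ ≠ 0 := by rw [he₁, Qd_single]; exact hd.ne b
  have horth : bform d e₁ e₀ = 0 := by rw [he₀, bform_single, he₁, Pi.single_eq_of_ne hba.symm, mul_zero]
  have hc10 : Commute (refG d e₁) (refG d e₀) := by
    refine Units.ext ?_
    rw [refG_mul_val d horth, refG_mul_val d (show bform d e₀ e₁ = 0 by rw [bform_comm, horth]), add_comm]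
  have hz1c : Commute (facG l₀ (rg d e₁)) j := by
    rw [hjv, hseq]
    refine ((show Commute (rg d e₁) (rg d e₀) from ?_).map (facG l₀)).mul_right
      ((facG_commute hlm _ _).mul_right (facG_commute hlp _ _))
    exact (ez_commute _).mul_left ((ez_commute _).symm.mul_right hc10)
  refine hsecond _ (he₁ ▸ hzrg b ▸ hz l₀ b) hz1c ?_
  have hi : refG d e₁ * refG d e₀ * (refG d e₁ * refG d e₀) = 1 := by
    rw [hc10.symm.mul_mul_mul_comm, refG_mul_self, refG_mul_self, one_mul]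
  have h3 : 3 ≤ Fintype.card σ := by
    have := Finset.card_le_univ ({l₀, m, p} : Finset σ)
    rwa [Finset.card_insert_of_notMem (by simp [hlm, hlp]), Finset.card_pair hmp] at this
  have hK3 : K = k * (k : ℤ) ^ (Fintype.card σ - 3) := by rw [hK, ← pow_succ']; congr 1; omega
  rw [hsigsj, hjv, hseq, ← mul_assoc, ← map_mul, rg_mul, ← mul_assoc,
    sig_facG_three h2 hlm hlp hmp hi (rg_mul_self d v) (rg_mul_self d w), sig_ref_two h2 hd.ne hq1 he0 horth,
    sig_rg hd hv, sig_rg hd hw, hK3]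
  intro h
  have h' := mul_right_cancel₀ (pow_ne_zero (Fintype.card σ - 3) (show (k : ℤ) ≠ 0 by omega))
    (show ((k : ℤ) - 2) * ((k : ℤ) - 2) * ((k : ℤ) - 4) * (k : ℤ) ^ (Fintype.card σ - 3) =
      ((k : ℤ) - 2) * ((k : ℤ) - 2) * (k : ℤ) * (k : ℤ) ^ (Fintype.card σ - 3) by
      linear_combination h - (((k : ℤ) - 2) * ((k : ℤ) - 2) * ((k : ℤ) - 4) * (k : ℤ) ^ (Fintype.card σ - 3)) * ezs_sq (k := k))
  have := mul_left_cancel₀ (mul_ne_zero (show ((k : ℤ) - 2) ≠ 0 by omega) (show ((k : ℤ) - 2) ≠ 0 by omega)) h'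
  omega

/-- Conjugates of slot groups are standard. -/
theorem Base.conj_slot (B : Base d X) [Nontrivial σ] {g : GL (σ → Fin k) F} (hg : g ∈ X) (l : σ)
    {f : GL (Fin k) F} (hf : f ∈ Om d) : g * facG l f * g⁻¹ ∈ Std F k σ := by
  classical
  have C := B.ctx
  have hd := C.shape
  have hk := hd.three
  obtain ⟨M, hM⟩ : ∃ M : Subgroup (GL (σ → Fin k) F), M = X ⊓ Std F k σ ⊓
      ⨅ x : ↥X, (Std F k σ).comap (MulAut.conj x.1).toMonoidHom := ⟨_, rfl⟩
  have hmem : ∀ p, p ∈ M ↔ (p ∈ X ∧ p ∈ Std F k σ) ∧ ∀ x ∈ X, x * p * x⁻¹ ∈ Std F k σ := fun p => by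
    rw [hM, Subgroup.mem_inf, Subgroup.mem_inf, Subgroup.mem_iInf]
    exact and_congr Iff.rfl ⟨fun h x hx => h ⟨x, hx⟩, fun h x => h x.1 x.2⟩
  have hnorm : ∀ x ∈ X, ∀ p ∈ M, x * p * x⁻¹ ∈ M := fun x hx p hp => by
    rw [hmem] at hp ⊢
    refine ⟨⟨mul_mem (mul_mem hx hp.1.1) (inv_mem hx), hp.2 x hx⟩, fun y hy => ?_⟩
    rw [show y * (x * p * x⁻¹) * y⁻¹ = y * x * p * (y * x)⁻¹ by group]
    exact hp.2 _ (mul_mem hy hx)
  obtain ⟨N, hN⟩ : ∃ N, N = Om d ⊓ M.comap (facG l) := ⟨_, rfl⟩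
  rcases hd.om_cases (N := N) (hN ▸ inf_le_left) (fun x hx p hp => by
      rw [hN, Subgroup.mem_inf, Subgroup.mem_comap] at hp ⊢
      refine ⟨mul_mem (mul_mem hx hp.1) (inv_mem hx), ?_⟩
      rw [map_mul, map_mul, map_inv]
      exact hnorm _ (C.omega l x hx) _ hp.2) with h | h
  · have : f ∈ N := h.symm ▸ hf
    rw [hN] at this
    exact ((hmem _).1 this.2).2 g hg
  exfalso
  obtain ⟨m, hml⟩ := exists_ne l
  obtain ⟨a, ha, -, -⟩ := hd.exists_main_avoid ⟨0, by omega⟩ ⟨0, by omega⟩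
  obtain ⟨b, hb, hba, -⟩ := hd.exists_main_avoid a a
  obtain ⟨c, hc, hca, hcb⟩ := hd.exists_main_avoid a b
  have hcM : facG l (zz a) * facG m (zz a) ∈ M := by
    rw [hmem]
    exact ⟨⟨mul_mem (C.zz_mem _ _) (C.zz_mem _ _), mul_mem (facG_mem _ _) (facG_mem _ _)⟩,
      fun x hx => B.conj_two hml.symm ha hx⟩
  obtain ⟨ρ, hρ⟩ : ∃ ρ : GL (Fin k) F, ρ = permMat F (Equiv.swap a b * Equiv.swap b c) := ⟨_, rfl⟩
  have hρO : ρ ∈ Om d := hρ ▸ hd.cycle_mem ha hb hc hba.symm hcb.symm hca.symm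
  have hρz : ρ * zz a * ρ⁻¹ = zz c := by
    rw [hρ, zz, zz, permMat_sg]
    congr 1
    have hπa : (Equiv.swap a b * Equiv.swap b c)⁻¹ a = c := by
      simp [Equiv.Perm.inv_def, Equiv.symm_apply_eq, Equiv.swap_apply_of_ne_of_ne hca hcb]
    unfold zset
    split_ifs <;> ext i <;>
      simp only [Finset.mem_map_equiv, Finset.mem_compl, Finset.mem_singleton, Equiv.symm_apply_eq, hπa]
  have hmem2 : facG l (sg {a, c}) ∈ M := by
    have e : facG l (sg {a, c}) = facG l (zz a) * facG m (zz a) * (facG l ρ * (facG l (zz a) * facG m (zz a)) * (facG l ρ)⁻¹) := by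
      have c1 := facG_commute (F := F) (k := k) hml ((zz a : GL (Fin k) F)) ρ
      calc facG l (sg {a, c}) = facG l (zz a) * facG l (ρ * zz a * ρ⁻¹) := by rw [hρz, sg_pair_zz hca.symm, map_mul]
        _ = facG l (zz a) * (facG m (zz a) * facG m (zz a)) * facG l (ρ * zz a * ρ⁻¹) := by
            rw [← map_mul (facG m), show (zz a : GL (Fin k) F) * zz a = 1 from sg_mul_self _, map_one, mul_one]
        _ = facG l (zz a) * facG m (zz a) * (facG m (zz a) * facG l (ρ * zz a * ρ⁻¹)) := by group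
        _ = _ := by
            rw [(facG_commute hml _ _).eq, map_mul, map_mul, map_inv]
            congr 1
            calc facG l ρ * facG l (zz a) * (facG l ρ)⁻¹ * facG m (zz a) =
                facG l ρ * facG l (zz a) * ((facG l ρ)⁻¹ * facG m (zz a)) := by group
              _ = facG l ρ * facG l (zz a) * (facG m (zz a) * (facG l ρ)⁻¹) := by rw [(c1.inv_right).eq]
              _ = _ := by group
    rw [e]
    exact mul_mem hcM (hnorm _ (C.omega l ρ hρO) _ hcM)
  obtain ⟨q, hq⟩ := h (sg {a, c}) (by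
    rw [hN, Subgroup.mem_inf, Subgroup.mem_comap]; exact ⟨hd.pair_mem ha hc hca.symm, hmem2⟩)
  exact hd.pair_not_scalar hca.symm q hq

/-- Over two slots, conjugation permutes the slot groups. -/
theorem Base.std_of_two (B : Base d X) [Nontrivial σ] (h2card : Fintype.card σ = 2) {g : GL (σ → Fin k) F}
    (hg : g ∈ X) : g ∈ Std F k σ := by
  classical
  have C := B.ctx
  have hd := C.shape
  haveI : NeZero k := ⟨by have := hd.three; omega⟩
  obtain ⟨l⟩ : Nonempty σ := inferInstance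
  obtain ⟨r, hrl⟩ := exists_ne l
  have hall : ∀ j, j = l ∨ j = r := fun j => by
    have h : (Finset.univ : Finset σ) = {l, r} := (Finset.eq_of_subset_of_card_le (Finset.subset_univ _) (by
      rw [Finset.card_univ, h2card, Finset.card_pair hrl.symm])).symm
    simpa using h.subset (Finset.mem_univ j)
  let φ : GL (Fin k) F × GL (Fin k) F →* GL (σ → Fin k) F :=
    { toFun := fun p => facG l p.1 * facG r p.2
      map_one' := by simp
      map_mul' := fun p q => by
        rw [Prod.fst_mul, Prod.snd_mul, map_mul, map_mul, (facG_commute hrl p.2 q.1).mul_mul_mul_comm] }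
  have hφ : ∀ a b, φ (a, b) = facG l a * facG r b := fun a b => rfl
  have hφinj : ∀ {a b}, a ∈ Om d → b ∈ Om d → φ (a, b) = 1 → (∃ q : F, (a : Matrix (Fin k) (Fin k) F) = q • 1) := by
    intro a b _ _ e
    rw [hφ, mul_eq_one_iff_eq_inv, ← map_inv] at e
    have h := congrArg Units.val e
    rw [facG_val, facG_val] at h
    exact facS_eq_facS hrl.symm h
  obtain ⟨H, hH⟩ : ∃ H : Subgroup (GL (σ → Fin k) F), H = ((Om d).prod (Om d)).map φ := ⟨_, rfl⟩
  have hab : ∀ p q : Equiv.Perm σ, p * q = q * p := by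
    have hp : ∀ p : Equiv.Perm σ, p = 1 ∨ p = Equiv.swap l r := by
      intro p
      rcases hall (p l) with h | h
      · refine Or.inl (Equiv.ext fun j => ?_)
        rcases hall j with rfl | rfl
        · rw [h]; rfl
        · rcases hall (p j) with h' | h'
          · exact absurd (p.injective (h'.trans h.symm)) hrl
          · rw [h']; rfl
      · refine Or.inr (Equiv.ext fun j => ?_)
        rcases hall j with rfl | rfl
        · rw [h, Equiv.swap_apply_left]
        · rcases hall (p j) with h' | h'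
          · rw [h', Equiv.swap_apply_right]
          · exact absurd (p.injective (h'.trans h.symm)) hrl
    intro p q
    rcases hp p with rfl | rfl <;> rcases hp q with rfl | rfl <;> simp
  -- images of the slot groups lie in the product of the slot groups
  have hsmall : ∀ i, ((Om d).map (facG i)).map (MulAut.conj g).toMonoidHom ≤ H := by
    intro i
    obtain ⟨Φ, hΦ⟩ : ∃ Φ : GL (Fin k) F →* GL (σ → Fin k) F, Φ = (MulAut.conj g).toMonoidHom.comp (facG i) := ⟨_, rfl⟩
    rw [Subgroup.map_map, ← hΦ]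
    have hΦv : ∀ f, Φ f = g * facG i f * g⁻¹ := fun f => by rw [hΦ]; rfl
    have hperp : (Om d).map Φ = ⁅(Om d).map Φ, (Om d).map Φ⁆ := by rw [← Subgroup.map_commutator, hd.om_perfect]
    obtain ⟨P, hP⟩ : ∃ P : Subgroup (GL (σ → Fin k) F), P = ((IsoD d).prod (IsoD d)).map φ := ⟨_, rfl⟩
    have hpure : ∀ f ∈ Om d, ∃ A, Φ f = pureG A := by
      intro f hf
      rw [← hd.om_perfect] at hf
      suffices h : ⁅Om d, Om d⁆ ≤ Om d ⊓ (pureG (F := F) (k := k) (σ := σ)).range.comap Φ by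
        obtain ⟨A, hA⟩ := (h hf).2
        exact ⟨A, hA.symm⟩
      rw [Subgroup.commutator_le]
      intro x hx y hy
      refine ⟨hd.om_perfect.le (Subgroup.commutator_mem_commutator hx hy), ?_⟩
      have hmx : Φ x ∈ Std F k σ := by rw [hΦv]; exact B.conj_slot hg i hx
      have hmy : Φ y ∈ Std F k σ := by rw [hΦv]; exact B.conj_slot hg i hy
      obtain ⟨Z, hZ⟩ : ∃ Z : ↥(Std F k σ), Z = ⁅(⟨_, hmx⟩ : ↥(Std F k σ)), ⟨_, hmy⟩⁆ := ⟨_, rfl⟩
      obtain ⟨A', π', hA'⟩ := mem_std.1 Z.2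
      have hπ' : π' = 1 := by
        rw [← stdPerm_eq hd hA', hZ, map_commutatorElement, commutatorElement_def, hab (stdPerm hd _) (stdPerm hd _)]
        group
      refine ⟨A', ?_⟩
      rw [hπ', map_one, mul_one] at hA'
      subst hZ
      rw [← hA', map_commutatorElement]
      rfl
    have hP' : (Om d).map Φ ≤ P := by
      nth_rewrite 1 [hperp]
      rw [Subgroup.commutator_le]
      rintro _ ⟨x, hx, rfl⟩ _ ⟨y, hy, rfl⟩
      obtain ⟨A, hA⟩ := hpure x hx
      obtain ⟨A', hA'⟩ := hpure y hy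
      have hI : ∀ f ∈ Om d, Φ f ∈ IsoD (wt (σ := σ) d) := fun f hf => by
        rw [hΦv]; exact mul_mem (mul_mem (C.iso hg) (facG_iso i (om_le d hf))) (inv_mem (C.iso hg))
      have hc : ∀ j, ⁅A j, A' j⁆ ∈ IsoD d := fun j => by
        obtain ⟨μ, hμ, h1⟩ := hd.slot_simil (hA ▸ hI x hx) j
        obtain ⟨ν, hν, h2⟩ := hd.slot_simil (hA' ▸ hI y hy) j
        exact simil_commutator hμ hν h1 h2
      rw [hP]
      refine ⟨(⁅A l, A' l⁆, ⁅A r, A' r⁆), ⟨hc l, hc r⟩, ?_⟩
      rw [hφ, hA, hA', ← map_commutatorElement, facG_eq_pureG, facG_eq_pureG, ← map_mul]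
      congr 1
      funext j
      rcases hall j with rfl | rfl
      · rw [Pi.mul_apply, Pi.mulSingle_eq_same, Pi.mulSingle_eq_of_ne hrl.symm, mul_one]; rfl
      · rw [Pi.mul_apply, Pi.mulSingle_eq_same, Pi.mulSingle_eq_of_ne hrl, one_mul]; rfl
    calc (Om d).map Φ = ⁅(Om d).map Φ, (Om d).map Φ⁆ := hperp
      _ ≤ ⁅P, P⁆ := Subgroup.commutator_mono hP' hP'
      _ = H := by rw [hP, hH, ← Subgroup.map_commutator, Subgroup.commutator_prod_prod]; rfl
  have hslotH : ∀ i, (Om d).map (facG i) ≤ H := by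
    rintro i _ ⟨f, hf, rfl⟩
    rw [hH]
    rcases hall i with rfl | rfl
    · exact ⟨(f, 1), ⟨hf, one_mem _⟩, by rw [hφ, map_one, mul_one]⟩
    · exact ⟨(1, f), ⟨one_mem _, hf⟩, by rw [hφ, map_one, one_mul]⟩
  have hHle : H.map (MulAut.conj g).toMonoidHom ≤ H := by
    rintro _ ⟨p, hp, rfl⟩
    rw [hH] at hp
    obtain ⟨⟨a, b⟩, ⟨ha, hb⟩, rfl⟩ := hp
    rw [hφ, map_mul]
    exact mul_mem (hsmall l ⟨_, ⟨a, ha, rfl⟩, rfl⟩) (hsmall r ⟨_, ⟨b, hb, rfl⟩, rfl⟩)
  have hHeq : H.map (MulAut.conj g).toMonoidHom = H :=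
    Subgroup.eq_of_le_of_card_ge hHle (Subgroup.card_map_of_injective (MulAut.conj g).injective).ge
  -- each image is normal, hence a slot group
  obtain ⟨a₀, ha₀, -, -⟩ := hd.exists_main_avoid ⟨0, by have := hd.three; omega⟩ ⟨0, by have := hd.three; omega⟩
  obtain ⟨b₀, hb₀, hba₀, -⟩ := hd.exists_main_avoid a₀ a₀
  have hcomps : ∀ i, ∀ f ∈ Om d, ∃ a ∈ Om d, ∃ b ∈ Om d, g * facG i f * g⁻¹ = facG l a * facG r b := by
    intro i f hf
    have := hsmall i ⟨_, ⟨f, hf, rfl⟩, rfl⟩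
    rw [hH] at this
    obtain ⟨⟨a, b⟩, ⟨ha, hb⟩, e⟩ := this
    exact ⟨a, ha, b, hb, by rw [← hφ, e]; rfl⟩
  obtain ⟨Pr, hPr⟩ : ∃ Pr : σ → σ → Subgroup (GL (Fin k) F), ∀ i j a, a ∈ Pr i j ↔
      a ∈ Om d ∧ ∃ f ∈ Om d, ∃ b ∈ Om d, g * facG i f * g⁻¹ = facG j a * facG (Equiv.swap l r j) b := by
    refine ⟨fun i j =>
      { carrier := {a | a ∈ Om d ∧ ∃ f ∈ Om d, ∃ b ∈ Om d,
                    g * facG i f * g⁻¹ = facG j a * facG (Equiv.swap l r j) b}
        one_mem' := ?_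
        mul_mem' := ?_
        inv_mem' := ?_ },
      fun i j a => Iff.rfl⟩
    · rintro a a' ⟨ha, f, hf, b, hb, e⟩ ⟨ha', f', hf', b', hb', e'⟩
      refine ⟨mul_mem ha ha', f * f', mul_mem hf hf', b * b', mul_mem hb hb', ?_⟩
      have hne : Equiv.swap l r j ≠ j := by
        rcases hall j with rfl | rfl <;> simp [hrl, hrl.symm]
      rw [map_mul, map_mul, map_mul, (facG_commute hne.symm a' b).mul_mul_mul_comm, ← e, ← e']
      group
    · exact ⟨one_mem _, 1, one_mem _, 1, one_mem _, by simp⟩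
    · rintro a ⟨ha, f, hf, b, hb, e⟩
      refine ⟨inv_mem ha, f⁻¹, inv_mem hf, b⁻¹, inv_mem hb, ?_⟩
      have hne : Equiv.swap l r j ≠ j := by
        rcases hall j with rfl | rfl <;> simp [hrl, hrl.symm]
      rw [map_inv, map_inv, map_inv, show g * (facG i f)⁻¹ * g⁻¹ = (g * facG i f * g⁻¹)⁻¹ by group, e,
        _root_.mul_inv_rev, ((facG_commute hne b a).inv_inv).eq]
  have hproj : ∀ i j, Pr i j = Om d ∨ ∀ a ∈ Pr i j, ∃ q : F, (a : Matrix (Fin k) (Fin k) F) = q • 1 := by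
    intro i j
    refine hd.om_cases (fun a ha => ((hPr i j a).1 ha).1) fun x hx a ha => ?_
    rw [hPr] at ha ⊢
    obtain ⟨haO, f, hf, b, hb, e⟩ := ha
    refine ⟨mul_mem (mul_mem hx haO) (inv_mem hx), ?_⟩
    have hxH : facG j x ∈ H := hslotH j ⟨x, hx, rfl⟩
    rw [← hHeq] at hxH
    obtain ⟨p, hp, hpe⟩ := hxH
    have hpe' : g * p * g⁻¹ = facG j x := hpe
    obtain ⟨p', hp', hconj⟩ : ∃ p' ∈ Om d, p * facG i f * p⁻¹ = facG i p' := by
      rw [hH] at hp
      obtain ⟨⟨c, c'⟩, ⟨hc, hc'⟩, rfl⟩ := hp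
      rw [hφ]
      rcases hall i with rfl | rfl
      · refine ⟨c * f * c⁻¹, mul_mem (mul_mem hc hf) (inv_mem hc), ?_⟩
        rw [map_mul, map_mul, map_inv]
        calc facG i c * facG r c' * facG i f * (facG i c * facG r c')⁻¹ =
            facG i c * (facG r c' * facG i f * (facG r c')⁻¹) * (facG i c)⁻¹ := by group
          _ = _ := by rw [(facG_commute hrl c' f).eq, mul_inv_cancel_right]
      · refine ⟨c' * f * c'⁻¹, mul_mem (mul_mem hc' hf) (inv_mem hc'), ?_⟩
        rw [map_mul, map_mul, map_inv]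
        calc facG l c * facG i c' * facG i f * (facG l c * facG i c')⁻¹ =
            facG l c * (facG i c' * facG i f * (facG i c')⁻¹) * (facG l c)⁻¹ := by group
          _ = _ := by
            rw [← map_inv (facG i), ← map_mul, ← map_mul, (facG_commute hrl.symm c (c' * f * c'⁻¹)).eq,
              mul_inv_cancel_right]
    refine ⟨p', hp', b, hb, ?_⟩
    have hne : Equiv.swap l r j ≠ j := by
      rcases hall j with rfl | rfl <;> simp [hrl, hrl.symm]
    rw [← hconj, show g * (p * facG i f * p⁻¹) * g⁻¹ = (g * p * g⁻¹) * (g * facG i f * g⁻¹) * (g * p * g⁻¹)⁻¹ by group,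
      hpe', e, map_mul, map_mul, map_inv]
    calc facG j x * (facG j a * facG (Equiv.swap l r j) b) * (facG j x)⁻¹ =
        facG j x * facG j a * (facG (Equiv.swap l r j) b * (facG j x)⁻¹) := by group
      _ = _ := by rw [((facG_commute hne b x).inv_right).eq]; group
  have hone : ∀ i j, (∀ a ∈ Pr i j, ∃ q : F, (a : Matrix (Fin k) (Fin k) F) = q • 1) →
      ∀ f ∈ Om d, ∃ f', g * facG i f * g⁻¹ = facG (Equiv.swap l r j) f' := by
    intro i j hsc f hf
    have hne : Equiv.swap l r j ≠ j := by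
      rcases hall j with rfl | rfl <;> simp [hrl, hrl.symm]
    obtain ⟨Q, hQ⟩ : ∃ Q, Q = Om d ⊓ (facG (F := F) (k := k) (Equiv.swap l r j)).range.comap
        ((MulAut.conj g).toMonoidHom.comp (facG i)) := ⟨_, rfl⟩
    suffices h : ⁅Om d, Om d⁆ ≤ Q by
      rw [hd.om_perfect] at h
      have := h hf
      rw [hQ] at this
      obtain ⟨f', e⟩ := this.2
      exact ⟨f', e.symm⟩
    rw [Subgroup.commutator_le]
    intro x hx y hy
    rw [hQ]
    refine ⟨hd.om_perfect.le (Subgroup.commutator_mem_commutator hx hy), ?_⟩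
    have get : ∀ z ∈ Om d, ∃ a b, Scal a ∧ g * facG i z * g⁻¹ = facG j a * facG (Equiv.swap l r j) b := by
      intro z hz
      obtain ⟨a, ha, b, hb, e⟩ := hcomps i z hz
      rcases hall j with rfl | rfl
      · refine ⟨a, b, hsc a ((hPr i _ a).2 ⟨ha, z, hz, b, hb, ?_⟩), ?_⟩ <;> rw [Equiv.swap_apply_left] <;> exact e
      · rw [(facG_commute hrl.symm a b).eq] at e
        refine ⟨b, a, hsc b ((hPr i _ b).2 ⟨hb, z, hz, a, ha, ?_⟩), ?_⟩ <;> rw [Equiv.swap_apply_right] <;> exact e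
    obtain ⟨a, b, ha, e⟩ := get x hx
    obtain ⟨a', b', -, e'⟩ := get y hy
    refine ⟨⁅b, b'⁆, ?_⟩
    show facG (Equiv.swap l r j) ⁅b, b'⁆ = g * facG i ⁅x, y⁆ * g⁻¹
    let ψ : GL (Fin k) F × GL (Fin k) F →* GL (σ → Fin k) F :=
      { toFun := fun p => facG j p.1 * facG (Equiv.swap l r j) p.2
        map_one' := by simp
        map_mul' := fun p q => by
          rw [Prod.fst_mul, Prod.snd_mul, map_mul, map_mul, (facG_commute hne p.2 q.1).mul_mul_mul_comm] }
    have : g * facG i ⁅x, y⁆ * g⁻¹ = ψ ⁅(a, b), (a', b')⁆ := by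
      rw [← MulAut.conj_apply, map_commutatorElement, map_commutatorElement, MulAut.conj_apply, MulAut.conj_apply, e, e',
        map_commutatorElement]
      rfl
    rw [this]
    show _ = facG j ⁅a, a'⁆ * facG _ ⁅b, b'⁆
    rw [commutatorElement_eq_one_iff_commute.2 (ha.commute a'), map_one, one_mul]
  -- exactly one projection of each slot is full
  have hfull : ∀ i j, Pr i j = Om d → ∀ i', i' ≠ i → ∀ a ∈ Pr i' j, ∃ q : F, (a : Matrix (Fin k) (Fin k) F) = q • 1 := by
    intro i j hfull i' hi' a ha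
    refine hd.scalar_of_commute fun x hx => ?_
    obtain ⟨-, f, hf, b, hb, e⟩ := (hPr i j x).1 (hfull.symm ▸ hx)
    obtain ⟨-, f', hf', b', hb', e'⟩ := (hPr i' j a).1 ha
    have hc := (facG_commute hi'.symm f f').map (MulAut.conj g).toMonoidHom
    change Commute (g * facG i f * g⁻¹) (g * facG i' f' * g⁻¹) at hc
    rw [e, e'] at hc
    have hne : Equiv.swap l r j ≠ j := by
      rcases hall j with rfl | rfl <;> simp [hrl, hrl.symm]
    let ψ : GL (Fin k) F × GL (Fin k) F →* GL (σ → Fin k) F :=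
      { toFun := fun p => facG j p.1 * facG (Equiv.swap l r j) p.2
        map_one' := by simp
        map_mul' := fun p q => by
          rw [Prod.fst_mul, Prod.snd_mul, map_mul, map_mul, (facG_commute hne p.2 q.1).mul_mul_mul_comm] }
    have h1 : ψ (x * a, b * b') = ψ (a * x, b' * b) := by
      have h := hc.eq
      change ψ (x, b) * ψ (a, b') = ψ (a, b') * ψ (x, b) at h
      rwa [← map_mul, ← map_mul] at h
    have h2 : facG j (x * a * (a * x)⁻¹) * facG (Equiv.swap l r j) (b * b' * (b' * b)⁻¹) = 1 := by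
      have : ψ ((x * a, b * b') * (a * x, b' * b)⁻¹) = 1 := by rw [map_mul, map_inv, h1, mul_inv_cancel]
      exact this
    rw [mul_eq_one_iff_eq_inv, ← map_inv] at h2
    have h3 := congrArg Units.val h2
    rw [facG_val, facG_val] at h3
    obtain ⟨q, hq⟩ := facS_eq_facS hne.symm h3
    -- a scalar commutator of elements of the slot group
    by_contra hne'
    apply hne'
    obtain ⟨K, hK⟩ : ∃ K : Subgroup (GL (Fin k) F), K = Subgroup.centralizer {a} := ⟨_, rfl⟩
    have hxa : Scal a → (x : Matrix (Fin k) (Fin k) F) * (a : Matrix (Fin k) (Fin k) F) = (a : Matrix (Fin k) (Fin k) F) * (x : Matrix (Fin k) (Fin k) F) :=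
      fun h => congrArg Units.val (h.commute x).symm.eq
    refine hxa (hd.scal_of_twist fun z hz => ?_)
    obtain ⟨-, f₁, hf₁, b₁, hb₁, e₁⟩ := (hPr i j z).1 (hfull.symm ▸ hz)
    have hc₁ := (facG_commute hi' f' f₁).map (MulAut.conj g).toMonoidHom
    change Commute (g * facG i' f' * g⁻¹) (g * facG i f₁ * g⁻¹) at hc₁
    rw [e', e₁] at hc₁
    have h1' : ψ (a * z, b' * b₁) = ψ (z * a, b₁ * b') := by
      have h := hc₁.eq
      change ψ (a, b') * ψ (z, b₁) = ψ (z, b₁) * ψ (a, b') at h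
      rwa [← map_mul, ← map_mul] at h
    have h2' : facG j (a * z * (z * a)⁻¹) * facG (Equiv.swap l r j) (b' * b₁ * (b₁ * b')⁻¹) = 1 := by
      have : ψ ((a * z, b' * b₁) * (z * a, b₁ * b')⁻¹) = 1 := by rw [map_mul, map_inv, h1', mul_inv_cancel]
      exact this
    rw [mul_eq_one_iff_eq_inv, ← map_inv] at h2'
    have h3' := congrArg Units.val h2'
    rw [facG_val, facG_val] at h3'
    obtain ⟨q', hq'⟩ := facS_eq_facS hne.symm h3'
    exact ⟨a * z * (z * a)⁻¹, ⟨q', hq'⟩, by group⟩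
  have hnot : ∀ i, Pr i l = Om d ∨ Pr i r = Om d := by
    intro i
    by_contra hcon
    push Not at hcon
    have h1 := hone i l ((hproj i l).resolve_left hcon.1) _ (hd.pair_mem ha₀ hb₀ hba₀.symm)
    have h2 := hone i r ((hproj i r).resolve_left hcon.2) _ (hd.pair_mem ha₀ hb₀ hba₀.symm)
    rw [Equiv.swap_apply_left] at h1
    rw [Equiv.swap_apply_right] at h2
    obtain ⟨f1, e1⟩ := h1
    obtain ⟨f2, e2⟩ := h2
    have h := congrArg Units.val (e2.symm.trans e1)
    rw [facG_val, facG_val] at h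
    obtain ⟨q, hq⟩ := facS_eq_facS hrl.symm h
    have hs : Scal (g * facG i (sg {a₀, b₀}) * g⁻¹) := ⟨q, by rw [e2, facG_val, hq, facS_smul, facS_one]⟩
    have h0 : (facG i (sg {a₀, b₀}) : GL (σ → Fin k) F) = g⁻¹ * (g * facG i (sg {a₀, b₀}) * g⁻¹) * g := by group
    rw [mul_assoc g⁻¹, (hs.commute g).eq, inv_mul_cancel_left] at h0
    obtain ⟨q', hq'⟩ := hs
    refine hd.pair_not_scalar hba₀.symm q' (facS_inj i ?_)
    rw [← facG_val, h0, hq', facS_smul, facS_one]
  obtain ⟨J, hJ⟩ : ∃ J : σ → σ, J = fun i => if Pr i l = Om d then l else r := ⟨_, rfl⟩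
  have hJP : ∀ i, Pr i (J i) = Om d := fun i => by
    rw [hJ]; dsimp only; split_ifs with h <;> [exact h; exact (hnot i).resolve_left h]
  have hns : ¬ ∀ a ∈ Om d, ∃ q : F, (a : Matrix (Fin k) (Fin k) F) = q • 1 := fun h => by
    obtain ⟨q, hq⟩ := h _ (hd.pair_mem ha₀ hb₀ hba₀.symm)
    exact hd.pair_not_scalar hba₀.symm q hq
  have hJinj : Function.Injective J := by
    intro i i' e
    by_contra hne
    refine hns ?_
    rw [← hJP i']
    exact fun a ha => hfull i (J i) (hJP i) i' (Ne.symm hne) a (e.symm ▸ ha)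
  refine hd.std_of_slot_images (C.iso hg) hJinj fun i f hf => ?_
  obtain ⟨i', hi', hJi'⟩ : ∃ i', i' ≠ i ∧ J i' = Equiv.swap l r (J i) := by
    obtain ⟨i', e⟩ := (Finite.injective_iff_surjective.1 hJinj) (Equiv.swap l r (J i))
    refine ⟨i', fun h => ?_, e⟩
    rw [h] at e
    rcases hall (J i) with h' | h' <;> rw [h'] at e
    · rw [Equiv.swap_apply_left] at e; exact hrl e.symm
    · rw [Equiv.swap_apply_right] at e; exact hrl e
  obtain ⟨f', e⟩ := hone i (J i') (hfull i' (J i') (hJP i') i hi'.symm) f hf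
  rw [hJi', Equiv.swap_apply_self] at e
  exact ⟨f', e⟩

/-- The inductive step. -/
theorem Base.std (B : Base d X) [Nontrivial σ] : X ≤ Std F k σ := by
  classical
  intro g hg
  have C := B.ctx
  have hd := C.shape
  have hk := hd.three
  haveI : NeZero k := ⟨by omega⟩
  obtain ⟨a, ha, -, -⟩ := hd.exists_main_avoid ⟨0, by omega⟩ ⟨0, by omega⟩
  obtain ⟨l⟩ : Nonempty σ := inferInstance
  obtain ⟨m, hml⟩ := exists_ne l
  rcases Nat.even_or_odd k with hev | hodd
  swap
  · exact B.conj_std hg (B.conj_slot hg l (hd.zz_mem_om hodd a))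
  by_cases ht2 : Fintype.card σ = 2
  · exact B.std_of_two ht2 hg
  have hcard : 3 ≤ Fintype.card σ := by have := Fintype.one_lt_card (α := σ); omega
  obtain ⟨c, hc⟩ : ∃ c, c = facG l (zz a : GL (Fin k) F) * facG m (zz a) := ⟨_, rfl⟩
  obtain ⟨A, π, hA⟩ : g * c * g⁻¹ ∈ Std F k σ := hc ▸ B.conj_two hml.symm ha hg
  have hzz : (zz a : GL (Fin k) F) * zz a = 1 := sg_mul_self _
  have hc2 : c * c = 1 := by
    rw [hc, (facG_commute hml (zz a) (zz a)).mul_mul_mul_comm, ← map_mul, ← map_mul, hzz, map_one, map_one, one_mul]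
  obtain ⟨hππ, R, s, hR, hR', hRc, hsig, hfix⟩ := std_sig hd (A := A) (π := π) (by
    rw [← hA, show g * c * g⁻¹ * (g * c * g⁻¹) = g * (c * c) * g⁻¹ by group, hc2, mul_one, mul_inv_cancel])
  -- some fixed slot is scalar
  obtain ⟨j, hj, hjs⟩ : ∃ j, π j = j ∧ s j = k := by
    by_contra hcon
    push Not at hcon
    obtain ⟨Fx, hFx⟩ : ∃ Fx : Finset σ, Fx = Finset.univ.filter (fun j => π j = j) := ⟨_, rfl⟩
    rw [← hFx] at hsig hRc
    rw [← hA, sig_conj, hc, zz_eq_ref hd, ← rg, sig_facG_two hd.two hml.symm (rg_mul_self d _) (rg_mul_self d _),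
      sig_rg hd (by rw [Qd_single]; exact hd.ne a), abs_mul, abs_mul, abs_mul, abs_pow, Nat.abs_cast,
      show |ezs k| = 1 by unfold ezs; split_ifs <;> norm_num, one_mul,
      abs_of_nonneg (show (0 : ℤ) ≤ (k : ℤ) - 2 by omega), show ((k : ℤ) - 2) = ((k - 2 : ℕ) : ℤ) by omega] at hsig
    have hnat : (k - 2) * (k - 2) * k ^ (Fintype.card σ - 2) = k ^ R.card * ∏ j ∈ Fx, s j := by exact_mod_cast hsig
    have hle : ∏ j ∈ Fx, s j ≤ (k - 2) ^ Fx.card := by
      refine Finset.prod_le_pow_card _ _ _ fun j hj => ?_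
      have hj' : π j = j := by simpa [hFx] using hj
      obtain ⟨h1, ⟨r, hr⟩, -⟩ := hfix j hj'
      have := hcon j hj'
      omega
    have hk4 : 4 ≤ k := by obtain ⟨r, hr⟩ := hev; omega
    have h1 : (k - 2) * (k - 2) * k ^ (Fintype.card σ - 2) ≤ k ^ R.card * (k - 2) ^ Fx.card := by
      rw [hnat]; exact Nat.mul_le_mul_left _ hle
    have h0 : 0 < k ^ (Fintype.card σ - 2) := pow_pos (by omega) _
    have hpk : ∀ n, (k - 2) ^ n ≤ k ^ n := fun n => Nat.pow_le_pow_left (by omega) n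
    rcases (show Fx.card = 0 ∨ 1 ≤ Fx.card by omega) with hF | hF
    · rw [hF, pow_zero, mul_one] at h1
      have := Nat.pow_le_pow_right (show 0 < k by omega) (show R.card ≤ Fintype.card σ - 2 by omega)
      have h6 : (k - 2) * (k - 2) ≤ 1 :=
        Nat.le_of_mul_le_mul_right ((h1.trans this).trans (le_of_eq (one_mul _).symm)) h0
      have h7 : 2 * 2 ≤ (k - 2) * (k - 2) := Nat.mul_le_mul (by omega) (by omega)
      omega
    · rcases (show R.card = 0 ∨ 1 ≤ R.card by omega) with hR0 | hR0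
      · rw [hR0, pow_zero, one_mul, show Fx.card = 2 + (Fintype.card σ - 2) by omega, pow_add, pow_two] at h1
        have h3 := Nat.pow_lt_pow_left (show k - 2 < k by omega) (show Fintype.card σ - 2 ≠ 0 by omega)
        have := Nat.le_of_mul_le_mul_left h1 (Nat.mul_pos (show 0 < k - 2 by omega) (show 0 < k - 2 by omega))
        omega
      · rw [show Fx.card = 1 + (Fx.card - 1) by omega, pow_add, pow_one] at h1
        have h3 : k ^ R.card * k ^ (Fx.card - 1) ≤ k ^ (Fintype.card σ - 2) := by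
          rw [← pow_add]; exact Nat.pow_le_pow_right (by omega) (by omega)
        have h4 : k ^ R.card * ((k - 2) * (k - 2) ^ (Fx.card - 1)) ≤ (k - 2) * k ^ (Fintype.card σ - 2) := by
          rw [mul_left_comm]
          exact Nat.mul_le_mul_left _ ((Nat.mul_le_mul_left _ (hpk _)).trans h3)
        have h5 := h1.trans h4
        have h6 : (k - 2) * (k - 2) ≤ k - 2 := Nat.le_of_mul_le_mul_right h5 h0
        have h7 : 2 * (k - 2) ≤ (k - 2) * (k - 2) := Nat.mul_le_mul_right _ (by omega)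
        omega
  obtain ⟨q, hq⟩ := (hfix j hj).2.2 hjs
  have hcomm : Commute (facG j (zz a)) (g * c * g⁻¹) := by
    refine Commute.symm ?_
    show g * c * g⁻¹ * facG j (zz a) = facG j (zz a) * (g * c * g⁻¹)
    refine mul_inv_eq_iff_eq_mul.1 ?_
    rw [hA, std_facG, hj]
    exact congrArg _ (mul_inv_eq_iff_eq_mul.2 (Scal.commute ⟨q, hq⟩ _).eq)
  have hz : ∀ l u, IsCj X (facG l (zz u) : GL (σ → Fin k) F) := fun l u => ⟨1, one_mem X, one_mem _, l, u, by group⟩
  have h1 : g⁻¹ * facG j (zz a) * g⁻¹⁻¹ ∈ Std F k σ := by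
    refine B.cent_two (hz l a) (hz m a) (facG_commute hml.symm _ _) (fun e => ?_)
      (mul_mem (mul_mem (inv_mem hg) (C.zz_mem j a)) (inv_mem (inv_mem hg))) ?_
    · have h := congrArg Units.val e
      rw [facG_val, facG_val] at h
      obtain ⟨q, hq⟩ := facS_eq_facS hml.symm h
      exact hd.zz_not_scalar a q hq
    · rw [← hc, show c = g⁻¹ * (g * c * g⁻¹) * g⁻¹⁻¹ by group]
      exact hcomm.map (MulAut.conj g⁻¹).toMonoidHom
  simpa using inv_mem (B.conj_std (inv_mem hg) h1)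

/-- Groups with standard sign centralisers are standard. -/
theorem core (d : Fin k → F) : ∀ (σ : Type) [Fintype σ] [DecidableEq σ] [Nonempty σ], CoreHolds d σ := by
  suffices h : ∀ n, ∀ (σ : Type) [Fintype σ] [DecidableEq σ] [Nonempty σ], Fintype.card σ = n → CoreHolds d σ from
    fun σ _ _ _ => h _ σ rfl
  intro n
  induction n using Nat.strong_induction_on with
  | _ n ih =>
    intro σ _ _ _ hn X C hL
    rcases subsingleton_or_nontrivial σ with hs | hs
    · exact fun g _ => std_of_subsingleton C.shape g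
    · refine Base.std (B := ⟨C, hL, fun l => ?_⟩)
      haveI : Nonempty (Off ({l} : Finset σ)) := by
        obtain ⟨b, hb⟩ := exists_ne l
        exact ⟨⟨b, by simpa using hb⟩⟩
      exact ih _ (hn ▸ Fintype.card_subtype_lt (x := l) (by simp)) _ rfl

/-- Groups with proportional fibres are standard. -/
theorem Ctx.std_of_pure [Nonempty σ] (C : Ctx d X) (hP : Pure1 X) : X ≤ Std F k σ := by
  refine core d σ X C (C.light_of_pure hP fun J _ hJ => ?_)
  haveI : Nonempty (Off J) := by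
    by_contra h
    refine hJ (Finset.eq_univ_of_forall fun j => by_contra fun hj => h ⟨⟨j, hj⟩⟩)
  exact core d _

end Cfsg.Agent.Classical.OTPow
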