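/-
Groups with fibres that are not proportional contain the slot groups of single fibres.
-/
import Cfsg.Agent.Lib.Classical.OTPow.Core

set_option autoImplicit false
set_option linter.unusedSectionVars false

namespace Cfsg.Agent.Classical.OTPow

open Matrix
open scoped commutatorElement

variable {F : Type*} [Field F] [Fintype F] {k : ℕ} {σ : Type} [Fintype σ] [DecidableEq σ]
  {d : Fin k → F} {X : Subgroup (GL (σ → Fin k) F)}

/-- The points agreeing with `f` on `J`. -/
def cyl (J : Finset σ) (f : σ → Fin k) : Finset (σ → Fin k) := Finset.univ.filter fun b => ∀ j ∈ J, b j = f j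

theorem mem_cyl {J : Finset σ} {f b : σ → Fin k} : b ∈ cyl J f ↔ ∀ j ∈ J, b j = f j := by simp [cyl]

theorem mem_cyl_compl {l : σ} {a b : σ → Fin k} : b ∈ cyl ({l}ᶜ) a ↔ ∀ j, j ≠ l → b j = a j := by simp [mem_cyl]

theorem card_cyl_lt {J J' : Finset σ} (hJ : J ⊂ J') (f : σ → Fin k) (hk : 2 ≤ k) :
    (cyl J' f).card < (cyl J f).card := by
  obtain ⟨i, hi, hiJ⟩ := Finset.exists_of_ssubset hJ
  haveI : Nontrivial (Fin k) := Fin.nontrivial_iff_two_le.2 hk
  obtain ⟨v, hv⟩ := exists_ne (f i)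
  refine Finset.card_lt_card ⟨fun b hb => mem_cyl.2 fun j hj => mem_cyl.1 hb j (hJ.1 hj), fun h => hv ?_⟩
  have := mem_cyl.1 (h (mem_cyl.2 fun j hj => by
    rw [Function.update_of_ne (fun e : j = i => hiJ (e ▸ hj))] : Function.update f i v ∈ cyl J f)) i hi
  rwa [Function.update_self] at this

/-- Invariance along one slot. -/
def Cl (l : σ) (T : Finset (σ → Fin k)) : Prop := ∀ b u, b ∈ T → Function.update b l u ∈ T

theorem cl_cyl {l : σ} {J : Finset σ} (hl : l ∉ J) (f : σ → Fin k) : Cl l (cyl J f) := fun b u hb =>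
  mem_cyl.2 fun j hj => by rw [Function.update_of_ne (fun e : j = l => hl (e ▸ hj)), mem_cyl.1 hb j hj]

theorem Cl.update_iff {l : σ} {T : Finset (σ → Fin k)} (h : Cl l T) (b : σ → Fin k) (u : Fin k) :
    Function.update b l u ∈ T ↔ b ∈ T :=
  ⟨fun hb => by simpa using h _ (b l) hb, h b u⟩

theorem fibM_eq_of_cyl {l : σ} (G : Matrix (σ → Fin k) (σ → Fin k) F) {a b : σ → Fin k} (h : b ∈ cyl ({l}ᶜ) a) :
    fibM l G b = fibM l G a := by
  rw [show b = Function.update a l (b l) from funext fun j => by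
    rcases eq_or_ne j l with rfl | hj
    · rw [Function.update_self]
    · rw [Function.update_of_ne hj, mem_cyl_compl.1 h j hj], fibM_update]

/-- The elements of a group acting along one slot, trivially off a set, by the slot group on each fibre. -/
def Sup (d : Fin k → F) (X : Subgroup (GL (σ → Fin k) F)) (l : σ) (T : Finset (σ → Fin k)) :
    Subgroup (GL (σ → Fin k) F) where
  carrier := {g | g ∈ X ∧ BlkM {l}ᶜ (g : Matrix (σ → Fin k) (σ → Fin k) F) ∧
    (∀ b, b ∉ T → fibM l (g : Matrix (σ → Fin k) (σ → Fin k) F) b = 1) ∧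
    ∀ b, ∃ r ∈ Om d, fibM l (g : Matrix (σ → Fin k) (σ → Fin k) F) b = (r : Matrix (Fin k) (Fin k) F)}
  one_mem' := by
    have h1 : ∀ b : σ → Fin k, fibM l ((1 : GL (σ → Fin k) F) : Matrix (σ → Fin k) (σ → Fin k) F) b = 1 := fun b => by
      rw [Units.val_one, ← facS_one l, fibM_facS]
    exact ⟨one_mem X, by rw [Units.val_one, ← facS_one l]; exact facS_blkM l _, fun b _ => h1 b,
      fun b => ⟨1, one_mem _, (h1 b).trans Units.val_one.symm⟩⟩
  mul_mem' := by
    rintro g h ⟨hg, hgb, hg1, hgO⟩ ⟨hh, hhb, hh1, hhO⟩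
    refine ⟨mul_mem hg hh, by rw [Units.val_mul]; exact hgb.mul hhb, fun b hb => ?_, fun b => ?_⟩
    · rw [Units.val_mul, fibM_mul hgb, hg1 b hb, hh1 b hb, one_mul]
    · obtain ⟨r, hr, e⟩ := hgO b
      obtain ⟨s, hs, e'⟩ := hhO b
      exact ⟨r * s, mul_mem hr hs, by rw [Units.val_mul, fibM_mul hgb, e, e', Units.val_mul]⟩
  inv_mem' := by
    rintro g ⟨hg, hgb, hg1, hgO⟩
    have key : ∀ n : ℕ, BlkM {l}ᶜ ((g ^ n : GL (σ → Fin k) F) : Matrix (σ → Fin k) (σ → Fin k) F) ∧
        (∀ b, b ∉ T → fibM l ((g ^ n : GL (σ → Fin k) F) : Matrix (σ → Fin k) (σ → Fin k) F) b = 1) ∧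
        ∀ b, ∃ r ∈ Om d, fibM l ((g ^ n : GL (σ → Fin k) F) : Matrix (σ → Fin k) (σ → Fin k) F) b =
          (r : Matrix (Fin k) (Fin k) F) := by
      intro n
      induction n with
      | zero =>
        rw [pow_zero]
        have h1 : ∀ b : σ → Fin k, fibM l ((1 : GL (σ → Fin k) F) : Matrix (σ → Fin k) (σ → Fin k) F) b = 1 :=
          fun b => by rw [Units.val_one, ← facS_one l, fibM_facS]
        exact ⟨by rw [Units.val_one, ← facS_one l]; exact facS_blkM l _, fun b _ => h1 b,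
          fun b => ⟨1, one_mem _, (h1 b).trans Units.val_one.symm⟩⟩
      | succ n ih =>
        obtain ⟨hb', h1', hO'⟩ := ih
        rw [pow_succ]
        refine ⟨by rw [Units.val_mul]; exact hb'.mul hgb, fun b hb => ?_, fun b => ?_⟩
        · rw [Units.val_mul, fibM_mul hb', h1' b hb, hg1 b hb, one_mul]
        · obtain ⟨r, hr, e⟩ := hO' b
          obtain ⟨s, hs, e'⟩ := hgO b
          exact ⟨r * s, mul_mem hr hs, by rw [Units.val_mul, fibM_mul hb', e, e', Units.val_mul]⟩
    haveI : Finite (GL (σ → Fin k) F) := inferInstance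
    obtain ⟨n, hn⟩ : g⁻¹ ∈ Submonoid.powers g := by
      rw [mem_powers_iff_mem_zpowers]
      exact inv_mem (Subgroup.mem_zpowers g)
    have hn' : g ^ n = g⁻¹ := hn
    exact ⟨inv_mem hg, hn' ▸ key n⟩

theorem mem_sup {l : σ} {T : Finset (σ → Fin k)} {g : GL (σ → Fin k) F} :
    g ∈ Sup d X l T ↔ g ∈ X ∧ BlkM {l}ᶜ (g : Matrix (σ → Fin k) (σ → Fin k) F) ∧
    (∀ b, b ∉ T → fibM l (g : Matrix (σ → Fin k) (σ → Fin k) F) b = 1) ∧
    ∀ b, ∃ r ∈ Om d, fibM l (g : Matrix (σ → Fin k) (σ → Fin k) F) b = (r : Matrix (Fin k) (Fin k) F) := Iff.rfl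

/-- The fibre of a supported element. -/
def fibH (d : Fin k → F) (X : Subgroup (GL (σ → Fin k) F)) (l : σ) (T : Finset (σ → Fin k)) (b : σ → Fin k) :
    ↥(Sup d X l T) →* GL (Fin k) F :=
  MonoidHom.toHomUnits
    { toFun := fun g => fibM l ((g : GL (σ → Fin k) F) : Matrix (σ → Fin k) (σ → Fin k) F) b
      map_one' := by rw [OneMemClass.coe_one, Units.val_one, ← facS_one l, fibM_facS]
      map_mul' := fun g h => by rw [Subgroup.coe_mul, Units.val_mul, fibM_mul (mem_sup.1 g.2).2.1] }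

theorem fibH_val {l : σ} {T : Finset (σ → Fin k)} (b : σ → Fin k) (g : ↥(Sup d X l T)) :
    (fibH d X l T b g : Matrix (Fin k) (Fin k) F) = fibM l ((g : GL (σ → Fin k) F) : Matrix (σ → Fin k) (σ → Fin k) F) b :=
  rfl

theorem fibH_om {l : σ} {T : Finset (σ → Fin k)} (b : σ → Fin k) (g : ↥(Sup d X l T)) : fibH d X l T b g ∈ Om d := by
  obtain ⟨r, hr, e⟩ := (mem_sup.1 g.2).2.2.2 b
  rwa [show fibH d X l T b g = r from Units.ext e]

theorem fibH_off {l : σ} {T : Finset (σ → Fin k)} {b : σ → Fin k} (hb : b ∉ T) (g : ↥(Sup d X l T)) :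
    fibH d X l T b g = 1 := Units.ext ((mem_sup.1 g.2).2.2.1 b hb)

/-- The supported elements cover the slot group at a point. -/
def Full (d : Fin k → F) (X : Subgroup (GL (σ → Fin k) F)) (l : σ) (a : σ → Fin k) (T : Finset (σ → Fin k)) : Prop :=
  ∀ r ∈ Om d, ∃ g : ↥(Sup d X l T), fibH d X l T a g = r

theorem conj_sup (C : Ctx d X) {l : σ} {T : Finset (σ → Fin k)} {x : GL (Fin k) F} (hx : x ∈ Om d)
    (g : ↥(Sup d X l T)) : ∃ g' : ↥(Sup d X l T), (g' : GL (σ → Fin k) F) = facG l x * g * (facG l x)⁻¹ ∧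
      ∀ b, fibH d X l T b g' = x * fibH d X l T b g * x⁻¹ := by
  obtain ⟨hg, hgb, hg1, hgO⟩ := mem_sup.1 g.2
  have hv : ∀ b, fibM l ((facG l x * g * (facG l x)⁻¹ : GL (σ → Fin k) F) : Matrix (σ → Fin k) (σ → Fin k) F) b =
      ((x * fibH d X l T b g * x⁻¹ : GL (Fin k) F) : Matrix (Fin k) (Fin k) F) := fun b => by
    rw [← map_inv, Units.val_mul, Units.val_mul, facG_val, facG_val, Units.val_mul, Units.val_mul, fibH_val,
      fibM_mul ((facS_blkM l _).mul hgb), fibM_mul (facS_blkM l _), fibM_facS, fibM_facS]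
  refine ⟨⟨_, mem_sup.2 ⟨mul_mem (mul_mem (C.omega l x hx) hg) (inv_mem (C.omega l x hx)), ?_, fun b hb => ?_,
    fun b => ⟨_, mul_mem (mul_mem hx (fibH_om b g)) (inv_mem hx), hv b⟩⟩⟩, rfl, fun b => Units.ext (hv b)⟩
  · rw [← map_inv, Units.val_mul, Units.val_mul, facG_val, facG_val]
    exact ((facS_blkM l _).mul hgb).mul (facS_blkM l _)
  · rw [hv, fibH_off hb, mul_one, mul_inv_cancel, Units.val_one]

theorem full_of_nonscalar (C : Ctx d X) {l : σ} {a : σ → Fin k} {T : Finset (σ → Fin k)} {g : ↥(Sup d X l T)}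
    (h : ¬ Scal (fibH d X l T a g)) : Full d X l a T := by
  intro r hr
  rcases C.shape.om_cases (N := (fibH d X l T a).range) (by
      rintro _ ⟨g, rfl⟩
      exact fibH_om a g) (fun x hx y hy => by
      obtain ⟨g, rfl⟩ := hy
      obtain ⟨g', -, e⟩ := conj_sup C hx g
      exact ⟨g', e a⟩) with e | e
  · have : r ∈ (fibH d X l T a).range := e.symm ▸ hr
    exact this
  · exact absurd (e _ ⟨g, rfl⟩) h

theorem sup_mono {l : σ} {T T' : Finset (σ → Fin k)} (h : T ⊆ T') : Sup d X l T ≤ Sup d X l T' := fun g hg => by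
  rw [mem_sup] at hg ⊢
  exact ⟨hg.1, hg.2.1, fun b hb => hg.2.2.1 b fun hb' => hb (h hb'), hg.2.2.2⟩

theorem commutator_sup {l : σ} {T T' : Finset (σ → Fin k)} (g : ↥(Sup d X l T)) (h : ↥(Sup d X l T')) :
    ∃ c : ↥(Sup d X l (T ∩ T')), (c : GL (σ → Fin k) F) = ⁅(g : GL (σ → Fin k) F), (h : GL (σ → Fin k) F)⁆ ∧
      ∀ b, fibH d X l (T ∩ T') b c = ⁅fibH d X l T b g, fibH d X l T' b h⁆ := by
  have hgU := sup_mono (Finset.subset_union_left (s₂ := T')) g.2
  have hhU := sup_mono (Finset.subset_union_right (s₁ := T)) h.2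
  obtain ⟨G, hG⟩ : ∃ G : ↥(Sup d X l (T ∪ T')), G = ⟨g.1, hgU⟩ := ⟨_, rfl⟩
  obtain ⟨H, hH⟩ : ∃ H : ↥(Sup d X l (T ∪ T')), H = ⟨h.1, hhU⟩ := ⟨_, rfl⟩
  have hfg : ∀ b, fibH d X l (T ∪ T') b G = fibH d X l T b g := fun b => Units.ext (by rw [hG]; rfl)
  have hfh : ∀ b, fibH d X l (T ∪ T') b H = fibH d X l T' b h := fun b => Units.ext (by rw [hH]; rfl)
  have hc : ∀ b, fibH d X l (T ∪ T') b ⁅G, H⁆ = ⁅fibH d X l T b g, fibH d X l T' b h⁆ := fun b => by
    rw [map_commutatorElement, hfg, hfh]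
  obtain ⟨c, hcv⟩ : ∃ c : GL (σ → Fin k) F, c = (⁅G, H⁆ : ↥(Sup d X l (T ∪ T'))) := ⟨_, rfl⟩
  obtain ⟨hcX, hcb, -, hcO⟩ := mem_sup.1 (hcv ▸ (⁅G, H⁆ : ↥(Sup d X l (T ∪ T'))).2)
  refine ⟨⟨c, mem_sup.2 ⟨hcX, hcb, fun b hb => ?_, hcO⟩⟩, ?_, fun b => ?_⟩
  · have e := congrArg Units.val (hc b)
    rw [fibH_val, ← hcv] at e
    rw [e]
    rcases (Finset.mem_inter.not.1 hb : ¬ (b ∈ T ∧ b ∈ T')) |> not_and_or.1 with hb | hb
    · rw [fibH_off hb, commutatorElement_one_left, Units.val_one]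
    · rw [fibH_off hb, commutatorElement_one_right, Units.val_one]
  · show c = _
    rw [hcv, hG, hH]
    rfl
  · rw [← hc b]
    exact Units.ext (by rw [fibH_val, fibH_val]; subst hcv; rfl)

theorem Full.inter (C : Ctx d X) {l : σ} {a : σ → Fin k} {T T' : Finset (σ → Fin k)} (h : Full d X l a T)
    (h' : Full d X l a T') : Full d X l a (T ∩ T') := by
  intro r hr
  have : ⁅Om d, Om d⁆ ≤ (fibH d X l (T ∩ T') a).range := by
    rw [Subgroup.commutator_le]
    intro x hx y hy
    obtain ⟨g, rfl⟩ := h x hx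
    obtain ⟨g', rfl⟩ := h' y hy
    obtain ⟨c, -, hc⟩ := commutator_sup g g'
    exact ⟨c, hc a⟩
  rw [C.shape.om_perfect] at this
  exact this hr

theorem not_scal_exists (hd : Shape d) : ∃ r ∈ Om d, ¬ Scal r := by
  obtain ⟨a, ha, -, -⟩ := hd.exists_main_avoid ⟨0, by have := hd.three; omega⟩ ⟨0, by have := hd.three; omega⟩
  obtain ⟨b, hb, hba, -⟩ := hd.exists_main_avoid a a
  exact ⟨_, hd.pair_mem ha hb hba.symm, fun ⟨q, hq⟩ => hd.pair_not_scalar hba.symm q hq⟩

theorem Full.congr (C : Ctx d X) {l : σ} {a a' : σ → Fin k} {T : Finset (σ → Fin k)} (h : Full d X l a T)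
    (ha : a' ∈ cyl ({l}ᶜ) a) : Full d X l a' T := fun r hr => by
  obtain ⟨g, hg⟩ := h r hr
  exact ⟨g, Units.ext (by rw [fibH_val, fibM_eq_of_cyl _ ha, ← fibH_val, hg])⟩

/-- No supporting set is smaller. -/
def MinT (d : Fin k → F) (X : Subgroup (GL (σ → Fin k) F)) (n : ℕ) : Prop :=
  ∀ (l : σ) (a : σ → Fin k) (T : Finset (σ → Fin k)), Cl l T → a ∈ T → Full d X l a T → n ≤ T.card

/-- Elements on a minimal supporting set have proportional fibres. -/
theorem Ctx.sync (C : Ctx d X) {l : σ} {a : σ → Fin k} {T : Finset (σ → Fin k)} (hcl : Cl l T) (ha : a ∈ T)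
    (hf : Full d X l a T) (hmin : MinT d X T.card) {b : σ → Fin k} (hb : b ∈ T) (g : ↥(Sup d X l T)) :
    Scal ((fibH d X l T a g)⁻¹ * fibH d X l T b g) := by
  by_cases hab : b ∈ cyl ({l}ᶜ) a
  · rw [show fibH d X l T b g = fibH d X l T a g from Units.ext (fibM_eq_of_cyl _ hab), inv_mul_cancel]
    exact scal_one
  have hne : ∀ x, x ∈ cyl ({l}ᶜ) a → x ∉ cyl ({l}ᶜ) b := fun x hx hx' => hab (mem_cyl_compl.2 fun j hj => by
    rw [← mem_cyl_compl.1 hx j hj, ← mem_cyl_compl.1 hx' j hj])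
  -- cutting out a fibre contradicts minimality
  have cut : ∀ {c e : σ → Fin k}, c ∈ T → e ∈ T → c ∉ cyl ({l}ᶜ) e →
      ∀ h : ↥(Sup d X l T), fibH d X l T e h = 1 → Scal (fibH d X l T c h) := by
    intro c e hc he hce h h1
    by_contra hs
    obtain ⟨T', hT'⟩ : ∃ T', T' = T \ cyl ({l}ᶜ) e := ⟨_, rfl⟩
    obtain ⟨hhX, hhb, hh1, hhO⟩ := mem_sup.1 h.2
    have hmem : (h : GL (σ → Fin k) F) ∈ Sup d X l T' := mem_sup.2 ⟨hhX, hhb, fun x hx => by
      rw [hT', Finset.mem_sdiff, not_and_or, not_not] at hx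
      rcases hx with hx | hx
      · exact hh1 x hx
      · rw [fibM_eq_of_cyl _ hx, ← fibH_val, h1, Units.val_one], hhO⟩
    have := hmin l c T' (fun x u hx => by
      rw [hT', Finset.mem_sdiff] at hx ⊢
      refine ⟨hcl x u hx.1, fun hx' => hx.2 (mem_cyl_compl.2 fun j hj => ?_)⟩
      rw [← mem_cyl_compl.1 hx' j hj, Function.update_of_ne hj]) (hT' ▸ Finset.mem_sdiff.2 ⟨hc, hce⟩)
      (full_of_nonscalar C (g := ⟨_, hmem⟩) (by
        rw [show fibH d X l T' c ⟨_, hmem⟩ = fibH d X l T c h from Units.ext rfl]; exact hs))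
    have hlt : T'.card < T.card := by
      refine Finset.card_lt_card (hT' ▸ ⟨Finset.sdiff_subset, fun hsub => ?_⟩)
      exact (Finset.mem_sdiff.1 (hsub he)).2 (mem_cyl_compl.2 fun _ _ => rfl)
    omega
  have hab' : a ∉ cyl ({l}ᶜ) b := hne a (mem_cyl_compl.2 fun _ _ => rfl)
  -- the projection at `b` is everything
  have hfb : Full d X l b T := by
    by_contra hn
    obtain ⟨r, hr, hrs⟩ := not_scal_exists C.shape
    have hall : ∀ h : ↥(Sup d X l T), Scal (fibH d X l T b h) := fun h =>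
      by_contra fun hs => hn (full_of_nonscalar C hs)
    have : ⁅Om d, Om d⁆ ≤ (MonoidHom.ker (fibH d X l T b)).map (fibH d X l T a) := by
      rw [Subgroup.commutator_le]
      intro x hx y hy
      obtain ⟨h₁, rfl⟩ := hf x hx
      obtain ⟨h₂, rfl⟩ := hf y hy
      refine ⟨⁅h₁, h₂⁆, ?_, map_commutatorElement _ _ _⟩
      show fibH d X l T b ⁅h₁, h₂⁆ = 1
      rw [map_commutatorElement, commutatorElement_eq_one_iff_commute.2 ((hall h₁).commute _)]
    rw [C.shape.om_perfect] at this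
    obtain ⟨h, hh, e⟩ := this hr
    exact hrs (e ▸ cut ha hb hab' h hh)
  obtain ⟨r, hr⟩ : ∃ r, r = fibH d X l T a g := ⟨_, rfl⟩
  rw [← hr]
  have hrO : r ∈ Om d := hr ▸ fibH_om a g
  refine C.shape.scal_of_twist fun u hu => ?_
  obtain ⟨h, hh⟩ := hfb u hu
  obtain ⟨h', -, hh'⟩ := conj_sup C hrO h
  obtain ⟨p, hp⟩ : ∃ p, p = g * h * g⁻¹ * h'⁻¹ := ⟨_, rfl⟩
  have hpa : fibH d X l T a p = 1 := by rw [hp, map_mul, map_mul, map_mul, map_inv, map_inv, hh' a, ← hr]; group
  have hz := cut hb ha hab p hpa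
  have hpb : fibH d X l T b p = fibH d X l T b g * u * (fibH d X l T b g)⁻¹ * (r * u * r⁻¹)⁻¹ := by
    rw [hp, map_mul, map_mul, map_mul, map_inv, map_inv, hh' b, hh]
  refine ⟨fibH d X l T b p, hz, ?_⟩
  obtain ⟨v, hv⟩ : ∃ v, v = fibH d X l T b g := ⟨_, rfl⟩
  obtain ⟨z, hzdef⟩ : ∃ z, z = fibH d X l T b p := ⟨_, rfl⟩
  rw [← hzdef] at hz hpb ⊢
  rw [← hv] at hpb ⊢
  calc r⁻¹ * v * u * (r⁻¹ * v)⁻¹ = r⁻¹ * (v * u * v⁻¹ * (r * u * r⁻¹)⁻¹) * r * u := by group
    _ = r⁻¹ * z * r * u := by rw [← hpb]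
    _ = z * u := by rw [mul_assoc r⁻¹, (hz.commute r).eq, inv_mul_cancel_left]

/-- Minimal supporting sets carry the slot group diagonally. -/
theorem Ctx.exact (C : Ctx d X) {l : σ} {a : σ → Fin k} {T : Finset (σ → Fin k)} (hcl : Cl l T) (ha : a ∈ T)
    (hf : Full d X l a T) (hmin : MinT d X T.card) {r : GL (Fin k) F} (hr : r ∈ Om d) :
    ∃ g : ↥(Sup d X l T), ∀ b ∈ T, fibH d X l T b g = r := by
  obtain ⟨A, hA⟩ : ∃ A : Subgroup ↥(Sup d X l T), A = ⨅ b : ↥T,
      MonoidHom.eqLocus (fibH d X l T b.1) (fibH d X l T a) := ⟨_, rfl⟩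
  have : ⁅Om d, Om d⁆ ≤ A.map (fibH d X l T a) := by
    rw [Subgroup.commutator_le]
    intro x hx y hy
    obtain ⟨g, rfl⟩ := hf x hx
    obtain ⟨h, rfl⟩ := hf y hy
    refine ⟨⁅g, h⁆, ?_, map_commutatorElement _ _ _⟩
    rw [SetLike.mem_coe, hA, Subgroup.mem_iInf]
    intro b
    show fibH d X l T b.1 ⁅g, h⁆ = fibH d X l T a ⁅g, h⁆
    obtain ⟨p, hp⟩ : ∃ p, p = (fibH d X l T a g)⁻¹ * fibH d X l T b.1 g := ⟨_, rfl⟩
    obtain ⟨q, hq⟩ : ∃ q, q = (fibH d X l T a h)⁻¹ * fibH d X l T b.1 h := ⟨_, rfl⟩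
    have hps : Scal p := hp ▸ C.sync hcl ha hf hmin b.2 g
    have hqs : Scal q := hq ▸ C.sync hcl ha hf hmin b.2 h
    rw [map_commutatorElement, map_commutatorElement, show fibH d X l T b.1 g = fibH d X l T a g * p by
      rw [hp, mul_inv_cancel_left], show fibH d X l T b.1 h = fibH d X l T a h * q by rw [hq, mul_inv_cancel_left],
      commutatorElement_def, commutatorElement_def]
    obtain ⟨x, hx⟩ : ∃ x, x = fibH d X l T a g := ⟨_, rfl⟩
    obtain ⟨y, hy⟩ : ∃ y, y = fibH d X l T a h := ⟨_, rfl⟩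
    rw [← hx, ← hy]
    calc x * p * (y * q) * (x * p)⁻¹ * (y * q)⁻¹ = x * (p * y) * q * p⁻¹ * x⁻¹ * q⁻¹ * y⁻¹ := by group
      _ = x * y * (p * q * p⁻¹) * x⁻¹ * q⁻¹ * y⁻¹ := by rw [(hps.commute y).eq]; group
      _ = x * y * (q * x⁻¹) * q⁻¹ * y⁻¹ := by rw [(hps.commute q).eq, mul_inv_cancel_right]; group
      _ = x * y * x⁻¹ * y⁻¹ := by rw [(hqs.commute x⁻¹).eq]; group
  rw [C.shape.om_perfect] at this
  obtain ⟨g, hg, e⟩ := this hr
  rw [SetLike.mem_coe, hA, Subgroup.mem_iInf] at hg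
  exact ⟨g, fun b hb => (hg ⟨b, hb⟩).trans e⟩

/-- Lines along `i` meeting a set properly. -/
def Proper (i : σ) (T : Finset (σ → Fin k)) (b : σ → Fin k) : Prop :=
  (∃ u, Function.update b i u ∈ T) ∧ ∃ u, Function.update b i u ∉ T

/-- A minimal supporting set gives supporting sets on the lines meeting it properly. -/
theorem Ctx.step (C : Ctx d X) {l i : σ} (hil : i ≠ l) {a : σ → Fin k} {T : Finset (σ → Fin k)} (hcl : Cl l T)
    (ha : a ∈ T) (hf : Full d X l a T) (hmin : MinT d X T.card) {u : Fin k} (hu : Main u) {b₀ : σ → Fin k}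
    (hb₀ : Proper i T b₀) :
    Full d X i (Function.update b₀ l u)
      (Finset.univ.filter fun b => b l = u ∧ (∃ v, Function.update b i v ∈ T) ∧ ∃ v, Function.update b i v ∉ T) := by
  classical
  have hd := C.shape
  obtain ⟨w, hw, hwu, -⟩ := hd.exists_main_avoid u u
  obtain ⟨w', hw', hw'u, hw'w⟩ := hd.exists_main_avoid u w
  have main : ∀ S : Finset (Fin k), u ∈ S → (sg S : GL (Fin k) F) ∈ Om d →
      Full d X i (Function.update b₀ l u) (Finset.univ.filter fun b => b l ∈ S ∧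
        (∃ v, Function.update b i v ∈ T) ∧ ∃ v, Function.update b i v ∉ T) := by
    intro S huS hS
    obtain ⟨g, hg⟩ := C.exact hcl ha hf hmin hS
    obtain ⟨hgX, hgb, hg1, -⟩ := mem_sup.1 g.2
    obtain ⟨ε, hε⟩ : ∃ ε : (σ → Fin k) → F, ε = fun b => if b ∈ T then sv S (b l) else 1 := ⟨_, rfl⟩
    have hε2 : ∀ b, ε b * ε b = 1 := fun b => by rw [hε]; dsimp only; split_ifs <;> [exact sv_sq S _; exact one_mul 1]
    have hgd : (g : GL (σ → Fin k) F) = diagG ε hε2 := Units.ext (fibM_ext hgb (diagonal_blkM _ ε) fun b => by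
      rw [diagG_val, fibM_diagonal, hε]
      by_cases hb : b ∈ T
      · rw [← fibH_val, hg b hb, sg_val]
        exact congrArg _ (funext fun x => by simp [hcl b x hb])
      · rw [hg1 b hb]
        exact (Matrix.diagonal_one).symm.trans (congrArg _ (funext fun x => by simp [(hcl.update_iff b x).not.2 hb])))
    obtain ⟨δ, hδ⟩ : ∃ δ : (σ → Fin k) → GL (Fin k) F,
        δ = fun b => diagG (fun x => ε (Function.update b i x)) fun x => hε2 _ := ⟨_, rfl⟩
    have hδv : ∀ b, (δ b : Matrix (Fin k) (Fin k) F) = Matrix.diagonal fun x => ε (Function.update b i x) :=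
      fun b => by rw [hδ]; rfl
    have hδiso : ∀ b, δ b ∈ IsoD d := fun b => by
      refine mem_isoD.2 ?_
      rw [hδv, Matrix.diagonal_transpose, Matrix.diagonal_mul_diagonal, Matrix.diagonal_mul_diagonal]
      exact congrArg _ (funext fun x => by rw [mul_right_comm, hε2, one_mul])
    have key : ∀ z ∈ Om d, ∃ c : ↥(Sup d X i (Finset.univ.filter fun b => b l ∈ S ∧
        (∃ v, Function.update b i v ∈ T) ∧ ∃ v, Function.update b i v ∉ T)), ∀ b, fibH d X i _ b c = ⁅δ b, z⁆ := by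
      intro z hz
      have hv : ∀ b, fibM i ((⁅diagG ε hε2, facG i z⁆ : GL (σ → Fin k) F) : Matrix (σ → Fin k) (σ → Fin k) F) b =
          ((⁅δ b, z⁆ : GL (Fin k) F) : Matrix (Fin k) (Fin k) F) := fun b => by
        rw [commutatorElement_def, commutatorElement_def, diagG_inv, ← map_inv, Units.val_mul, Units.val_mul,
          Units.val_mul, diagG_val, facG_val, facG_val, fibM_mul (((diagonal_blkM _ ε).mul (facS_blkM i _)).mul (diagonal_blkM _ ε)),
          fibM_mul ((diagonal_blkM _ ε).mul (facS_blkM i _)), fibM_mul (diagonal_blkM _ ε), fibM_diagonal, fibM_facS,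
          fibM_facS, Units.val_mul, Units.val_mul, Units.val_mul, show (δ b)⁻¹ = δ b by rw [hδ]; exact diagG_inv _ _, hδv]
      refine ⟨⟨_, mem_sup.2 ⟨?_, ?_, fun b hb => ?_, fun b => ⟨_, ?_, hv b⟩⟩⟩, fun b => Units.ext (hv b)⟩
      · have h1 : diagG ε hε2 ∈ X := hgd ▸ hgX
        exact mul_mem (mul_mem (mul_mem h1 (C.omega i z hz)) (inv_mem h1)) (inv_mem (C.omega i z hz))
      · rw [commutatorElement_def, diagG_inv, ← map_inv, Units.val_mul, Units.val_mul, Units.val_mul, diagG_val,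
          facG_val, facG_val]
        exact (((diagonal_blkM _ ε).mul (facS_blkM i _)).mul (diagonal_blkM _ ε)).mul (facS_blkM i _)
      · rw [hv]
        suffices Scal (δ b) by rw [commutatorElement_eq_one_iff_commute.2 (this.commute z), Units.val_one]
        obtain ⟨x₀⟩ : Nonempty (Fin k) := ⟨u⟩
        refine ⟨ε (Function.update b i x₀), ?_⟩
        rw [hδv, Matrix.smul_one_eq_diagonal]
        refine congrArg _ (funext fun x => ?_)
        simp only [Finset.mem_filter, Finset.mem_univ, true_and, not_and_or, not_exists, not_not] at hb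
        rw [hε]
        dsimp only
        rw [Function.update_of_ne hil.symm, Function.update_of_ne hil.symm]
        rcases hb with hb | hb | hb
        · rw [show (sv S (b l) : F) = 1 from if_neg hb, ite_self, ite_self]
        · rw [if_neg (hb x), if_neg (hb x₀)]
        · rw [if_pos (hb x), if_pos (hb x₀)]
      · exact Subgroup.commutator_mem_commutator (hδiso b) (om_le d hz)
    obtain ⟨b₁, hb₁⟩ : ∃ b₁, b₁ = Function.update b₀ l u := ⟨_, rfl⟩
    rw [← hb₁]
    have hns : ¬ Scal (δ b₁) := by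
      rintro ⟨q, hq⟩
      obtain ⟨⟨x, hx⟩, y, hy⟩ := hb₀
      have hu' : ∀ v, Function.update b₁ i v ∈ T ↔ Function.update b₀ i v ∈ T := fun v => by
        rw [hb₁, Function.update_comm hil.symm, hcl.update_iff]
      have e : ∀ v, ε (Function.update b₁ i v) = q := fun v => by
        have := congrFun (congrFun hq v) v
        rwa [hδv, Matrix.diagonal_apply_eq, Matrix.smul_apply, Matrix.one_apply_eq, smul_eq_mul, mul_one] at this
      have h1 : ε (Function.update b₁ i x) = -1 := by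
        rw [hε]; dsimp only
        rw [if_pos ((hu' x).2 hx), Function.update_of_ne hil.symm, hb₁, Function.update_self]
        exact if_pos huS
      have h2 : ε (Function.update b₁ i y) = 1 := by
        rw [hε]; dsimp only; rw [if_neg ((hu' y).not.2 hy)]
      exact hd.two (by linear_combination (h2.symm.trans (e y)).trans ((e x).symm.trans h1))
    by_contra hn
    refine hns (hd.scal_of_twist fun z hz => ?_)
    obtain ⟨c, hc⟩ := key z hz
    have hs : Scal (⁅δ b₁, z⁆ : GL (Fin k) F) := hc b₁ ▸ by_contra fun hs => hn (full_of_nonscalar C hs)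
    exact ⟨_, hs, by rw [commutatorElement_def, inv_mul_cancel_right]⟩
  have h := (main {u, w} (by simp) (hd.pair_mem hu hw hwu.symm)).inter C (main {u, w'} (by simp) (hd.pair_mem hu hw' hw'u.symm))
  have e : ((Finset.univ.filter fun b : σ → Fin k => b l ∈ ({u, w} : Finset (Fin k)) ∧
        (∃ v, Function.update b i v ∈ T) ∧ ∃ v, Function.update b i v ∉ T) ∩
      Finset.univ.filter fun b => b l ∈ ({u, w'} : Finset (Fin k)) ∧
        (∃ v, Function.update b i v ∈ T) ∧ ∃ v, Function.update b i v ∉ T) =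
      Finset.univ.filter fun b => b l = u ∧ (∃ v, Function.update b i v ∈ T) ∧ ∃ v, Function.update b i v ∉ T := by
    ext b
    simp only [Finset.mem_inter, Finset.mem_filter, Finset.mem_univ, true_and, Finset.mem_insert, Finset.mem_singleton]
    constructor
    · rintro ⟨⟨h1, hp⟩, h2, -⟩
      refine ⟨?_, hp⟩
      rcases h1 with h1 | h1
      · exact h1
      · rcases h2 with h2 | h2
        · exact h2
        · exact absurd (h2.symm.trans h1) hw'w
    · exact fun ⟨h1, hp⟩ => ⟨⟨Or.inl h1, hp⟩, Or.inl h1, hp⟩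
  exact e ▸ h

/-- The coordinates varying on a set. -/
def varying (T : Finset (σ → Fin k)) : Finset σ := Finset.univ.filter fun j => ∃ b ∈ T, ∃ b' ∈ T, b j ≠ b' j

theorem mem_varying {T : Finset (σ → Fin k)} {j : σ} : j ∈ varying T ↔ ∃ b ∈ T, ∃ b' ∈ T, b j ≠ b' j := by
  simp [varying]

/-- Groups with fibres that are not proportional have a supporting cylinder of least size. -/
theorem Ctx.exists_cyl (C : Ctx d X) (hP : ¬ Pure1 X) :
    ∃ (l : σ) (J : Finset σ) (f : σ → Fin k), l ∉ J ∧ J.Nonempty ∧ Full d X l f (cyl J f) ∧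
      MinT d X (cyl J f).card := by
  classical
  have hd := C.shape
  haveI : Nontrivial (Fin k) := Fin.nontrivial_iff_two_le.2 (by have := hd.three; omega)
  obtain ⟨Pd, hPd⟩ : ∃ Pd : ℕ → Prop, ∀ n, Pd n ↔ ∃ (l : σ) (a : σ → Fin k) (T : Finset (σ → Fin k)),
      Cl l T ∧ a ∈ T ∧ Full d X l a T ∧ T ≠ Finset.univ ∧ T.card * (Fintype.card σ + 1) + (varying T).card = n :=
    ⟨_, fun n => Iff.rfl⟩
  have hex : ∃ n, Pd n := by
    simp only [Pure1, not_forall] at hP
    obtain ⟨l, g, hg, hgb, a, a', hne⟩ := hP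
    rw [not_exists] at hne
    have haa : a ∉ cyl ({l}ᶜ) a' := fun h => hne 1 (by rw [one_smul, fibM_eq_of_cyl _ h])
    obtain ⟨T, hT⟩ : ∃ T : Finset (σ → Fin k), T = Finset.univ \ cyl ({l}ᶜ) a' := ⟨_, rfl⟩
    obtain ⟨δ, hδ⟩ : ∃ δ : (σ → Fin k) → GL (Fin k) F, ∀ b, (δ b : Matrix (Fin k) (Fin k) F) =
        fibM l (g : Matrix (σ → Fin k) (σ → Fin k) F) b := by
      obtain ⟨n, hn⟩ : g⁻¹ ∈ Submonoid.powers g := by
        rw [mem_powers_iff_mem_zpowers]; exact inv_mem (Subgroup.mem_zpowers g)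
      have hn' : g ^ n = g⁻¹ := hn
      have hib : BlkM {l}ᶜ ((g⁻¹ : GL (σ → Fin k) F) : Matrix (σ → Fin k) (σ → Fin k) F) := by
        rw [← hn']
        clear hn hn'
        induction n with
        | zero => rw [pow_zero, Units.val_one, ← facS_one l]; exact facS_blkM l _
        | succ n ih => rw [pow_succ, Units.val_mul]; exact ih.mul hgb
      refine ⟨fun b => ⟨fibM l (g : Matrix (σ → Fin k) (σ → Fin k) F) b,
        fibM l ((g⁻¹ : GL (σ → Fin k) F) : Matrix (σ → Fin k) (σ → Fin k) F) b, ?_, ?_⟩, fun b => rfl⟩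
      · rw [← fibM_mul hgb, Units.mul_inv, ← facS_one l, fibM_facS]
      · rw [← fibM_mul hib, Units.inv_mul, ← facS_one l, fibM_facS]
    have hδiso : ∀ b, δ b ∈ IsoD d := by
      intro b
      obtain ⟨p, hp⟩ : ∃ p : F, p = ∏ j ∈ Finset.univ.erase l, d (b j) := ⟨_, rfl⟩
      have hp0 : p ≠ 0 := hp ▸ Finset.prod_ne_zero_iff.2 fun j _ => hd.ne _
      have hf : fibM l (Matrix.diagonal (wt (σ := σ) d)) b = p • Matrix.diagonal d := by
        rw [fibM_diagonal, ← Matrix.diagonal_smul]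
        refine congrArg _ (funext fun u => ?_)
        rw [wt, ← Finset.mul_prod_erase _ _ (Finset.mem_univ l), Function.update_self, hp, Pi.smul_apply,
          smul_eq_mul, mul_comm]
        congr 1
        exact Finset.prod_congr rfl fun j hj => by rw [Function.update_of_ne (Finset.ne_of_mem_erase hj)]
      have hT' : BlkM {l}ᶜ ((g : Matrix (σ → Fin k) (σ → Fin k) F)ᵀ) := fun x y hxy j hj => (hgb y x hxy j hj).symm
      have := congrArg (fibM l · b) (mem_isoD.1 (C.iso hg))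
      rw [fibM_mul (hT'.mul (diagonal_blkM _ _)), fibM_mul hT', hf, ← hδ,
        show fibM l ((g : Matrix (σ → Fin k) (σ → Fin k) F)ᵀ) b = (δ b : Matrix (Fin k) (Fin k) F)ᵀ by
          rw [hδ]; rfl, Matrix.mul_smul, Matrix.smul_mul] at this
      exact mem_isoD.2 (smul_right_injective _ hp0 this)
    have key : ∀ w ∈ Om d, ∃ c : ↥(Sup d X l T), fibH d X l T a c = ⁅δ a, w⁆ * ⁅δ a', w⁆⁻¹ := by
      intro w hw
      obtain ⟨y, hy, hyO⟩ : ∃ y, y = (⁅δ a', w⁆⁻¹ : GL (Fin k) F) ∧ y ∈ Om d :=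
        ⟨_, rfl, inv_mem (Subgroup.commutator_mem_commutator (hδiso a') (om_le d hw))⟩
      rw [← hy]
      obtain ⟨n, hn⟩ : g⁻¹ ∈ Submonoid.powers g := by
        rw [mem_powers_iff_mem_zpowers]; exact inv_mem (Subgroup.mem_zpowers g)
      have hn' : g ^ n = g⁻¹ := hn
      have hib : BlkM {l}ᶜ ((g⁻¹ : GL (σ → Fin k) F) : Matrix (σ → Fin k) (σ → Fin k) F) := by
        rw [← hn']
        clear hn hn'
        induction n with
        | zero => rw [pow_zero, Units.val_one, ← facS_one l]; exact facS_blkM l _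
        | succ n ih => rw [pow_succ, Units.val_mul]; exact ih.mul hgb
      have hinvv : ∀ b, fibM l ((g⁻¹ : GL (σ → Fin k) F) : Matrix (σ → Fin k) (σ → Fin k) F) b =
          (((δ b)⁻¹ : GL (Fin k) F) : Matrix (Fin k) (Fin k) F) := fun b => by
        refine (left_inv_eq_right_inv (Units.inv_mul (δ b)) ?_).symm
        rw [hδ, ← fibM_mul hgb, Units.mul_inv, ← facS_one l, fibM_facS]
      have hv : ∀ b, fibM l ((⁅g, facG l w⁆ * facG l y : GL (σ → Fin k) F) : Matrix (σ → Fin k) (σ → Fin k) F) b =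
          ((⁅δ b, w⁆ * y : GL (Fin k) F) : Matrix (Fin k) (Fin k) F) := fun b => by
        rw [commutatorElement_def, commutatorElement_def, ← map_inv, Units.val_mul, Units.val_mul, Units.val_mul,
          Units.val_mul, facG_val, facG_val, facG_val, fibM_mul (((hgb.mul (facS_blkM l _)).mul hib).mul (facS_blkM l _)),
          fibM_mul ((hgb.mul (facS_blkM l _)).mul hib), fibM_mul (hgb.mul (facS_blkM l _)), fibM_mul hgb, fibM_facS,
          fibM_facS, fibM_facS, hinvv, ← hδ, Units.val_mul, Units.val_mul, Units.val_mul, Units.val_mul]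
      refine ⟨⟨_, mem_sup.2 ⟨?_, ?_, fun b hb => ?_, fun b => ⟨_, ?_, hv b⟩⟩⟩, Units.ext (hv a)⟩
      · exact mul_mem (mul_mem (mul_mem (mul_mem hg (C.omega l w hw)) (inv_mem hg)) (inv_mem (C.omega l w hw))) (C.omega l y hyO)
      · rw [commutatorElement_def, ← map_inv, Units.val_mul, Units.val_mul, Units.val_mul, Units.val_mul, facG_val,
          facG_val, facG_val]
        exact (((hgb.mul (facS_blkM l _)).mul hib).mul (facS_blkM l _)).mul (facS_blkM l _)
      · rw [hT, Finset.mem_sdiff, not_and, not_not] at hb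
        rw [hv, show δ b = δ a' from Units.ext (by rw [hδ, hδ, fibM_eq_of_cyl _ (hb (Finset.mem_univ b))]), hy,
          mul_inv_cancel, Units.val_one]
      · exact mul_mem (Subgroup.commutator_mem_commutator (hδiso b) (om_le d hw)) hyO
    have hfull : Full d X l a T := by
      by_contra hn
      have hsc : Scal ((δ a')⁻¹ * δ a) := by
        refine hd.scal_of_twist fun w hw => ?_
        obtain ⟨c, hc⟩ := key w hw
        have hs : Scal (⁅δ a, w⁆ * ⁅δ a', w⁆⁻¹) := hc ▸ by_contra fun hs => hn (full_of_nonscalar C hs)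
        refine ⟨_, hs, ?_⟩
        obtain ⟨z, hz⟩ : ∃ z, z = ⁅δ a, w⁆ * ⁅δ a', w⁆⁻¹ := ⟨_, rfl⟩
        rw [← hz] at hs ⊢
        calc (δ a')⁻¹ * δ a * w * ((δ a')⁻¹ * δ a)⁻¹
            = (δ a')⁻¹ * (⁅δ a, w⁆ * ⁅δ a', w⁆⁻¹) * δ a' * w := by rw [commutatorElement_def, commutatorElement_def]; group
          _ = z * w := by rw [← hz, mul_assoc (δ a')⁻¹, (hs.commute _).eq, inv_mul_cancel_left]
      obtain ⟨q, hq⟩ := hsc
      refine hne q ?_
      rw [← hδ, ← hδ, show δ a = δ a' * ((δ a')⁻¹ * δ a) by rw [mul_inv_cancel_left], Units.val_mul, hq,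
        Matrix.mul_smul, Matrix.mul_one]
    refine ⟨_, (hPd _).2 ⟨l, a, T, fun x u hx => ?_, hT ▸ Finset.mem_sdiff.2 ⟨Finset.mem_univ _, haa⟩, hfull,
      fun h => ?_, rfl⟩⟩
    · rw [hT, Finset.mem_sdiff] at hx ⊢
      refine ⟨Finset.mem_univ _, fun hx' => hx.2 (mem_cyl_compl.2 fun j hj => ?_)⟩
      rw [← mem_cyl_compl.1 hx' j hj, Function.update_of_ne hj]
    · have := h.symm ▸ Finset.mem_univ a'
      rw [hT, Finset.mem_sdiff] at this
      exact this.2 (mem_cyl_compl.2 fun _ _ => rfl)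
  obtain ⟨l, a, T, hcl, ha, hf, hTu, hTn⟩ := (hPd _).1 (Nat.find_spec hex)
  have hle : ∀ (l' : σ) (a' : σ → Fin k) (T' : Finset (σ → Fin k)), Cl l' T' → a' ∈ T' → Full d X l' a' T' →
      T' ≠ Finset.univ →
      T.card * (Fintype.card σ + 1) + (varying T).card ≤ T'.card * (Fintype.card σ + 1) + (varying T').card := by
    intro l' a' T' h1 h2 h3 h4
    rw [hTn]
    exact Nat.find_min' hex ((hPd _).2 ⟨l', a', T', h1, h2, h3, h4, rfl⟩)
  have hv : ∀ T' : Finset (σ → Fin k), (varying T').card ≤ Fintype.card σ := fun T' => Finset.card_le_univ _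
  have hmin : MinT d X T.card := by
    intro l' a' T' h1 h2 h3
    by_contra hlt
    push Not at hlt
    have h4 : T' ≠ Finset.univ := fun h => by
      have := Finset.card_le_univ T
      rw [h, Finset.card_univ] at hlt
      omega
    have := hle l' a' T' h1 h2 h3 h4
    have := hv T
    have := hv T'
    have := Nat.mul_le_mul_right (Fintype.card σ + 1) (show T'.card + 1 ≤ T.card by omega)
    linarith
  -- every coordinate is free or constant
  have hfree : ∀ i, i ≠ l → i ∈ varying T → Cl i T := by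
    intro i hil hiv
    by_contra hncl
    obtain ⟨b₀, hb₀⟩ : ∃ b₀, Proper i T b₀ := by
      simp only [Cl, not_forall] at hncl
      obtain ⟨b, v, hb, hbv⟩ := hncl
      exact ⟨b, ⟨b i, by rwa [Function.update_eq_self]⟩, v, hbv⟩
    obtain ⟨u, hu, -, -⟩ := hd.exists_main_avoid ⟨0, by have := hd.three; omega⟩ ⟨0, by have := hd.three; omega⟩
    have hP' := C.step hil hcl ha hf hmin hu hb₀
    obtain ⟨P, hP⟩ : ∃ P : Finset (σ → Fin k), P = Finset.univ.filter fun b => b l = u ∧
        (∃ v, Function.update b i v ∈ T) ∧ ∃ v, Function.update b i v ∉ T := ⟨_, rfl⟩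
    rw [← hP] at hP'
    have hmemP : ∀ b, b ∈ P ↔ b l = u ∧ Proper i T b := fun b => by rw [hP]; simp [Proper]
    have hb₁ : Function.update b₀ l u ∈ P := by
      refine (hmemP _).2 ⟨Function.update_self _ _ _, ?_⟩
      simp only [Proper, Function.update_comm hil.symm, hcl.update_iff]
      exact hb₀
    have hclP : Cl i P := fun b v hb => by
      rw [hmemP] at hb ⊢
      refine ⟨by rw [Function.update_of_ne hil.symm]; exact hb.1, ?_⟩
      simpa [Proper] using hb.2
    -- each point of the new set comes from a point of the old one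
    have hsub : P ⊆ T.image fun b => Function.update (Function.update b l u) i (b l) := fun b hb => by
      obtain ⟨hbl, ⟨v, hv⟩, -⟩ := (hmemP b).1 hb
      refine Finset.mem_image.2 ⟨Function.update (Function.update b i v) l (b i), hcl _ _ hv, ?_⟩
      rw [Function.update_self]
      funext j
      rcases eq_or_ne j i with rfl | hji
      · rw [Function.update_self]
      · rcases eq_or_ne j l with rfl | hjl
        · rw [Function.update_of_ne hji, Function.update_self, hbl]
        · rw [Function.update_of_ne hji, Function.update_of_ne hjl, Function.update_of_ne hjl, Function.update_of_ne hji]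
    have hcard : P.card ≤ T.card := (Finset.card_le_card hsub).trans Finset.card_image_le
    have hPu : P ≠ Finset.univ := fun h => by
      obtain ⟨v, hvu⟩ := exists_ne u
      have := ((hmemP _).1 (h.symm ▸ Finset.mem_univ (Function.update a l v))).1
      rw [Function.update_self] at this
      exact hvu this
    have := hle i _ P hclP hb₁ hP' hPu
    have hlv : l ∈ varying T := by
      obtain ⟨v, hv'⟩ := exists_ne (a l)
      exact mem_varying.2 ⟨_, hcl a v ha, a, ha, by rwa [Function.update_self]⟩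
    have hlt : (varying P).card < (varying T).card := by
      refine Finset.card_lt_card ((Finset.ssubset_iff_of_subset fun j hj => ?_).2 ⟨l, hlv, fun hl => ?_⟩)
      · rcases eq_or_ne j i with rfl | hji
        · exact hiv
        rcases eq_or_ne j l with rfl | hjl
        · exact hlv
        obtain ⟨x, hx, y, hy, hxy⟩ := mem_varying.1 hj
        obtain ⟨x', hx', rfl⟩ := Finset.mem_image.1 (hsub hx)
        obtain ⟨y', hy', rfl⟩ := Finset.mem_image.1 (hsub hy)
        simp only [Function.update_of_ne hji, Function.update_of_ne hjl] at hxy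
        exact mem_varying.2 ⟨x', hx', y', hy', hxy⟩
      · obtain ⟨x, hx, y, hy, hxy⟩ := mem_varying.1 hl
        exact hxy (((hmemP x).1 hx).1.trans ((hmemP y).1 hy).1.symm)
    have := Nat.mul_le_mul_right (Fintype.card σ + 1) hcard
    omega
  have hclall : ∀ i ∈ varying T, Cl i T := fun i hi => by
    rcases eq_or_ne i l with rfl | hil
    · exact hcl
    · exact hfree i hil hi
  have hTc : T = cyl (varying T)ᶜ a := by
    ext b
    constructor
    · exact fun hb => mem_cyl.2 fun j hj => by_contra fun h => Finset.mem_compl.1 hj (mem_varying.2 ⟨b, hb, a, ha, h⟩)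
    · intro hb
      have : ∀ s : Finset σ, s ⊆ varying T → s.piecewise b a ∈ T := by
        intro s
        induction s using Finset.induction with
        | empty => intro _; simpa using ha
        | insert j s _ ih =>
          intro h
          rw [Finset.piecewise_insert]
          exact hclall j (h (Finset.mem_insert_self j s)) _ _ (ih ((Finset.subset_insert j s).trans h))
      have h := this (varying T) le_rfl
      rwa [show (varying T).piecewise b a = b from funext fun j => by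
        by_cases hj : j ∈ varying T
        · rw [Finset.piecewise_eq_of_mem _ _ _ hj]
        · rw [Finset.piecewise_eq_of_notMem _ _ _ hj, mem_cyl.1 hb j (Finset.mem_compl.2 hj)]] at h
  refine ⟨l, (varying T)ᶜ, a, fun h => Finset.mem_compl.1 h ?_, ?_, hTc ▸ hf, hTc ▸ hmin⟩
  · obtain ⟨v, hv'⟩ := exists_ne (a l)
    exact mem_varying.2 ⟨_, hcl a v ha, a, ha, by rwa [Function.update_self]⟩
  · rw [Finset.nonempty_iff_ne_empty]
    intro h
    exact hTu (hTc.trans (by ext b; simp [mem_cyl, h]))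

end Cfsg.Agent.Classical.OTPow
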