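/-
A supporting cylinder of least size is a single fibre.
-/
import Cfsg.Agent.Lib.Classical.OTPow.Full

set_option autoImplicit false
set_option linter.unusedSectionVars false

namespace Cfsg.Agent.Classical.OTPow

open Matrix
open scoped commutatorElement

variable {F : Type*} [Field F] [Fintype F] {k : ℕ} {σ : Type} [Fintype σ] [DecidableEq σ]
  {d : Fin k → F} {X : Subgroup (GL (σ → Fin k) F)}

theorem cyl_congr {J : Finset σ} {f f' : σ → Fin k} (h : ∀ j ∈ J, f j = f' j) : cyl J f = cyl J f' := by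
  ext b
  simp only [mem_cyl]
  exact ⟨fun hb j hj => (hb j hj).trans (h j hj), fun hb j hj => (hb j hj).trans (h j hj).symm⟩

theorem cyl_card_swap {J : Finset σ} {i l : σ} (hi : i ∈ J) (hl : l ∉ J) (f f' : σ → Fin k) :
    (cyl (insert l (J.erase i)) f').card = (cyl J f).card := by
  classical
  have hcard : ∀ (J : Finset σ) (f : σ → Fin k), (cyl J f).card = k ^ (Fintype.card σ - J.card) := by
    intro J f
    rw [show cyl J f = Fintype.piFinset fun j => if j ∈ J then {f j} else Finset.univ from Finset.ext fun b => by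
      simp only [mem_cyl, Fintype.mem_piFinset]
      constructor
      · intro h j
        split_ifs with hj <;> simp [h]
        exact h j hj
      · intro h j hj
        simpa [hj] using h j]
    rw [Fintype.card_piFinset]
    simp only [apply_ite Finset.card, Finset.card_singleton, Finset.card_univ, Fintype.card_fin]
    rw [Finset.prod_ite, Finset.prod_const_one, one_mul, Finset.prod_const, Finset.filter_notMem_eq_sdiff,
      Finset.card_sdiff_of_subset (Finset.subset_univ J), Finset.card_univ]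
  have := Finset.card_pos.2 ⟨i, hi⟩
  rw [hcard, hcard, Finset.card_insert_of_notMem (fun h => hl (Finset.mem_of_mem_erase h)),
    Finset.card_erase_of_mem hi, show J.card - 1 + 1 = J.card by omega]

/-- Moving the slot of a least cylinder. -/
theorem Ctx.cyl_step (C : Ctx d X) {l i : σ} {J : Finset σ} (hl : l ∉ J) (hi : i ∈ J) {f : σ → Fin k}
    (hf : Full d X l f (cyl J f)) (hmin : MinT d X (cyl J f).card) {u : Fin k} (hu : Main u) :
    Full d X i (Function.update f l u) (cyl (insert l (J.erase i)) (Function.update f l u)) := by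
  have hd := C.shape
  haveI : Nontrivial (Fin k) := Fin.nontrivial_iff_two_le.2 (by have := hd.three; omega)
  have hil : i ≠ l := fun e => hl (e ▸ hi)
  obtain ⟨v₀, hv₀⟩ := exists_ne (f i)
  have h := C.step hil (cl_cyl hl f) (mem_cyl.2 fun _ _ => rfl) hf hmin hu (b₀ := f)
    ⟨⟨f i, by simp [mem_cyl]⟩, v₀, fun h => hv₀ (by simpa using mem_cyl.1 h i hi)⟩
  have e : (Finset.univ.filter fun b => b l = u ∧ (∃ v, Function.update b i v ∈ cyl J f) ∧
      ∃ v, Function.update b i v ∉ cyl J f) = cyl (insert l (J.erase i)) (Function.update f l u) := by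
    ext b
    simp only [Finset.mem_filter, Finset.mem_univ, true_and, mem_cyl, Finset.mem_insert, Finset.mem_erase]
    constructor
    · rintro ⟨hbl, ⟨v, hv⟩, -⟩ j (rfl | ⟨hji, hjJ⟩)
      · rw [Function.update_self, hbl]
      · rw [Function.update_of_ne (fun e : j = l => hl (e ▸ hjJ)), ← hv j hjJ, Function.update_of_ne hji]
    · intro hb
      refine ⟨by simpa using hb l (Or.inl rfl), ⟨f i, fun j hj => ?_⟩, v₀, fun h => hv₀ ?_⟩
      · rcases eq_or_ne j i with rfl | hji
        · rw [Function.update_self]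
        · rw [Function.update_of_ne hji, hb j (Or.inr ⟨hji, hj⟩),
            Function.update_of_ne (fun e : j = l => hl (e ▸ hj))]
      · simpa using h i hi
  exact e ▸ h

/-- The slot and the fixed coordinates of a least cylinder. -/
def Good (d : Fin k → F) (X : Subgroup (GL (σ → Fin k) F)) (K : Finset σ) : Prop :=
  ∀ l ∈ K, ∀ f : σ → Fin k, (∀ j ∈ K, j ≠ l → Main (f j)) → Full d X l f (cyl (K.erase l) f) ∧
    MinT d X (cyl (K.erase l) f).card

theorem Ctx.exists_good (C : Ctx d X) (hP : ¬ Pure1 X) : ∃ K : Finset σ, 2 ≤ K.card ∧ Good d X K := by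
  classical
  obtain ⟨l₀, J, f₀, hl₀, hJ, hf₀, hmin⟩ := C.exists_cyl hP
  have hd := C.shape
  obtain ⟨u₀, hu₀, -, -⟩ := hd.exists_main_avoid ⟨0, by have := hd.three; omega⟩ ⟨0, by have := hd.three; omega⟩
  obtain ⟨K, hK⟩ : ∃ K, K = insert l₀ J := ⟨_, rfl⟩
  have hKc : 2 ≤ K.card := by
    rw [hK, Finset.card_insert_of_notMem hl₀]; have := hJ.card_pos; omega
  obtain ⟨N, hN⟩ : ∃ N, N = (cyl J f₀).card := ⟨_, rfl⟩
  rw [← hN] at hmin
  have hKl₀ : K.erase l₀ = J := by rw [hK, Finset.erase_insert hl₀]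
  have hcard : ∀ l ∈ K, ∀ f : σ → Fin k, (cyl (K.erase l) f).card = N := by
    intro l hl f
    rcases eq_or_ne l l₀ with rfl | hne
    · obtain ⟨i, hi⟩ := hJ
      rw [hKl₀, hN, ← cyl_card_swap hi hl₀ f₀ f₀, cyl_card_swap hi hl₀ f f₀]
    · have hlJ : l ∈ J := Finset.mem_of_mem_insert_of_ne (hK ▸ hl) hne
      rw [hN, ← cyl_card_swap hlJ hl₀ f₀ f, hK, Finset.erase_insert_of_ne hne.symm]
  have step : ∀ l ∈ K, ∀ m ∈ K, m ≠ l → ∀ f : σ → Fin k, Full d X l f (cyl (K.erase l) f) → ∀ u, Main u →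
      Full d X m (Function.update f l u) (cyl (K.erase m) (Function.update f l u)) := by
    intro l hl m hm hml f hf u hu
    have := C.cyl_step (Finset.notMem_erase l K) (Finset.mem_erase.2 ⟨hml, hm⟩) hf (by rw [hcard l hl f]; exact hmin) hu
    rwa [show insert l ((K.erase l).erase m) = K.erase m by
      rw [Finset.erase_right_comm, Finset.insert_erase (Finset.mem_erase.2 ⟨hml.symm, hl⟩)]] at this
  have base : ∀ l ∈ K, ∃ f, Full d X l f (cyl (K.erase l) f) := by
    intro l hl
    rcases eq_or_ne l l₀ with rfl | hne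
    · exact ⟨f₀, hKl₀.symm ▸ hf₀⟩
    · exact ⟨_, step l₀ (hK ▸ Finset.mem_insert_self _ _) l hl hne f₀ (hKl₀.symm ▸ hf₀) u₀ hu₀⟩
  have agree : ∀ S : Finset σ, S ⊆ K → ∀ l ∈ K, l ∉ S → ∀ f : σ → Fin k, (∀ j ∈ S, Main (f j)) →
      ∃ g, (∀ j ∈ S, g j = f j) ∧ Full d X l g (cyl (K.erase l) g) := by
    intro S
    induction S using Finset.induction with
    | empty =>
      intro _ l hl _ f _
      obtain ⟨g, hg⟩ := base l hl
      exact ⟨g, fun j hj => absurd hj (Finset.notMem_empty j), hg⟩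
    | insert x S hx ih =>
      intro hS l hl hlS f hf
      have hxl : l ≠ x := fun e => hlS (e ▸ Finset.mem_insert_self x S)
      obtain ⟨g, hg, hgF⟩ := ih ((Finset.subset_insert x S).trans hS) x (hS (Finset.mem_insert_self x S)) hx f
        fun j hj => hf j (Finset.mem_insert_of_mem hj)
      refine ⟨_, fun j hj => ?_, step x (hS (Finset.mem_insert_self x S)) l hl hxl g hgF (f x) (hf x (Finset.mem_insert_self x S))⟩
      rcases Finset.mem_insert.1 hj with rfl | hj
      · rw [Function.update_self]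
      · rw [Function.update_of_ne (fun e : j = x => hx (e ▸ hj)), hg j hj]
  refine ⟨K, hKc, fun l hl f hf => ⟨?_, by rw [hcard l hl f]; exact hmin⟩⟩
  obtain ⟨g, hg, hgF⟩ := agree (K.erase l) (Finset.erase_subset l K) l hl (Finset.notMem_erase l K) f fun j hj =>
    hf j (Finset.mem_of_mem_erase hj) (Finset.ne_of_mem_erase hj)
  rw [cyl_congr (J := K.erase l) (f := f) (f' := g) fun j hj => (hg j hj).symm]
  intro r hr
  obtain ⟨e, he⟩ := C.exact (cl_cyl (Finset.notMem_erase l K) g) (mem_cyl.2 fun _ _ => rfl) hgF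
    (by rw [hcard l hl g]; exact hmin) hr
  exact ⟨e, he f (mem_cyl.2 fun j hj => (hg j hj).symm)⟩

/-- The cyclic permutations of three slots in the group. -/
def Cyclic (X : Subgroup (GL (σ → Fin k) F)) : Prop :=
  ∀ x y z : σ, x ≠ y → y ≠ z → x ≠ z → permG k F (Equiv.swap x y * Equiv.swap y z) ∈ X

theorem perm_apply_entry (π : Equiv.Perm σ) (G : Matrix (σ → Fin k) (σ → Fin k) F) (a b : σ → Fin k) :
    (permS k F π * G * permS k F π⁻¹) a b = G (fun j => a (π j)) (fun j => b (π j)) := by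
  rw [mul_permS_apply, permS_mul_apply]
  rfl

/-- Groups with fibres that are not proportional contain the slot groups of the main single fibres. -/
theorem Ctx.single_fibre (C : Ctx d X) (hP : ¬ Pure1 X) (hX : Cyclic X) (l : σ) (f : σ → Fin k)
    (hf : ∀ j, j ≠ l → Main (f j)) : Full d X l f (cyl ({l}ᶜ) f) := by
  classical
  have hd := C.shape
  haveI : NeZero k := ⟨by have := hd.three; omega⟩
  obtain ⟨K, hK2, hG⟩ := C.exists_good hP
  suffices hKu : K = Finset.univ by
    have := (hG l (hKu ▸ Finset.mem_univ l) f fun j _ hj => hf j hj).1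
    rwa [hKu, show (Finset.univ : Finset σ).erase l = {l}ᶜ by ext; simp] at this
  by_contra hKu
  obtain ⟨z, hz⟩ : ∃ z, z ∉ K := by
    by_contra h; push Not at h; exact hKu (Finset.eq_univ_of_forall h)
  obtain ⟨x, hx, y, hy, hxy⟩ := Finset.one_lt_card.1 hK2
  have hyz : y ≠ z := fun e => hz (e ▸ hy)
  have hxz : x ≠ z := fun e => hz (e ▸ hx)
  obtain ⟨π, hπ⟩ : ∃ π : Equiv.Perm σ, π = Equiv.swap x y * Equiv.swap y z := ⟨_, rfl⟩
  have hπX : permG k F π ∈ X := hπ ▸ hX x y z hxy hyz hxz
  have hπx : π x = y := by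
    rw [hπ, Equiv.Perm.mul_apply, Equiv.swap_apply_of_ne_of_ne hxy hxz, Equiv.swap_apply_left]
  have hπy : π y = z := by
    rw [hπ, Equiv.Perm.mul_apply, Equiv.swap_apply_left, Equiv.swap_apply_of_ne_of_ne hxz.symm hyz.symm]
  obtain ⟨u, hu, -, -⟩ := hd.exists_main_avoid ⟨0, by have := hd.three; omega⟩ ⟨0, by have := hd.three; omega⟩
  obtain ⟨w, hw⟩ : ∃ w : σ → Fin k, w = fun _ => u := ⟨_, rfl⟩
  obtain ⟨h1, hmin⟩ := hG y hy w fun _ _ _ => hw ▸ hu
  have h2' := (hG x hx w fun _ _ _ => hw ▸ hu).1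
  have h2 : Full d X y w (cyl ((K.map π.toEmbedding).erase y) w) := by
    intro r hr
    obtain ⟨g, hg⟩ := h2' r hr
    obtain ⟨hgX, hgb, hg1, hgO⟩ := mem_sup.1 g.2
    obtain ⟨p, hp⟩ : ∃ p, p = permG k F π * (g : GL (σ → Fin k) F) * (permG k F π)⁻¹ := ⟨_, rfl⟩
    have hpe : ∀ a b, (p : Matrix (σ → Fin k) (σ → Fin k) F) a b =
        ((g : GL (σ → Fin k) F) : Matrix (σ → Fin k) (σ → Fin k) F) (fun j => a (π j)) (fun j => b (π j)) := by
      intro a b
      rw [hp, ← map_inv, Units.val_mul, Units.val_mul, permG_val, permG_val, perm_apply_entry]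
    have hpf : ∀ b, fibM y (p : Matrix (σ → Fin k) (σ → Fin k) F) b =
        fibM x ((g : GL (σ → Fin k) F) : Matrix (σ → Fin k) (σ → Fin k) F) (fun j => b (π j)) := fun b => by
      ext s t
      rw [fibM_apply, fibM_apply, hpe]
      refine congrArg₂ _ (funext fun j => ?_) (funext fun j => ?_) <;>
      · rcases eq_or_ne j x with rfl | hj
        · rw [hπx, Function.update_self, Function.update_self]
        · rw [Function.update_of_ne hj, Function.update_of_ne fun e => hj (π.injective (e.trans hπx.symm))]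
    refine ⟨⟨p, mem_sup.2 ⟨hp ▸ mul_mem (mul_mem hπX hgX) (inv_mem hπX), fun a b hab j hj => ?_, fun b hb => ?_,
      fun b => ?_⟩⟩, Units.ext ?_⟩
    · rw [hpe] at hab
      have := hgb _ _ hab (π.symm j) (by
        simp only [Finset.mem_compl, Finset.mem_singleton] at hj ⊢
        exact fun e => hj (by rw [← hπx, ← e, Equiv.apply_symm_apply]))
      simpa using this
    · rw [hpf]
      refine hg1 _ fun h => hb (mem_cyl.2 fun j hj => ?_)
      obtain ⟨hjy, hjK⟩ := Finset.mem_erase.1 hj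
      obtain ⟨i, hi, rfl⟩ := Finset.mem_map.1 hjK
      have := mem_cyl.1 h i (Finset.mem_erase.2 ⟨fun e => hjy (by rw [e]; exact hπx), hi⟩)
      rw [hw] at this ⊢
      exact this
    · obtain ⟨r', hr', e⟩ := hgO fun j => b (π j)
      exact ⟨r', hr', by rw [hpf, e]⟩
    · rw [fibH_val, hpf]
      have : (fun j => w (π j)) = w := by rw [hw]
      rw [this, ← fibH_val, hg]
  have h12 := h1.inter C h2
  rw [show cyl (K.erase y) w ∩ cyl ((K.map π.toEmbedding).erase y) w =
    cyl ((K ∪ K.map π.toEmbedding).erase y) w by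
      ext b
      simp only [Finset.mem_inter, mem_cyl, Finset.mem_erase, Finset.mem_union]
      exact ⟨fun ⟨p, q⟩ j ⟨hjy, hj⟩ => hj.elim (fun h => p j ⟨hjy, h⟩) fun h => q j ⟨hjy, h⟩,
        fun h => ⟨fun j ⟨a, b⟩ => h j ⟨a, Or.inl b⟩, fun j ⟨a, b⟩ => h j ⟨a, Or.inr b⟩⟩⟩] at h12
  have := hmin y w _ (cl_cyl (Finset.notMem_erase y _) w) (mem_cyl.2 fun _ _ => rfl) h12
  have hlt := card_cyl_lt (k := k) (J := K.erase y) (J' := (K ∪ K.map π.toEmbedding).erase y) (by
    refine (Finset.ssubset_iff_of_subset (Finset.erase_subset_erase _ Finset.subset_union_left)).2 ⟨z, ?_, fun h => hz (Finset.mem_of_mem_erase h)⟩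
    exact Finset.mem_erase.2 ⟨hyz.symm, Finset.mem_union_right _ (Finset.mem_map.2 ⟨y, hy, hπy⟩)⟩) w
    (by have := hd.three; omega)
  omega

end Cfsg.Agent.Classical.OTPow
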