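/-
Parameters of Siegel elements in the group, and vectors supported on one fibre.
-/
import Cfsg.Agent.Lib.Classical.OTPow.Single
import Cfsg.Agent.Lib.Classical.RadicalQuad
import Cfsg.Agent.Lib.Classical.OrthNotMax

set_option autoImplicit false
set_option linter.unusedSectionVars false

namespace Cfsg.Agent.Classical.OTPow

open Matrix QuadraticMap
open Cfsg.Agent.Classical
open Cfsg.Agent.Classical.OCount (PND)

variable {F : Type*} [Field F] [Fintype F] {ι : Type} [Fintype ι] [DecidableEq ι]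

/-- The quadratic form of a diagonal. -/
noncomputable def QW (w : ι → F) : QuadraticForm F (ι → F) := QuadraticMap.weightedSumSquares F w

theorem QW_apply (w : ι → F) (x : ι → F) : QW w x = ∑ i, w i * (x i * x i) := by simp [QW]

theorem polar_QW (w : ι → F) (x y : ι → F) : polar (QW w) x y = 2 * ∑ i, w i * (x i * y i) := by
  simp only [polar, QW_apply, Pi.add_apply, Finset.mul_sum, ← Finset.sum_sub_distrib]
  exact Finset.sum_congr rfl fun i _ => by ring

theorem pnd_QW {w : ι → F} (h2 : (2 : F) ≠ 0) (hw : ∀ i, w i ≠ 0) : PND (QW w) := fun v hv => by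
  funext i
  have h := hv (Pi.single i 1)
  rw [polar_QW, Finset.sum_eq_single i (fun j _ hj => by simp [Pi.single_eq_of_ne hj]) (by simp)] at h
  simpa [h2, hw i] using h

variable {Q : QuadraticForm F (ι → F)} {K : Subgroup (GL ι F)}

/-- The Siegel element with centre `v` and parameter `y` lies in the group. -/
def InS (Q : QuadraticForm F (ι → F)) (K : Subgroup (GL ι F)) (v y : ι → F) : Prop :=
  ∃ g ∈ K, ∀ x, (g : Matrix ι ι F) *ᵥ x = x + polar Q v x • y - (polar Q y x + Q y * polar Q v x) • v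

/-- All multiples of the parameter are available at the centre. -/
def Par' (Q : QuadraticForm F (ι → F)) (K : Subgroup (GL ι F)) (v y : ι → F) : Prop :=
  polar Q v y = 0 ∧ ∀ s : F, InS Q K v (s • y)

theorem InS.conj (hK : ∀ g ∈ K, ∀ x, Q ((g : Matrix ι ι F) *ᵥ x) = Q x)
    {v y : ι → F} (h : InS Q K v y) {g : GL ι F} (hg : g ∈ K) :
    InS Q K ((g : Matrix ι ι F) *ᵥ v) ((g : Matrix ι ι F) *ᵥ y) := by
  obtain ⟨e, he, hex⟩ := h
  refine ⟨g * e * g⁻¹, mul_mem (mul_mem hg he) (inv_mem hg), fun x => ?_⟩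
  obtain ⟨z, rfl⟩ : ∃ z, x = (g : Matrix ι ι F) *ᵥ z := ⟨_, (gl_mulVec_inv_cancel g x).symm⟩
  have hp : ∀ a b, polar Q ((g : Matrix ι ι F) *ᵥ a) ((g : Matrix ι ι F) *ᵥ b) = polar Q a b := fun a b => by
    simp only [polar, ← Matrix.mulVec_add, hK g hg]
  rw [gl_mul_mulVec, gl_mul_mulVec, gl_inv_mulVec_cancel, hex, hp, hp, hK g hg, Matrix.mulVec_sub, Matrix.mulVec_add,
    Matrix.mulVec_smul, Matrix.mulVec_smul]

theorem InS.mul {v y y' : ι → F} (hv : Q v = 0) (hy : polar Q v y = 0) (hy' : polar Q v y' = 0) (h : InS Q K v y)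
    (h' : InS Q K v y') : InS Q K v (y + y') := by
  obtain ⟨g, hg, hgx⟩ := h
  obtain ⟨g', hg', hgx'⟩ := h'
  refine ⟨g * g', mul_mem hg hg', fun x => ?_⟩
  have hvv : polar Q v v = 0 := by rw [QuadraticMap.polar_self, hv, nsmul_zero]
  rw [gl_mul_mulVec, hgx', hgx, QuadraticMap.map_add ⇑Q]
  simp only [polar_add_right, polar_sub_right, polar_smul_right, polar_add_left, hvv, hy, hy',
    polar_comm Q y v, smul_eq_mul, mul_zero, add_zero, sub_zero]
  module

theorem InS.scale {v y : ι → F} {l : F} (h : InS Q K (l • v) y) : InS Q K v (l • y) := by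
  obtain ⟨g, hg, hgx⟩ := h
  refine ⟨g, hg, fun x => ?_⟩
  rw [hgx, polar_smul_left, polar_smul_left, QuadraticMap.map_smul]
  simp only [smul_eq_mul]
  module

/-- The parameters at a centre. -/
def parSub (K : Subgroup (GL ι F)) {v : ι → F} (hv : Q v = 0) : Submodule F (ι → F) where
  carrier := {y | Par' Q K v y}
  zero_mem' := ⟨polar_zero_right Q v, fun s => ⟨1, one_mem K, fun x => by simp⟩⟩
  add_mem' := by
    rintro y y' ⟨hy, h⟩ ⟨hy', h'⟩
    refine ⟨by rw [polar_add_right, hy, hy', add_zero], fun s => ?_⟩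
    rw [smul_add]
    exact InS.mul hv (by rw [polar_smul_right, hy, smul_zero]) (by rw [polar_smul_right, hy', smul_zero]) (h s) (h' s)
  smul_mem' := by
    rintro r y ⟨hy, h⟩
    exact ⟨by rw [polar_smul_right, hy, smul_zero], fun s => by rw [smul_smul]; exact h _⟩

theorem mem_parSub {v y : ι → F} (hv : Q v = 0) : y ∈ parSub K hv ↔ Par' Q K v y := Iff.rfl

theorem parSub_map (hK : ∀ g ∈ K, ∀ x, Q ((g : Matrix ι ι F) *ᵥ x) = Q x)
    {v y : ι → F} (hv : Q v = 0) {g : GL ι F} (hg : g ∈ K)
    (hgv : (g : Matrix ι ι F) *ᵥ v = v) (h : y ∈ parSub K hv) : (g : Matrix ι ι F) *ᵥ y ∈ parSub K hv := by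
  obtain ⟨hy, h⟩ := h
  refine ⟨?_, fun s => ?_⟩
  · rw [← hgv, show polar Q ((g : Matrix ι ι F) *ᵥ v) ((g : Matrix ι ι F) *ᵥ y) = polar Q v y by
      simp only [polar, ← Matrix.mulVec_add, hK g hg], hy]
  · have := (h s).conj hK hg
    rwa [hgv, Matrix.mulVec_smul] at this

theorem has_of_parSub {v : ι → F} (hv : Q v = 0) (h : ∀ y, polar Q v y = 0 → y ∈ parSub K hv) :
    Radical.Has (fun v => Q v = 0) (Radical.UQ Q) K v := by
  refine ⟨hv, fun g hg => ?_⟩
  obtain ⟨y, hvy, hgx⟩ := hg
  obtain ⟨e, he, hex⟩ := (h y hvy).2 1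
  rw [show g = e from gl_ext_mulVec fun z => by rw [hgx, hex, one_smul]]
  exact he

section Lines

variable {k : ℕ} {σ : Type} [Fintype σ] [DecidableEq σ]

/-- A vector of a slot on the fibre through `f`. -/
def lin (l : σ) (f : σ → Fin k) (x : Fin k → F) : (σ → Fin k) → F :=
  fun a => if a ∈ cyl ({l}ᶜ) f then x (a l) else 0

theorem lin_comp (l : σ) (f : σ → Fin k) (x : Fin k → F) : lin l f x ∘ Function.update f l = x := by
  funext u
  have : Function.update f l u ∈ cyl ({l}ᶜ) f := mem_cyl_compl.2 fun j hj => Function.update_of_ne hj _ _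
  simp [lin, this]

theorem lin_off {l : σ} {f : σ → Fin k} (x : Fin k → F) {a : σ → Fin k} (h : a ∉ cyl ({l}ᶜ) f) : lin l f x a = 0 :=
  if_neg h

theorem lin_single (l : σ) (a : σ → Fin k) : lin l a (Pi.single (a l) 1) = (Pi.single a 1 : (σ → Fin k) → F) := by
  funext b
  by_cases hb : b = a
  · subst hb; simp [lin, mem_cyl]
  · rw [Pi.single_eq_of_ne hb]
    unfold lin
    split_ifs with h
    · refine Pi.single_eq_of_ne (fun e => hb (funext fun j => ?_)) _
      rcases eq_or_ne j l with rfl | hj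
      · exact e
      · exact mem_cyl_compl.1 h j hj
    · rfl

theorem lin_congr {l : σ} {f f' : σ → Fin k} (h : f' ∈ cyl ({l}ᶜ) f) (x : Fin k → F) : lin l f' x = lin l f x := by
  funext a
  unfold lin
  rw [show cyl ({l}ᶜ) f' = cyl ({l}ᶜ) f from cyl_congr fun j hj => mem_cyl.1 h j hj]

/-- Block matrices act fibre by fibre. -/
theorem mulVec_line {l : σ} {G : Matrix (σ → Fin k) (σ → Fin k) F} (hG : BlkM {l}ᶜ G) (z : (σ → Fin k) → F)
    (a : σ → Fin k) (u : Fin k) :
    (G *ᵥ z) (Function.update a l u) = (fibM l G a *ᵥ (z ∘ Function.update a l)) u := by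
  classical
  simp only [Matrix.mulVec, dotProduct]
  rw [← Finset.sum_subset (Finset.subset_univ (Finset.univ.image (Function.update a l)))]
  · rw [Finset.sum_image fun x _ y _ h => by simpa using congrFun h l]
    rfl
  · intro w _ hw
    by_contra hne
    refine hw (Finset.mem_image.2 ⟨w l, Finset.mem_univ _, funext fun j => ?_⟩)
    rcases eq_or_ne j l with rfl | hj
    · rw [Function.update_self]
    · rw [← hG _ _ (left_ne_zero_of_mul hne) j (by simp [hj]), Function.update_of_ne hj, Function.update_of_ne hj]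

theorem mulVec_lin {l : σ} {G : Matrix (σ → Fin k) (σ → Fin k) F} (hG : BlkM {l}ᶜ G) (f : σ → Fin k)
    (x : Fin k → F) : G *ᵥ lin l f x = lin l f (fibM l G f *ᵥ x) := by
  funext a
  rw [← Function.update_eq_self l a, mulVec_line hG]
  by_cases ha : a ∈ cyl ({l}ᶜ) f
  · have e : ∀ y : Fin k → F, lin l f y ∘ Function.update a l = y := fun y => by
      rw [← lin_congr ha]; exact lin_comp l a y
    rw [e, fibM_eq_of_cyl G ha, ← congrFun (e (fibM l G f *ᵥ x)) (a l)]
    rfl
  · have hu : ∀ u, Function.update a l u ∉ cyl ({l}ᶜ) f := fun u h => ha (mem_cyl_compl.2 fun j hj => by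
      rw [← mem_cyl_compl.1 h j hj, Function.update_of_ne hj])
    rw [show lin l f x ∘ Function.update a l = 0 from funext fun u => lin_off x (hu u), Matrix.mulVec_zero,
      lin_off _ (hu _)]
    rfl

/-- Block matrices trivial on a vector's fibres fix it. -/
theorem mulVec_fix {l : σ} {G : Matrix (σ → Fin k) (σ → Fin k) F} (hG : BlkM {l}ᶜ G) {z : (σ → Fin k) → F}
    (h : ∀ a, fibM l G a *ᵥ (z ∘ Function.update a l) = z ∘ Function.update a l) : G *ᵥ z = z := by
  funext a
  rw [← Function.update_eq_self l a, mulVec_line hG, h]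
  rfl

variable {d : Fin k → F} {X : Subgroup (GL (σ → Fin k) F)}

theorem polar_lin (d : Fin k → F) (l : σ) {f : σ → Fin k} (hf : ∏ j ∈ Finset.univ.erase l, d (f j) = 1)
    (x : Fin k → F) (z : (σ → Fin k) → F) :
    polar (QW (wt (σ := σ) d)) (lin l f x) z = polar (Qd d) x (z ∘ Function.update f l) := by
  rw [polar_QW, polar_Qd]
  congr 1
  rw [← Finset.sum_subset (Finset.subset_univ (Finset.univ.image (Function.update f l)))]
  · rw [Finset.sum_image fun x _ y _ h => by simpa using congrFun h l]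
    refine Finset.sum_congr rfl fun u _ => ?_
    rw [show lin l f x (Function.update f l u) = x u from congrFun (lin_comp l f x) u, wt,
      ← Finset.mul_prod_erase _ _ (Finset.mem_univ l), Function.update_self,
      show ∏ j ∈ Finset.univ.erase l, d (Function.update f l u j) = 1 from (Finset.prod_congr rfl fun j hj => by
        rw [Function.update_of_ne (Finset.ne_of_mem_erase hj)]).trans hf, mul_one]
    rfl
  · intro a _ ha
    rw [lin_off x fun h => ha (Finset.mem_image.2 ⟨a l, Finset.mem_univ _, funext fun j => ?_⟩), zero_mul, mul_zero]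
    rcases eq_or_ne j l with rfl | hj
    · rw [Function.update_self]
    · rw [Function.update_of_ne hj, mem_cyl_compl.1 h j hj]

theorem QW_lin (h2 : (2 : F) ≠ 0) (d : Fin k → F) (l : σ) {f : σ → Fin k}
    (hf : ∏ j ∈ Finset.univ.erase l, d (f j) = 1) (x : Fin k → F) : QW (wt (σ := σ) d) (lin l f x) = Qd d x := by
  have h := polar_lin d l hf x (lin l f x)
  rw [lin_comp, QuadraticMap.polar_self, QuadraticMap.polar_self] at h
  exact mul_left_cancel₀ h2 (by simpa [two_nsmul, two_mul] using h)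

/-- The Siegel elements of a slot on one fibre. -/
theorem Shape.par_local (hd : Shape d) {l : σ} {f : σ → Fin k} (hp : ∏ j ∈ Finset.univ.erase l, d (f j) = 1)
    (hf : Full d X l f (cyl ({l}ᶜ) f)) {x y : Fin k → F} (hx : Qd d x = 0) (hxy : polar (Qd d) x y = 0)
    (hv : QW (wt (σ := σ) d) (lin l f x) = 0) : lin l f y ∈ parSub X hv := by
  refine ⟨by rw [polar_lin d l hp, lin_comp, hxy], fun s => ?_⟩
  have hsy : polar (Qd d) x (s • y) = 0 := by rw [polar_smul_right, hxy, smul_zero]
  obtain ⟨e, he⟩ : ∃ e : ↥(ORefl.Iso (Qd d)), e = ⟨ORefl.siegel hx hsy, ORefl.siegel_mem hx hsy⟩ := ⟨_, rfl⟩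
  have hmem : slotHom d e ∈ Om d := by
    rw [om_eq_map hd.two]
    refine ⟨e, he ▸ OOmega.siegel_mem_commutator (pnd_Qd hd.two hd.ne) (Or.inl fun hq => hd.two ?_) hx hsy, rfl⟩
    rw [Nat.card_eq_fintype_card] at hq
    have := FiniteField.cast_card_eq_zero F
    rw [hq] at this
    exact_mod_cast this
  obtain ⟨g, hg⟩ := hf _ hmem
  obtain ⟨hgX, hgb, hg1, -⟩ := mem_sup.1 g.2
  refine ⟨g, hgX, fun z => ?_⟩
  have hw : lin l f (s • y) = s • lin l f y := by
    funext a
    simp only [lin, Pi.smul_apply, smul_eq_mul, mul_ite, mul_zero]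
  rw [← hw, polar_lin d l hp, polar_lin d l hp, QW_lin hd.two d l hp]
  funext a
  rw [← Function.update_eq_self l a, mulVec_line hgb]
  by_cases ha : a ∈ cyl ({l}ᶜ) f
  · have e0 : Function.update a l = Function.update f l := funext fun u => funext fun j => by
      rcases eq_or_ne j l with rfl | hj
      · rw [Function.update_self, Function.update_self]
      · rw [Function.update_of_ne hj, Function.update_of_ne hj, mem_cyl_compl.1 ha j hj]
    rw [fibM_eq_of_cyl _ ha, ← fibH_val, hg, slotHom_apply, he, e0]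
    show ORefl.siegel hx hsy _ _ = _
    rw [ORefl.siegel_apply]
    simp only [Pi.add_apply, Pi.sub_apply, Pi.smul_apply, Function.comp_apply,
      show lin l f x (Function.update f l (a l)) = x (a l) from congrFun (lin_comp l f x) _,
      show lin l f (s • y) (Function.update f l (a l)) = (s • y) (a l) from congrFun (lin_comp l f _) _]
  · have hu : ∀ u, Function.update a l u ∉ cyl ({l}ᶜ) f := fun u h => ha (mem_cyl_compl.2 fun j hj => by
      rw [← mem_cyl_compl.1 h j hj, Function.update_of_ne hj])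
    rw [hg1 a ha, Matrix.one_mulVec, Pi.sub_apply, Pi.add_apply, Pi.smul_apply, Pi.smul_apply, lin_off x (hu _),
      lin_off _ (hu _), smul_zero, smul_zero, add_zero, sub_zero]
    rfl

end Lines

end Cfsg.Agent.Classical.OTPow
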