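/-
All parameters at a centre supported on one fibre.
-/
import Cfsg.Agent.Lib.Classical.OTPow.Gen

set_option autoImplicit false
set_option linter.unusedSectionVars false

namespace Cfsg.Agent.Classical.OTPow

open Matrix QuadraticMap
open Cfsg.Agent.Classical
open Cfsg.Agent.Classical.OCount (PND)

variable {F : Type*} [Field F] [Fintype F] {k : ℕ} {σ : Type} [Fintype σ] [DecidableEq σ]
  {d : Fin k → F} {X : Subgroup (GL (σ → Fin k) F)}

/-- The orbit of a basis vector under the slot group spans. -/
theorem Shape.om_span (hd : Shape d) {W : Submodule F (Fin k → F)}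
    (hW : ∀ r ∈ Om d, ∀ x ∈ W, (r : Matrix (Fin k) (Fin k) F) *ᵥ x ∈ W) {c : Fin k} (hc : Main c)
    (hcW : (Pi.single c 1 : Fin k → F) ∈ W) : W = ⊤ := by
  classical
  have hmain : ∀ c', Main c' → (Pi.single c' 1 : Fin k → F) ∈ W := by
    intro c' hc'
    by_cases h : c' = c
    · exact h.symm ▸ hcW
    obtain ⟨a, ha, hac, hac'⟩ := hd.exists_main_avoid c c'
    have := hW _ (hd.cycle_mem hc' hc ha h hac.symm hac'.symm) _ hcW
    rwa [permMat_mulVec, show (Pi.single c 1 : Fin k → F) ∘ ⇑(Equiv.swap c' c * Equiv.swap c a) = Pi.single c' 1 from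
      funext fun i => by
        have e : (Equiv.swap c' c * Equiv.swap c a) c' = c := by
          rw [Equiv.Perm.mul_apply, Equiv.swap_apply_of_ne_of_ne h hac'.symm, Equiv.swap_apply_left]
        simp only [Function.comp_apply]
        by_cases hi : i = c'
        · rw [hi, e, Pi.single_eq_same, Pi.single_eq_same]
        · rw [Pi.single_eq_of_ne hi, Pi.single_eq_of_ne fun e' => hi (Equiv.injective _ (e'.trans e.symm))]] at this
  have hall : ∀ i, (Pi.single i 1 : Fin k → F) ∈ W := by
    intro n
    by_cases hn : Main n
    · exact hmain n hn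
    by_contra hnW
    have hz : ∀ r ∈ Om d, ∀ m, Main m → (r : Matrix (Fin k) (Fin k) F) n m = 0 := by
      intro r hr m hm
      by_contra h
      have h1 := hW r hr _ (hmain m hm)
      rw [Matrix.mulVec_single_one] at h1
      have h2 : (r : Matrix (Fin k) (Fin k) F).col m - ∑ i ∈ Finset.univ.erase n,
          (r : Matrix (Fin k) (Fin k) F) i m • (Pi.single i 1 : Fin k → F) ∈ W :=
        sub_mem h1 (sum_mem fun i hi => W.smul_mem _ (hmain i (by
          by_contra hi'
          exact Finset.ne_of_mem_erase hi (not_main_unique hi' hn))))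
      rw [show (r : Matrix (Fin k) (Fin k) F).col m - ∑ i ∈ Finset.univ.erase n,
          (r : Matrix (Fin k) (Fin k) F) i m • (Pi.single i 1 : Fin k → F) =
          (r : Matrix (Fin k) (Fin k) F) n m • Pi.single n 1 from by
        rw [sub_eq_iff_eq_add, Finset.add_sum_erase _
          (fun i => (r : Matrix (Fin k) (Fin k) F) i m • (Pi.single i 1 : Fin k → F)) (Finset.mem_univ n)]
        funext j
        rw [Finset.sum_apply, Finset.sum_eq_single j (fun i _ hi => by simp [Pi.single_eq_of_ne hi.symm]) (by simp)]
        simp] at h2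
      exact hnW ((W.smul_mem_iff h).1 h2)
    have hz' : ∀ r ∈ Om d, ∀ m, Main m → (r : Matrix (Fin k) (Fin k) F) m n = 0 := by
      intro r hr m hm
      have h := congrArg (fun M => M * ((r⁻¹ : GL (Fin k) F) : Matrix (Fin k) (Fin k) F)) (mem_isoD.1 (om_le d hr))
      simp only [Matrix.mul_assoc, Units.mul_inv, Matrix.mul_one] at h
      have e := congrFun (congrFun h n) m
      rw [Matrix.mul_diagonal, Matrix.diagonal_mul, hz r⁻¹ (inv_mem hr) m hm, mul_zero, Matrix.transpose_apply] at e
      exact (mul_eq_zero.1 e).resolve_right (hd.ne m)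
    obtain ⟨q, hq⟩ := hd.scalar_of_commute (C := ((sg {n} : GL (Fin k) F) : Matrix (Fin k) (Fin k) F)) fun r hr => by
      rw [sg_val]
      refine ((commute_diagonal_iff (r : Matrix (Fin k) (Fin k) F) _).2 fun a b hab => ?_).eq
      by_cases ha : a = n <;> by_cases hb : b = n
      · rw [ha, hb]
      · exact absurd (ha ▸ hz r hr b (by_contra fun h => hb (not_main_unique h hn))) hab
      · exact absurd (hb ▸ hz' r hr a (by_contra fun h => ha (not_main_unique h hn))) hab
      · simp [sv, ha, hb]
    obtain ⟨m, hm, -, -⟩ := hd.exists_main_avoid n n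
    have hmn : m ≠ n := fun e => hn (e ▸ hm)
    have e1 := congrFun (congrFun hq n) n
    have e2 := congrFun (congrFun hq m) m
    rw [sg_val, Matrix.diagonal_apply_eq, Matrix.smul_apply, Matrix.one_apply_eq] at e1 e2
    exact sv_ne hd.two (S := {n}) (u := n) (v := m) (by simp [hmn]) (e1.trans e2.symm)
  refine eq_top_iff.2 fun x _ => ?_
  rw [pi_eq_sum_univ' x]
  exact sum_mem fun i _ => W.smul_mem _ (hall i)

theorem Shape.prod_main (hd : Shape d) {l : σ} {f : σ → Fin k} (hf : ∀ j, j ≠ l → Main (f j)) :
    ∏ j ∈ Finset.univ.erase l, d (f j) = 1 :=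
  Finset.prod_eq_one fun j hj => hd.one _ (hf j (Finset.ne_of_mem_erase hj))

/-- The setting of generation by single fibres. -/
structure Gen1 (d : Fin k → F) (X : Subgroup (GL (σ → Fin k) F)) : Prop where
  ctx : Ctx d X
  le : ∀ g ∈ X, ∀ x : (σ → Fin k) → F,
    QW (wt (σ := σ) d) ((g : Matrix (σ → Fin k) (σ → Fin k) F) *ᵥ x) = QW (wt (σ := σ) d) x
  fib : ∀ (l : σ) (f : σ → Fin k), (∀ j, j ≠ l → Main (f j)) → Full d X l f (cyl ({l}ᶜ) f)

variable (G : Gen1 d X)
include G

/-- A line missing the centre is spanned from one of its points. -/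
theorem Gen1.line {l : σ} {f : σ → Fin k} {x : Fin k → F} (hv : QW (wt (σ := σ) d) (lin l f x) = 0) {i : σ}
    {b : σ → Fin k} (hb : ∀ j, Main (b j)) (hbS : (Pi.single b 1 : (σ → Fin k) → F) ∈ parSub X hv)
    (hfix : ∀ a ∈ cyl ({i}ᶜ) b, lin l f x a = 0) (c : Fin k) :
    (Pi.single (Function.update b i c) 1 : (σ → Fin k) → F) ∈ parSub X hv := by
  classical
  have hd := G.ctx.shape
  obtain ⟨W, hW⟩ : ∃ W : Submodule F (Fin k → F), ∀ y, y ∈ W ↔ lin i b y ∈ parSub X hv :=
    ⟨{ carrier := {y | lin i b y ∈ parSub X hv}
       zero_mem' := by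
         show lin i b 0 ∈ parSub X hv
         rw [show lin i b (0 : Fin k → F) = 0 from funext fun a => by simp [lin]]
         exact zero_mem _
       add_mem' := fun {y z} hy hz => by
         show lin i b (y + z) ∈ parSub X hv
         rw [show lin i b (y + z) = lin i b y + lin i b z from funext fun a => by
           simp only [lin, Pi.add_apply]; split_ifs <;> simp]
         exact add_mem hy hz
       smul_mem' := fun r y hy => by
         show lin i b (r • y) ∈ parSub X hv
         rw [show lin i b (r • y) = r • lin i b y from funext fun a => by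
           simp only [lin, Pi.smul_apply]; split_ifs <;> simp]
         exact Submodule.smul_mem _ r hy }, fun y => Iff.rfl⟩
  have htop : W = ⊤ := hd.om_span (c := b i) (fun r hr y hy => by
    obtain ⟨g, hg⟩ := G.fib i b (fun j _ => hb j) r hr
    obtain ⟨hgX, hgb, hg1, -⟩ := mem_sup.1 g.2
    rw [hW] at hy ⊢
    have h := parSub_map G.le hv hgX (mulVec_fix hgb fun a => by
      by_cases ha : a ∈ cyl ({i}ᶜ) b
      · rw [show lin l f x ∘ Function.update a i = 0 from funext fun u => hfix _ (mem_cyl_compl.2 fun j hj => by
          rw [Function.update_of_ne hj, mem_cyl_compl.1 ha j hj]), Matrix.mulVec_zero]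
      · rw [hg1 a ha, Matrix.one_mulVec]) hy
    rwa [mulVec_lin hgb, ← fibH_val, hg] at h) (hb i) (by rw [hW, lin_single]; exact hbS)
  have := (hW (Pi.single c 1)).1 (htop ▸ Submodule.mem_top)
  rwa [← lin_congr (f := b) (f' := Function.update b i c) (mem_cyl_compl.2 fun j hj => Function.update_of_ne hj _ _),
    show (Pi.single c 1 : Fin k → F) = Pi.single (Function.update b i c i) 1 by rw [Function.update_self],
    lin_single] at this

/-- Seeded centres carry all parameters. -/
theorem Gen1.par_all {l j₀ : σ} (hj₀ : j₀ ≠ l) {f : σ → Fin k} (hf : ∀ j, Main (f j)) {x : Fin k → F}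
    (hx : Qd d x = 0) (hv : QW (wt (σ := σ) d) (lin l f x) = 0) {u : Fin k} (hu : Main u)
    (hseed : ∀ c, Main c → c ≠ f j₀ →
      (Pi.single (Function.update (Function.update f l u) j₀ c) 1 : (σ → Fin k) → F) ∈ parSub X hv)
    (y : (σ → Fin k) → F) (hy : polar (QW (wt (σ := σ) d)) (lin l f x) y = 0) : y ∈ parSub X hv := by
  classical
  have C := G.ctx
  have hd := C.shape
  -- lines with another coordinate off the centre miss it
  have hoff : ∀ {i m : σ} {b : σ → Fin k}, m ≠ l → m ≠ i → b m ≠ f m → ∀ a ∈ cyl ({i}ᶜ) b, lin l f x a = 0 :=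
    fun {i m b} hml hmi hbm a ha => lin_off x fun h => hbm (by
      rw [← mem_cyl_compl.1 ha m hmi, mem_cyl_compl.1 h m hml])
  obtain ⟨c₀, hc₀, hc₀f, -⟩ := hd.exists_main_avoid (f j₀) (f j₀)
  -- main points off the line of the centre
  have hmainpt : ∀ b : σ → Fin k, (∀ j, Main (b j)) → (∃ i, i ≠ l ∧ b i ≠ f i) →
      (Pi.single b 1 : (σ → Fin k) → F) ∈ parSub X hv := by
    have h1 : ∀ (w c : Fin k), Main w → Main c → c ≠ f j₀ →
        (Pi.single (Function.update (Function.update f l w) j₀ c) 1 : (σ → Fin k) → F) ∈ parSub X hv := by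
      intro w c hw hc hcf
      have hb : ∀ j, Main (Function.update (Function.update f l u) j₀ c j) := fun j => by
        simp only [Function.update_apply]; split_ifs <;> [exact hc; exact hu; exact hf j]
      have := G.line hv hb (hseed c hc hcf) (i := l) (hoff hj₀ hj₀ (by rw [Function.update_self]; exact hcf)) w
      rwa [show Function.update (Function.update (Function.update f l u) j₀ c) l w =
          Function.update (Function.update f l w) j₀ c from funext fun i => by
        simp only [Function.update_apply]; split_ifs with h1 h2 <;> first | rfl | exact absurd (h2 ▸ h1) hj₀] at this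
    have h2 : ∀ b : σ → Fin k, (∀ j, Main (b j)) → b j₀ ≠ f j₀ →
        (Pi.single b 1 : (σ → Fin k) → F) ∈ parSub X hv := by
      intro b hb hbj
      suffices h : ∀ s : Finset σ,
          (Pi.single (s.piecewise b (Function.update (Function.update f l (b l)) j₀ (b j₀))) 1 : (σ → Fin k) → F) ∈
            parSub X hv by
        have := h Finset.univ
        rwa [Finset.piecewise_univ] at this
      intro s
      induction s using Finset.induction with
      | empty => rw [Finset.piecewise_empty]; exact h1 _ _ (hb l) (hb j₀) hbj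
      | insert i s _ ih =>
        rw [Finset.piecewise_insert]
        by_cases hij : i = j₀
        · have e : (s.piecewise b (Function.update (Function.update f l (b l)) j₀ (b j₀))) i = b i := by
            simp [hij, Finset.piecewise]
          rwa [← e, Function.update_eq_self]
        refine G.line hv (fun j => ?_) ih (hoff (m := j₀) hj₀ (Ne.symm hij) ?_) (b i)
        · simp only [Finset.piecewise, Function.update_apply]
          split_ifs <;> first | exact hb _ | exact hf j
        · simp only [Finset.piecewise, Function.update_self]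
          split_ifs <;> exact hbj
    intro b hb ⟨i, hil, hbi⟩
    by_cases hbj : b j₀ = f j₀
    · have hij : i ≠ j₀ := fun e => hbi (e ▸ hbj)
      have hb' : ∀ j, Main (Function.update b j₀ c₀ j) := fun j => by
        simp only [Function.update_apply]; split_ifs <;> [exact hc₀; exact hb j]
      have := G.line hv hb' (h2 _ hb' (by rw [Function.update_self]; exact hc₀f)) (i := j₀)
        (hoff hil hij (by rw [Function.update_of_ne hij]; exact hbi)) (b j₀)
      rwa [Function.update_idem, Function.update_eq_self] at this
    · exact h2 b hb hbj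
  -- the coordinate of the slot of the centre
  have hlpt : ∀ b : σ → Fin k, (∀ j, j ≠ l → Main (b j)) → (∃ i, i ≠ l ∧ b i ≠ f i) →
      (Pi.single b 1 : (σ → Fin k) → F) ∈ parSub X hv := by
    intro b hb ⟨i, hil, hbi⟩
    have hb' : ∀ j, Main (Function.update b l u j) := fun j => by
      simp only [Function.update_apply]; split_ifs with h <;> [exact hu; exact hb j h]
    have hne : Function.update b l u i ≠ f i := by rw [Function.update_of_ne hil]; exact hbi
    have := G.line hv hb' (hmainpt _ hb' ⟨i, hil, hne⟩) (i := l) (hoff hil hil hne) (b l)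
    rwa [Function.update_idem, Function.update_eq_self] at this
  -- the other coordinates outside the main indices
  have hpt : ∀ (n : ℕ) (b : σ → Fin k), (Finset.univ.filter fun j => j ≠ l ∧ ¬ Main (b j)).card ≤ n →
      (∃ i, i ≠ l ∧ b i ≠ f i) → (Pi.single b 1 : (σ → Fin k) → F) ∈ parSub X hv := by
    intro n
    induction n with
    | zero =>
      intro b hb hbf
      refine hlpt b (fun j hj => by_contra fun h => ?_) hbf
      have : j ∈ Finset.univ.filter fun j => j ≠ l ∧ ¬ Main (b j) := by simp [hj, h]
      rw [Finset.card_eq_zero.1 (Nat.le_zero.1 hb)] at this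
      exact Finset.notMem_empty j this
    | succ n ih =>
      intro b hb hbf
      by_cases hall : ∀ j, j ≠ l → Main (b j)
      · exact hlpt b hall hbf
      push Not at hall
      obtain ⟨j, hjl, hjm⟩ := hall
      have hev : Even k := Nat.not_odd_iff_even.1 fun h => hjm (Or.inr h)
      have hk4 : 4 ≤ k := by have := hd.three; obtain ⟨r, hr⟩ := hev; omega
      have hstep : ∀ c, Main c → c ≠ f j →
          (Pi.single (Function.update b j c) 1 : (σ → Fin k) → F) ∈ parSub X hv := by
        intro c hc hcf
        refine ih _ ?_ ⟨j, hjl, by rw [Function.update_self]; exact hcf⟩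
        have : (Finset.univ.filter fun i => i ≠ l ∧ ¬ Main (Function.update b j c i)) ⊆
            (Finset.univ.filter fun i => i ≠ l ∧ ¬ Main (b i)).erase j := fun i hi => by
          simp only [Finset.mem_filter, Finset.mem_univ, true_and, Finset.mem_erase] at hi ⊢
          have hij : i ≠ j := fun e => hi.2 (by rw [e, Function.update_self]; exact hc)
          rw [Function.update_of_ne hij] at hi
          exact ⟨hij, hi⟩
        have h' := Finset.card_le_card this
        rw [Finset.card_erase_of_mem (by simp [hjl, hjm])] at h'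
        omega
      obtain ⟨m₁, hm₁, hm₁f, -⟩ := hd.exists_main_avoid (f j) (f j)
      obtain ⟨m₂, hm₂, hm₂f, hm₂₁⟩ := hd.exists_main_avoid (f j) m₁
      obtain ⟨w, hwf, hwn, hwm, hwq, hwe⟩ : ∃ w : Fin k → F, w (f j) = 0 ∧ w (b j) ≠ 0 ∧ w m₁ ≠ 0 ∧ Qd d w ≠ 0 ∧
          ∀ i, i ≠ b j → w i ≠ 0 → Main i ∧ i ≠ f j := by
        have hn1 : b j ≠ m₁ := fun e => hjm (e ▸ hm₁)
        have hn2 : b j ≠ m₂ := fun e => hjm (e ▸ hm₂)
        have hnf : b j ≠ f j := fun e => hjm (e ▸ hf j)
        by_cases h : 1 + d (b j) = 0
        · refine ⟨Pi.single m₁ 1 + Pi.single m₂ 1 + Pi.single (b j) 1, by simp [hm₁f.symm, hm₂f.symm, hnf.symm],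
            by simp [hn1, hn2], by simp [hm₂₁.symm, hn1.symm], ?_, fun i hi hwi => ?_⟩
          · rw [Qd_apply, ← Finset.sum_subset (Finset.subset_univ {m₁, m₂, b j}) fun i _ hi => by
              simp only [Finset.mem_insert, Finset.mem_singleton, not_or] at hi; simp [hi.1, hi.2.1, hi.2.2]]
            rw [Finset.sum_insert (by simp [hm₂₁.symm, hn1.symm]), Finset.sum_pair hn2.symm]
            simp [hd.one _ hm₁, hd.one _ hm₂, hm₂₁, hm₂₁.symm, hn1, hn1.symm, hn2, hn2.symm, h]
          · simp only [Pi.add_apply, Pi.single_apply, hi, if_false, add_zero] at hwi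
            by_cases h1 : i = m₁
            · exact h1 ▸ ⟨hm₁, hm₁f⟩
            by_cases h2 : i = m₂
            · exact h2 ▸ ⟨hm₂, hm₂f⟩
            · simp [h1, h2] at hwi
        · refine ⟨Pi.single m₁ 1 + Pi.single (b j) 1, by simp [hm₁f.symm, hnf.symm], by simp [hn1],
            by simp [hn1.symm], ?_, fun i hi hwi => ?_⟩
          · rw [Qd_apply, ← Finset.sum_subset (Finset.subset_univ {m₁, b j}) fun i _ hi => by
              simp only [Finset.mem_insert, Finset.mem_singleton, not_or] at hi; simp [hi.1, hi.2]]
            rw [Finset.sum_pair hn1.symm]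
            simpa [hd.one _ hm₁, hn1, hn1.symm] using h
          · simp only [Pi.add_apply, Pi.single_apply, hi, if_false, add_zero] at hwi
            by_cases h1 : i = m₁
            · exact h1 ▸ ⟨hm₁, hm₁f⟩
            · simp [h1] at hwi
      have hrX : facG j (refG d w) ∈ X := C.ext hev j _ (refG_iso hd.two d w)
      have hb₁ := hstep m₁ hm₁ hm₁f
      have hfix : ((facG j (refG d w) : GL (σ → Fin k) F) : Matrix (σ → Fin k) (σ → Fin k) F) *ᵥ lin l f x =
          lin l f x := by
        rw [facG_val]
        refine mulVec_fix (facS_blkM j _) fun a => ?_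
        rw [fibM_facS, refG, slotHom_apply]
        refine ORefl.refl_apply _ _ |>.trans ?_
        rw [show polar (Qd d) w (lin l f x ∘ Function.update a j) = 0 from ?_, mul_zero, zero_smul, sub_zero]
        rw [polar_Qd, Finset.sum_eq_zero fun i _ => ?_, mul_zero]
        by_cases hi : i = f j
        · rw [hi, hwf, zero_mul, mul_zero]
        · rw [Function.comp_apply, lin_off x fun h => hi (by
            rw [← mem_cyl_compl.1 h j hjl, Function.update_self]), mul_zero, mul_zero]
      have he1 : (Pi.single (Function.update b j m₁) 1 : (σ → Fin k) → F) = lin j b (Pi.single m₁ 1) := by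
        rw [← lin_congr (f := b) (f' := Function.update b j m₁)
          (mem_cyl_compl.2 fun i hi => Function.update_of_ne hi _ _)]
        have := lin_single (F := F) j (Function.update b j m₁)
        rw [Function.update_self] at this
        exact this.symm
      have h := parSub_map G.le hv hrX hfix hb₁
      rw [facG_val, he1, mulVec_lin (facS_blkM j _), fibM_facS, refG, slotHom_apply] at h
      have hval : ORefl.refl (Qd d) w (Pi.single m₁ 1) = Pi.single m₁ 1 - ((Qd d w)⁻¹ * (2 * w m₁)) • w := by
        rw [ORefl.refl_apply, polar_Qd_single, hd.one _ hm₁, one_mul]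
      have hlin : ∀ (y z : Fin k → F) (r : F), lin j b (y - r • z) = lin j b y - r • lin j b z := fun y z r =>
        funext fun a => by simp only [lin, Pi.sub_apply, Pi.smul_apply]; split_ifs <;> simp
      rw [show (OOmega.rf (Qd d) w).1 (Pi.single m₁ 1) = ORefl.refl (Qd d) w (Pi.single m₁ 1) from rfl, hval,
        hlin] at h
      have hm₁S : lin j b (Pi.single m₁ 1) ∈ parSub X hv := by
        rwa [← he1]
      have hwS : lin j b w ∈ parSub X hv := by
        have h3 := sub_mem hm₁S h
        rw [sub_sub_cancel] at h3
        exact ((parSub X hv).smul_mem_iff (mul_ne_zero (inv_ne_zero hwq) (mul_ne_zero hd.two hwm))).1 h3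
      have hsum : lin j b w = ∑ i, w i • (Pi.single (Function.update b j i) 1 : (σ → Fin k) → F) := by
        funext a
        simp only [Finset.sum_apply, Pi.smul_apply, smul_eq_mul]
        unfold lin
        split_ifs with ha
        · rw [Finset.sum_eq_single (a j) (fun i _ hi => ?_) (by simp)]
          · rw [show Function.update b j (a j) = a from funext fun i => by
              rcases eq_or_ne i j with rfl | hij
              · rw [Function.update_self]
              · rw [Function.update_of_ne hij, mem_cyl_compl.1 ha i hij], Pi.single_eq_same, mul_one]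
          · rw [Pi.single_eq_of_ne fun e => hi (by rw [e, Function.update_self]), mul_zero]
        · refine (Finset.sum_eq_zero fun i _ => ?_).symm
          rw [Pi.single_eq_of_ne fun e => ha (mem_cyl_compl.2 fun i hi => by rw [e, Function.update_of_ne hi]), mul_zero]
      rw [hsum, ← Finset.add_sum_erase _ _ (Finset.mem_univ (b j))] at hwS
      have h4 : w (b j) • (Pi.single b 1 : (σ → Fin k) → F) ∈ parSub X hv := by
        have h5 : ∑ i ∈ Finset.univ.erase (b j), w i • (Pi.single (Function.update b j i) 1 : (σ → Fin k) → F) ∈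
            parSub X hv := sum_mem fun i hi => by
          by_cases hwi : w i = 0
          · rw [hwi, zero_smul]; exact zero_mem _
          · obtain ⟨him, hif⟩ := hwe i (Finset.ne_of_mem_erase hi) hwi
            exact Submodule.smul_mem _ _ (hstep i him hif)
        have := sub_mem hwS h5
        rwa [add_sub_cancel_right, Function.update_eq_self] at this
      exact ((parSub X hv).smul_mem_iff hwn).1 h4
  -- split off the line of the centre
  rw [show y = lin l f (y ∘ Function.update f l) +
      ∑ b ∈ Finset.univ.filter (fun b => b ∉ cyl ({l}ᶜ) f), y b • (Pi.single b 1 : (σ → Fin k) → F) from funext fun a => by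
    rw [Pi.add_apply, Finset.sum_apply]
    simp only [Pi.smul_apply, smul_eq_mul]
    by_cases ha : a ∈ cyl ({l}ᶜ) f
    · rw [Finset.sum_eq_zero (fun b hb => by
        rw [Pi.single_eq_of_ne (fun (e : a = b) => (Finset.mem_filter.1 hb).2 (e ▸ ha)), mul_zero]), add_zero]
      unfold lin
      rw [if_pos ha, Function.comp_apply]
      congr 1
      funext i
      rcases eq_or_ne i l with rfl | hil
      · rw [Function.update_self]
      · rw [Function.update_of_ne hil, mem_cyl_compl.1 ha i hil]
    · rw [lin_off _ ha, zero_add, Finset.sum_eq_single a (fun b _ hb => by rw [Pi.single_eq_of_ne hb.symm, mul_zero])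
        (fun h => absurd (Finset.mem_filter.2 ⟨Finset.mem_univ a, ha⟩) h), Pi.single_eq_same, mul_one]]
  refine add_mem (hd.par_local (hd.prod_main fun j _ => hf j) (G.fib l f fun j _ => hf j) hx ?_ hv)
    (sum_mem fun b hb => Submodule.smul_mem _ _ (hpt _ b le_rfl ?_))
  · rw [← polar_lin d l (hd.prod_main fun j _ => hf j), hy]
  · have := (Finset.mem_filter.1 hb).2
    simp only [mem_cyl_compl, not_forall] at this
    obtain ⟨i, hi, hbi⟩ := this
    exact ⟨i, hi, hbi⟩

end Cfsg.Agent.Classical.OTPow
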