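/-
Two seeded centres generate; seeds in dimension at least four.
-/
import Cfsg.Agent.Lib.Classical.OTPow.Closure

set_option autoImplicit false
set_option linter.unusedSectionVars false

namespace Cfsg.Agent.Classical.OTPow

open Matrix QuadraticMap
open Cfsg.Agent.Classical
open Cfsg.Agent.Classical.OCount (PND)

variable {F : Type*} [Field F] [Fintype F] {k : ℕ} {σ : Type} [Fintype σ] [DecidableEq σ]
  {d : Fin k → F} {X : Subgroup (GL (σ → Fin k) F)}

/-- Seeds at a centre on the fibre through `f`. -/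
def Seeded (d : Fin k → F) (X : Subgroup (GL (σ → Fin k) F)) (l j₀ : σ) (f : σ → Fin k) (x : Fin k → F) : Prop :=
  ∀ hv : QW (wt (σ := σ) d) (lin l f x) = 0, ∃ u, Main u ∧ ∀ c, Main c → c ≠ f j₀ →
    (Pi.single (Function.update (Function.update f l u) j₀ c) 1 : (σ → Fin k) → F) ∈ parSub X hv

variable (G : Gen1 d X)
include G

theorem Gen1.omega_le {l j₀ : σ} (hj₀ : j₀ ≠ l) {f : σ → Fin k} (hf : ∀ j, Main (f j)) {x x' : Fin k → F}
    (hx : Qd d x = 0) (hx' : Qd d x' = 0) (hxx : polar (Qd d) x x' ≠ 0) (hs : Seeded d X l j₀ f x)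
    (hs' : Seeded d X l j₀ f x') (hn : 7 ≤ Fintype.card (σ → Fin k)) :
    Cfsg.Geo.omegaGL ⇑(QW (wt (σ := σ) d)) ≤ X := by
  have hd := G.ctx.shape
  have hp := hd.prod_main (l := l) (f := f) fun j _ => hf j
  have key : ∀ {z : Fin k → F}, Qd d z = 0 → Seeded d X l j₀ f z →
      Radical.Has (fun v => QW (wt (σ := σ) d) v = 0) (Radical.UQ (QW (wt (σ := σ) d))) X (lin l f z) := by
    intro z hz hsz
    have hv : QW (wt (σ := σ) d) (lin l f z) = 0 := by rw [QW_lin hd.two d l hp, hz]
    obtain ⟨u, hu, hseed⟩ := hsz hv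
    exact has_of_parSub hv (G.par_all hj₀ hf hz hv hu hseed)
  have hΔ := Radical.quad_data (pnd_QW hd.two fun a => wt_ne_zero (σ := σ) hd.ne a) hn
  have key' : ∀ {z : Fin k → F}, Qd d z = 0 → Seeded d X l j₀ f z →
      Radical.Has (fun v => QW (wt (σ := σ) d) v = 0) (Radical.UQ (QW (wt (σ := σ) d)))
        (X ⊓ Cfsg.Geo.omegaGL ⇑(QW (wt (σ := σ) d))) (lin l f z) := fun hz hsz =>
    ⟨(key hz hsz).1, fun h hh => ⟨(key hz hsz).2 h hh, hΔ.mem _ h (key hz hsz).1 hh⟩⟩
  refine (Radical.le_of_pair hΔ inf_le_right (key' hx hs) (key' hx' hs') ?_).trans inf_le_left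
  rwa [polar_lin d l hp, lin_comp]

/-- A centre vanishing at a main index is seeded. -/
theorem Gen1.seeded_zero {l j₀ : σ} (hj₀ : j₀ ≠ l) {f : σ → Fin k} (hf : ∀ j, Main (f j)) {x : Fin k → F}
    (hx : Qd d x = 0) {u : Fin k} (hu : Main u) (hxu : x u = 0) : Seeded d X l j₀ f x := by
  intro hv
  have hd := G.ctx.shape
  refine ⟨u, hu, fun c _ _ => ?_⟩
  have hb : ∀ j, Main (Function.update f l u j) := fun j => by
    simp only [Function.update_apply]; split_ifs <;> [exact hu; exact hf j]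
  have hstart : (Pi.single (Function.update f l u) 1 : (σ → Fin k) → F) ∈ parSub X hv := by
    rw [← lin_single l (Function.update f l u), Function.update_self,
      lin_congr (f := f) (f' := Function.update f l u) (mem_cyl_compl.2 fun i hi => Function.update_of_ne hi _ _)]
    refine hd.par_local (hd.prod_main fun j _ => hf j) (G.fib l f fun j _ => hf j) hx ?_ hv
    rw [polar_Qd_single, hxu, mul_zero, mul_zero]
  refine G.line hv hb hstart (i := j₀) (fun a ha => ?_) c
  by_cases h : a ∈ cyl ({l}ᶜ) f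
  · unfold lin
    rw [if_pos h, mem_cyl_compl.1 ha l hj₀.symm, Function.update_self, hxu]
  · exact lin_off x h

/-- In dimension at least four the single fibres generate. -/
theorem Gen1.omega_of_four [Nontrivial σ] (hk : 4 ≤ k) (hn : 7 ≤ Fintype.card (σ → Fin k)) :
    Cfsg.Geo.omegaGL ⇑(QW (wt (σ := σ) d)) ≤ X := by
  classical
  have hd := G.ctx.shape
  obtain ⟨u, hu, -, -⟩ := hd.exists_main_avoid ⟨0, by omega⟩ ⟨0, by omega⟩
  obtain ⟨a, ha, hau, -⟩ := hd.exists_main_avoid u u
  obtain ⟨b, hb, hbu, hba⟩ := hd.exists_main_avoid u a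
  obtain ⟨c, hcu, hca, hcb⟩ : ∃ c, c ≠ u ∧ c ≠ a ∧ c ≠ b := by
    by_contra h
    push Not at h
    have : (Finset.univ : Finset (Fin k)) ⊆ {u, a, b} := fun c _ => by
      simp only [Finset.mem_insert, Finset.mem_singleton]
      by_contra hc
      push Not at hc
      exact hc.2.2 (h c hc.1 hc.2.1)
    have := (Finset.card_le_card this).trans Finset.card_le_three
    rw [Finset.card_univ, Fintype.card_fin] at this
    omega
  obtain ⟨p, q, hpq⟩ := OOmega.exists_rep hd.two (one_ne_zero (α := F)) one_ne_zero (-d c)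
  rw [one_mul, one_mul] at hpq
  have hval : ∀ r : F, r * r = 1 → Qd d (Pi.single a p + Pi.single b q + Pi.single c r : Fin k → F) = 0 := by
    intro r hr
    rw [Qd_apply, ← Finset.sum_subset (Finset.subset_univ {a, b, c}) fun i _ hi => by
      simp only [Finset.mem_insert, Finset.mem_singleton, not_or] at hi; simp [hi.1, hi.2.1, hi.2.2]]
    rw [Finset.sum_insert (by simp [hba.symm, hca.symm]), Finset.sum_pair hcb.symm]
    simp [hd.one _ ha, hd.one _ hb, hba, hba.symm, hca, hca.symm, hcb, hcb.symm]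
    linear_combination hpq + d c * hr
  obtain ⟨l, j₀, hlj⟩ := exists_pair_ne σ
  refine G.omega_le hlj.symm (f := fun _ => u) (fun _ => hu) (hval 1 (one_mul 1)) (hval (-1) (by ring)) ?_
    (G.seeded_zero hlj.symm (fun _ => hu) (hval 1 (one_mul 1)) hu (by simp [hau.symm, hbu.symm, hcu.symm]))
    (G.seeded_zero hlj.symm (fun _ => hu) (hval (-1) (by ring)) hu (by simp [hau.symm, hbu.symm, hcu.symm])) hn
  rw [polar_Qd, ← Finset.sum_subset (Finset.subset_univ {a, b, c}) fun i _ hi => by
    simp only [Finset.mem_insert, Finset.mem_singleton, not_or] at hi; simp [hi.1, hi.2.1, hi.2.2]]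
  rw [Finset.sum_insert (by simp [hba.symm, hca.symm]), Finset.sum_pair hcb.symm]
  simp [hd.one _ ha, hd.one _ hb, hba, hba.symm, hca, hca.symm, hcb, hcb.symm]
  refine ⟨hd.two, fun h => hd.two ?_⟩
  have h' : (2 : F) * d c = 0 := by linear_combination hpq - h
  exact (mul_eq_zero.1 h').resolve_right (hd.ne c)

end Cfsg.Agent.Classical.OTPow
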