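/-
Seeds in dimension three, from the reflections of one class on two lines that meet.
-/
import Cfsg.Agent.Lib.Classical.OTPow.Centres
import Cfsg.Agent.Lib.Classical.MonomFrame.Grow

set_option autoImplicit false
set_option linter.unusedSectionVars false

namespace Cfsg.Agent.Classical.OTPow

open Matrix QuadraticMap
open Cfsg.Agent.Classical
open Cfsg.Agent.Classical.OCount (PND)
open Cfsg.Agent.Classical.ORefl (Iso toMat)
open Cfsg.Agent.Classical.OOmega (rf)

variable {F : Type*} [Field F] [Fintype F]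

section Hom

variable {ι : Type} [Fintype ι] [DecidableEq ι]

/-- The matrix of an isometry. -/
noncomputable def wHom (Q : QuadraticForm F (ι → F)) : ↥(Iso Q) →* GL ι F :=
  (Cfsg.isometryGroup F ⇑Q).subtype.comp (toMat Q).toMonoidHom

theorem wHom_apply (Q : QuadraticForm F (ι → F)) (g : ↥(Iso Q)) (x : ι → F) :
    (wHom Q g : Matrix ι ι F) *ᵥ x = g.1 x := ORefl.toMat_apply g x

theorem wHom_surj {Q : QuadraticForm F (ι → F)} {g : GL ι F}
    (hg : ∀ x, Q ((g : Matrix ι ι F) *ᵥ x) = Q x) : ∃ g', wHom Q g' = g :=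
  ⟨(toMat Q).symm ⟨g, fun x _ => hg x⟩, by
    show ((toMat Q) ((toMat Q).symm _)).1 = g
    rw [MulEquiv.apply_symm_apply]⟩

end Hom

variable {k : ℕ} {σ : Type} [Fintype σ] [DecidableEq σ] {d : Fin k → F} {X : Subgroup (GL (σ → Fin k) F)}

/-- The group generated by the single fibres. -/
def fibGrp (d : Fin k → F) (X : Subgroup (GL (σ → Fin k) F)) : Subgroup (GL (σ → Fin k) F) :=
  ⨆ p : {p : σ × (σ → Fin k) // ∀ j, j ≠ p.1 → Main (p.2 j)}, Sup d X p.1.1 (cyl ({p.1.1}ᶜ) p.1.2)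

theorem fibGrp_le : fibGrp d X ≤ X := iSup_le fun _ _ hg => (mem_sup.1 hg).1

/-- A linear map onto a line of the tensor space. -/
def linL (l : σ) (f : σ → Fin k) : (Fin k → F) →ₗ[F] ((σ → Fin k) → F) where
  toFun := lin l f
  map_add' y z := funext fun a => by simp only [lin, Pi.add_apply]; split_ifs <;> simp
  map_smul' r y := funext fun a => by simp only [lin, Pi.smul_apply, RingHom.id_apply]; split_ifs <;> simp

theorem linL_apply (l : σ) (f : σ → Fin k) (y : Fin k → F) : linL (F := F) l f y = lin l f y := rfl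

theorem linL_inj (l : σ) (f : σ → Fin k) : Function.Injective (linL (F := F) l f) := fun y z h => by
  rw [← lin_comp l f y, ← lin_comp l f z, ← linL_apply, ← linL_apply, h]

variable (G : Gen1 d X)
include G

theorem Gen1.fib_normal {ε : (σ → Fin k) → F} (hε : ∀ a, ε a * ε a = 1) {n : GL (σ → Fin k) F}
    (hn : n ∈ fibGrp d X) : diagG ε hε * n * (diagG ε hε)⁻¹ ∈ fibGrp d X := by
  have hd := G.ctx.shape
  suffices h : (fibGrp d X).map (MulAut.conj (diagG ε hε)).toMonoidHom ≤ fibGrp d X from h ⟨n, hn, rfl⟩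
  rw [fibGrp, Subgroup.map_iSup]
  refine iSup_le fun p => ?_
  rintro _ ⟨g, hg, rfl⟩
  obtain ⟨⟨l, f⟩, hf⟩ := p
  obtain ⟨δ, hδ⟩ : ∃ δ : (σ → Fin k) → GL (Fin k) F,
      δ = fun b => diagG (fun x => ε (Function.update b l x)) fun x => hε _ := ⟨_, rfl⟩
  have hδv : ∀ b, (δ b : Matrix (Fin k) (Fin k) F) = Matrix.diagonal fun x => ε (Function.update b l x) :=
    fun b => by rw [hδ]; rfl
  have hδiso : δ f ∈ IsoD d := by
    refine mem_isoD.2 ?_
    rw [hδv, Matrix.diagonal_transpose, Matrix.diagonal_mul_diagonal, Matrix.diagonal_mul_diagonal]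
    exact congrArg _ (funext fun x => by rw [mul_right_comm, hε, one_mul])
  obtain ⟨hgX, hgb, hg1, -⟩ := mem_sup.1 hg
  obtain ⟨g', hg'⟩ := G.fib l f hf _ (Shape.om_normalised hδiso (fibH_om f ⟨g, hg⟩))
  obtain ⟨hg'X, hg'b, hg'1, -⟩ := mem_sup.1 g'.2
  refine Subgroup.mem_iSup_of_mem ⟨(l, f), hf⟩ ?_
  convert g'.2 using 1
  refine Units.ext (fibM_ext ?_ hg'b fun b => ?_)
  · show BlkM _ ((diagG ε hε * g * (diagG ε hε)⁻¹ : GL (σ → Fin k) F) : Matrix (σ → Fin k) (σ → Fin k) F)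
    rw [diagG_inv, Units.val_mul, Units.val_mul, diagG_val]
    exact ((diagonal_blkM _ ε).mul hgb).mul (diagonal_blkM _ ε)
  · show fibM l ((diagG ε hε * g * (diagG ε hε)⁻¹ : GL (σ → Fin k) F) : Matrix (σ → Fin k) (σ → Fin k) F) b = _
    rw [diagG_inv, Units.val_mul, Units.val_mul, diagG_val, fibM_mul ((diagonal_blkM _ ε).mul hgb),
      fibM_mul (diagonal_blkM _ ε), fibM_diagonal]
    by_cases hb : b ∈ cyl ({l}ᶜ) f
    · have e : ∀ x, ε (Function.update b l x) = ε (Function.update f l x) := fun x => congrArg ε (funext fun j => by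
        rcases eq_or_ne j l with rfl | hj
        · rw [Function.update_self, Function.update_self]
        · rw [Function.update_of_ne hj, Function.update_of_ne hj, mem_cyl_compl.1 hb j hj])
      simp only [e]
      rw [fibM_eq_of_cyl _ hb, fibM_eq_of_cyl _ hb, ← fibH_val, hg', Units.val_mul, Units.val_mul,
        show (δ f)⁻¹ = δ f by rw [hδ]; exact diagG_inv _ _, hδv]
      rfl
    · rw [hg1 b hb, hg'1 b hb, Matrix.mul_one, Matrix.diagonal_mul_diagonal]
      simp only [hε, Matrix.diagonal_one]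

/-- The single fibres extended by the diagonal signs. -/
def Gen1.signed : Subgroup (GL (σ → Fin k) F) where
  carrier := {g | ∃ n ∈ fibGrp d X, ∃ (ε : (σ → Fin k) → F) (h : ∀ a, ε a * ε a = 1), g = n * diagG ε h}
  one_mem' := ⟨1, one_mem _, fun _ => 1, fun _ => one_mul 1, by
    rw [one_mul]; exact Units.ext (by rw [diagG_val, Matrix.diagonal_one, Units.val_one])⟩
  mul_mem' := by
    rintro _ _ ⟨n, hn, ε, hε, rfl⟩ ⟨m, hm, η, hη, rfl⟩
    refine ⟨n * (diagG ε hε * m * (diagG ε hε)⁻¹), mul_mem hn (G.fib_normal hε hm), fun a => ε a * η a,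
      fun a => by rw [mul_mul_mul_comm, hε, hη, one_mul], ?_⟩
    rw [show diagG (fun a => ε a * η a) _ = diagG ε hε * diagG η hη from Units.ext (by
      rw [Units.val_mul, diagG_val, diagG_val, diagG_val, Matrix.diagonal_mul_diagonal])]
    group
  inv_mem' := by
    rintro _ ⟨n, hn, ε, hε, rfl⟩
    refine ⟨diagG ε hε * n⁻¹ * (diagG ε hε)⁻¹, G.fib_normal hε (inv_mem hn), ε, hε, ?_⟩
    rw [_root_.mul_inv_rev, diagG_inv, mul_assoc (diagG ε hε * n⁻¹),
      show diagG ε hε * diagG ε hε = 1 from mul_eq_one_iff_eq_inv.2 (diagG_inv ε hε).symm, mul_one]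

theorem Gen1.mem_signed {g : GL (σ → Fin k) F} : g ∈ G.signed ↔
    ∃ n ∈ fibGrp d X, ∃ (ε : (σ → Fin k) → F) (h : ∀ a, ε a * ε a = 1), g = n * diagG ε h := Iff.rfl

theorem Gen1.sq_mem {g : GL (σ → Fin k) F} (hg : g ∈ G.signed) : g * g ∈ X := by
  obtain ⟨n, hn, ε, hε, rfl⟩ := G.mem_signed.1 hg
  refine fibGrp_le (d := d) ?_
  rw [show n * diagG ε hε * (n * diagG ε hε) = n * (diagG ε hε * n * (diagG ε hε)⁻¹) * (diagG ε hε * diagG ε hε) by group,
    show diagG ε hε * diagG ε hε = 1 from mul_eq_one_iff_eq_inv.2 (diagG_inv ε hε).symm, mul_one]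
  exact mul_mem hn (G.fib_normal hε hn)

/-- Reflections in the unit vectors of the lines. -/
theorem Gen1.line_sphere (hodd : Odd k) (l : σ) (f : σ → Fin k) :
    MFrame.Sph (G.signed.comap (wHom (QW (wt (σ := σ) d)))) 1 (LinearMap.range (linL (F := F) l f)) := by
  classical
  have hd := G.ctx.shape
  have hm : ∀ i : Fin k, Main i := fun i => Or.inr hodd
  rintro _ ⟨y, rfl⟩ hy
  rw [linL_apply] at hy ⊢
  rw [QW_lin hd.two d l (hd.prod_main fun j _ => hm _)] at hy
  obtain ⟨r, hr, hry⟩ := hd.exists_om_map hy (hm (f l))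
  have hbase : rf (QW (wt (σ := σ) d)) (Pi.single f 1) ∈ G.signed.comap (wHom (QW (wt (σ := σ) d))) := by
    obtain ⟨ε, hεdef⟩ : ∃ ε : (σ → Fin k) → F, ε = fun a => if a = f then -1 else 1 := ⟨_, rfl⟩
    have hε : ∀ a, ε a * ε a = 1 := fun a => by rw [hεdef]; dsimp only; split_ifs <;> ring
    refine G.mem_signed.2 ⟨1, one_mem _, ε, hε, gl_ext_mulVec fun z => ?_⟩
    rw [one_mul, wHom_apply, diagG_val]
    show ORefl.refl _ _ z = _
    have hQ : QW (wt (σ := σ) d) (Pi.single f 1) = 1 := by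
      rw [QW_apply, Finset.sum_eq_single f (fun a _ ha => by simp [Pi.single_eq_of_ne ha]) (by simp),
        Pi.single_eq_same, wt, Finset.prod_eq_one (fun j _ => hd.one _ (hm _))]
      ring
    funext a
    rw [ORefl.refl_apply, hQ, polar_QW, Finset.sum_eq_single f (fun a _ ha => by simp [Pi.single_eq_of_ne ha])
      (by simp), Pi.single_eq_same, wt, Finset.prod_eq_one (fun j _ => hd.one _ (hm _)), Pi.sub_apply,
      Pi.smul_apply, Matrix.mulVec_diagonal, hεdef]
    by_cases ha : a = f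
    · subst ha
      simp
      ring
    · simp [Pi.single_eq_of_ne ha, ha]
  obtain ⟨g, hg⟩ := G.fib l f (fun j _ => hm _) r hr
  obtain ⟨hgX, hgb, -, -⟩ := mem_sup.1 g.2
  obtain ⟨g', hg'⟩ := wHom_surj (G.le _ hgX)
  have hg'G : g' ∈ G.signed.comap (wHom (QW (wt (σ := σ) d))) := by
    refine Subgroup.mem_comap.2 (G.mem_signed.2 ⟨g.1, Subgroup.mem_iSup_of_mem ⟨(l, f), fun j _ => hm _⟩ g.2,
      fun _ => 1, fun _ => one_mul 1, ?_⟩)
    rw [hg', show diagG (fun _ : σ → Fin k => (1 : F)) (fun _ => one_mul 1) = 1 from Units.ext (by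
      rw [diagG_val, Matrix.diagonal_one, Units.val_one]), mul_one]
  have h := MFrame.rf_conj_mem hg'G hbase
  rwa [← wHom_apply, hg', ← lin_single l f, mulVec_lin hgb, ← fibH_val, hg, hry] at h

/-- Two reflections give a parameter. -/
theorem Gen1.par_of_pair {v w : (σ → Fin k) → F} (hv : QW (wt (σ := σ) d) v = 0)
    (hvw : polar (QW (wt (σ := σ) d)) v w = 0) (hw : QW (wt (σ := σ) d) w = 1)
    (h1 : rf (QW (wt (σ := σ) d)) w ∈ G.signed.comap (wHom (QW (wt (σ := σ) d))))
    (h2 : ∀ s : F, rf (QW (wt (σ := σ) d)) (w - s • v) ∈ G.signed.comap (wHom (QW (wt (σ := σ) d)))) :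
    w ∈ parSub X hv := by
  refine ⟨hvw, fun s => ?_⟩
  obtain ⟨r, hr⟩ : ∃ r, r = s / 2 := ⟨_, rfl⟩
  have hrv : QW (wt (σ := σ) d) (r • v) = 0 := by rw [QuadraticMap.map_smul, hv, smul_zero]
  have hrw : polar (QW (wt (σ := σ) d)) (r • v) w = 0 := by rw [polar_smul_left, hvw, smul_zero]
  obtain ⟨E, hE⟩ : ∃ E : ↥(Iso (QW (wt (σ := σ) d))), E = ⟨ORefl.siegel hrv hrw, ORefl.siegel_mem hrv hrw⟩ := ⟨_, rfl⟩
  have hEG : E ∈ G.signed.comap (wHom (QW (wt (σ := σ) d))) := by
    rw [hE, OOmega.siegel_eq_rf hrv hrw (hw ▸ one_ne_zero)]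
    refine mul_mem ?_ h1
    rw [hw, one_smul]
    exact h2 r
  obtain ⟨g, hgdef⟩ : ∃ g, g = wHom (QW (wt (σ := σ) d)) E := ⟨_, rfl⟩
  have hgx : ∀ x, (g : Matrix (σ → Fin k) (σ → Fin k) F) *ᵥ x = x + polar (QW (wt (σ := σ) d)) (r • v) x • w -
      (polar (QW (wt (σ := σ) d)) w x + QW (wt (σ := σ) d) w * polar (QW (wt (σ := σ) d)) (r • v) x) • (r • v) :=
    fun x => by rw [hgdef, wHom_apply, hE]; exact ORefl.siegel_apply hrv hrw x
  refine ⟨g * g, G.sq_mem (hgdef ▸ hEG), fun x => ?_⟩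
  have hvv : polar (QW (wt (σ := σ) d)) v v = 0 := by rw [QuadraticMap.polar_self, hv, nsmul_zero]
  have h2' := G.ctx.shape.two
  rw [show s = 2 * r by rw [hr]; field_simp, gl_mul_mulVec, hgx, hgx]
  simp only [polar_add_right, polar_sub_right, polar_smul_right, polar_smul_left, QuadraticMap.map_smul, hv, hvv, hvw,
    polar_comm (⇑(QW (wt (σ := σ) d))) w v, QuadraticMap.polar_self, hw, smul_eq_mul, mul_zero, add_zero,
    sub_zero, nsmul_eq_mul, Nat.cast_ofNat]
  module

/-- In dimension three the single fibres generate. -/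
theorem Gen1.omega_of_three [Nontrivial σ] (hk : k = 3) (hn : 7 ≤ Fintype.card (σ → Fin k)) :
    Cfsg.Geo.omegaGL ⇑(QW (wt (σ := σ) d)) ≤ X := by
  classical
  subst hk
  have hd := G.ctx.shape
  have hodd : Odd 3 := by decide
  have hm : ∀ i : Fin 3, Main i := fun i => Or.inr hodd
  have h2 := hd.two
  have h5 : 5 ≤ Nat.card F := by
    rw [Nat.card_eq_fintype_card]
    have hodd' : Odd (Fintype.card F) := Nat.odd_iff.mpr (FiniteField.odd_card_of_char_ne_two fun h => hd.two (by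
      haveI := ringChar.of_eq h
      exact CharTwo.two_eq_zero))
    have h3 : Fintype.card F ≠ 3 := fun h => hd.q3 ⟨h, rfl⟩
    have h1 : 1 < Fintype.card F := Fintype.one_lt_card
    obtain ⟨r, hr⟩ := hodd'
    omega
  obtain ⟨l, j₀, hlj⟩ := exists_pair_ne σ
  obtain ⟨Qw, hQw⟩ : ∃ Qw, Qw = QW (wt (σ := σ) d) := ⟨_, rfl⟩
  obtain ⟨H, hH⟩ : ∃ H, H = G.signed.comap (wHom (QW (wt (σ := σ) d))) := ⟨_, rfl⟩
  obtain ⟨f, hf⟩ : ∃ f : σ → Fin 3, f = fun _ => 0 := ⟨_, rfl⟩
  obtain ⟨U₀, hU₀⟩ : ∃ U₀, U₀ = LinearMap.range (linL (F := F) l f) := ⟨_, rfl⟩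
  have hS₀ : MFrame.Sph H 1 U₀ := hH ▸ hU₀ ▸ G.line_sphere hodd l f
  have hp := hd.prod_main (l := l) (f := f) fun j _ => hm _
  have hpj := hd.prod_main (l := j₀) (f := f) fun j _ => hm _
  have hND : MFrame.NDOn (QW (wt (σ := σ) d)) U₀ := by
    intro z hz
    obtain ⟨y, hy⟩ : ∃ y, lin l f y = (z : (σ → Fin 3) → F) := by
      obtain ⟨z, hz'⟩ := z
      rw [hU₀] at hz'
      exact hz'
    have : y = 0 := pnd_Qd h2 hd.ne y fun x => by
      have h0 : polar (QW (wt (σ := σ) d)) (z : (σ → Fin 3) → F) (lin l f x) = 0 :=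
        hz ⟨lin l f x, by rw [hU₀]; exact ⟨x, rfl⟩⟩
      rwa [← hy, polar_lin d l hp, lin_comp] at h0
    apply Subtype.ext
    rw [← hy, this]
    exact (linL (F := F) l f).map_zero
  have hfr : 3 ≤ Module.finrank F U₀ := by
    rw [hU₀, LinearMap.finrank_range_of_inj (linL_inj l f), Module.finrank_fintype_fun_eq_card, Fintype.card_fin]
  obtain ⟨E, hE⟩ : ∃ E : Fin 3 → (σ → Fin 3) → F, ∀ i, E i = lin j₀ f (Pi.single i 1) := ⟨_, fun i => rfl⟩
  have hP : lin l f (Pi.single 0 1) = lin j₀ f (Pi.single 0 (1 : F)) := by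
    have e1 := lin_single (F := F) l f
    have e2 := lin_single (F := F) j₀ f
    rw [show f l = 0 by rw [hf]] at e1
    rw [show f j₀ = 0 by rw [hf]] at e2
    rw [e1, e2]
  have hlinj : ∀ y : Fin 3 → F, lin j₀ f y = y 0 • E 0 + y 1 • E 1 + y 2 • E 2 := fun y => by
    simp only [hE, ← linL_apply, ← map_smul, ← map_add]
    congr 1
    funext i
    fin_cases i <;> simp
  have hperp : ∀ y : Fin 3 → F, y 0 = 0 → ∀ u ∈ U₀, polar (QW (wt (σ := σ) d)) (lin j₀ f y) u = 0 := by
    intro y hy u hu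
    rw [hU₀] at hu
    obtain ⟨x, rfl⟩ := hu
    rw [polar_lin d j₀ hpj, polar_Qd, Finset.sum_eq_zero fun i _ => ?_, mul_zero]
    by_cases hi : i = 0
    · rw [hi, hy, zero_mul, mul_zero]
    · rw [Function.comp_apply, linL_apply, lin_off x fun h => hi (by
        have := mem_cyl_compl.1 h j₀ hlj.symm
        rwa [Function.update_self, hf] at this), mul_zero, mul_zero]
  have hQj : ∀ y : Fin 3 → F, QW (wt (σ := σ) d) (lin j₀ f y) = y 0 * y 0 + y 1 * y 1 + y 2 * y 2 := fun y => by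
    rw [QW_lin h2 d j₀ hpj, Qd_apply, Fin.sum_univ_three, hd.one _ (hm 0), hd.one _ (hm 1), hd.one _ (hm 2)]
    ring
  have hunit : ∀ y : Fin 3 → F, y 0 * y 0 + y 1 * y 1 + y 2 * y 2 = 1 →
      rf (QW (wt (σ := σ) d)) (lin j₀ f y) ∈ H := fun y hy =>
    hH ▸ G.line_sphere hodd j₀ f _ ⟨y, rfl⟩ ((hQj y).trans hy)
  have hE0 : E 0 ∈ U₀ := by rw [hU₀, hE, ← hP]; exact ⟨_, rfl⟩
  obtain ⟨s, hs0, hs1⟩ := exists_ne_pm (F := F) (by rwa [← Nat.card_eq_fintype_card])
  obtain ⟨u, w, huw⟩ := OOmega.exists_rep h2 (one_ne_zero (α := F)) one_ne_zero (1 - s * s)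
  rw [one_mul, one_mul] at huw
  have hN : u * u + w * w ≠ 0 := fun e => hs1 (by linear_combination huw - e)
  obtain ⟨U, hSU, hU₀U, hEU⟩ : ∃ U, MFrame.Sph H 1 U ∧ U₀ ≤ U ∧ ∀ i, E i ∈ U := by
    have hy₀ : QW (wt (σ := σ) d) (s • E 0) = s * s := by
      rw [hE, ← linL_apply, ← map_smul, linL_apply, hQj]; simp
    by_cases h0 : u = 0 ∨ w = 0
    · -- one of the two points at a time
      obtain ⟨a, ha, hsa⟩ : ∃ a : F, a ≠ 0 ∧ s * s + a * a = 1 := by
        rcases h0 with e | e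
        · exact ⟨w, fun e' => hN (by rw [e, e']; ring), by rw [e] at huw; linear_combination huw⟩
        · exact ⟨u, fun e' => hN (by rw [e, e']; ring), by rw [e] at huw; linear_combination huw⟩
      have hs₁ := MFrame.sphere_step h2 (one_ne_zero (α := F)) h5 hND hfr hS₀ (f := E 1) (y₀ := s • E 0) (t := a)
        (fun u hu => hE 1 ▸ hperp _ (by simp) u hu) (by rw [hE, hQj]; simp) ha (U₀.smul_mem s hE0)
        (by rw [hy₀]; exact mul_ne_zero hs0 hs0) ?_ ?_
      · obtain ⟨hND₁, hfr₁⟩ := MFrame.ndOn_sup_span h2 hND (f := E 1) (fun u hu => hE 1 ▸ hperp _ (by simp) u hu)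
          (by rw [hE, hQj]; simp)
        have hE2 : ∀ u ∈ U₀ ⊔ Submodule.span F {E 1}, polar (QW (wt (σ := σ) d)) (E 2) u = 0 := by
          intro z hz
          obtain ⟨p, hp', q, hq, rfl⟩ := Submodule.mem_sup.1 hz
          obtain ⟨r, rfl⟩ := Submodule.mem_span_singleton.1 hq
          rw [polar_add_right, polar_smul_right, hE 2, hperp _ (by simp) p hp', hE, polar_lin d j₀ hpj, lin_comp,
            polar_Qd_single]
          simp
        refine ⟨_, MFrame.sphere_step h2 one_ne_zero h5 hND₁ (by omega) hs₁ (f := E 2) (y₀ := s • E 0) (t := a)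
          hE2 (by rw [hE, hQj]; simp) ha (Submodule.mem_sup_left (U₀.smul_mem s hE0))
          (by rw [hy₀]; exact mul_ne_zero hs0 hs0) ?_ ?_, le_sup_of_le_left le_sup_left, fun i => ?_⟩
        · rw [hE, hE, ← linL_apply, ← linL_apply, ← map_smul, ← map_smul, ← map_add, linL_apply, hQj]
          simpa using hsa
        · rw [hE, hE, ← linL_apply, ← linL_apply, ← map_smul, ← map_smul, ← map_add, linL_apply]
          exact hunit _ (by simpa using hsa)
        · fin_cases i
          · exact Submodule.mem_sup_left (Submodule.mem_sup_left hE0)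
          · exact Submodule.mem_sup_left (Submodule.mem_sup_right (Submodule.mem_span_singleton_self _))
          · exact Submodule.mem_sup_right (Submodule.mem_span_singleton_self _)
      · rw [hE, hE, ← linL_apply, ← linL_apply, ← map_smul, ← map_smul, ← map_add, linL_apply, hQj]
        simpa using hsa
      · rw [hE, hE, ← linL_apply, ← linL_apply, ← map_smul, ← map_smul, ← map_add, linL_apply]
        exact hunit _ (by simpa using hsa)
    · push Not at h0
      obtain ⟨hu0, hw0⟩ := h0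
      obtain ⟨f₁, hf₁⟩ : ∃ f₁, f₁ = lin j₀ f ![0, u, w] := ⟨_, rfl⟩
      obtain ⟨f₂, hf₂⟩ : ∃ f₂, f₂ = lin j₀ f ![0, -w, u] := ⟨_, rfl⟩
      have hf₁U : ∀ z ∈ U₀, polar (QW (wt (σ := σ) d)) f₁ z = 0 := hf₁ ▸ hperp _ rfl
      have hQf₁ : QW (wt (σ := σ) d) f₁ = u * u + w * w := by rw [hf₁, hQj]; simp
      have hval₁ : rf (QW (wt (σ := σ) d)) (s • E 0 + (1 : F) • f₁) ∈ H ∧
          QW (wt (σ := σ) d) (s • E 0 + (1 : F) • f₁) = 1 := by
        have e : s • E 0 + (1 : F) • f₁ = lin j₀ f ![s, u, w] := by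
          rw [hlinj, hf₁, hlinj]; simp; abel
        have hv : ![s, u, w] 0 * ![s, u, w] 0 + ![s, u, w] 1 * ![s, u, w] 1 + ![s, u, w] 2 * ![s, u, w] 2 = 1 := by
          simp; linear_combination huw
        rw [e]
        exact ⟨hunit _ hv, by rw [hQj, hv]⟩
      have hs₁ := MFrame.sphere_step h2 (one_ne_zero (α := F)) h5 hND hfr hS₀ hf₁U (hQf₁ ▸ hN) one_ne_zero
        (U₀.smul_mem s hE0) (by rw [hy₀]; exact mul_ne_zero hs0 hs0) hval₁.2 hval₁.1
      obtain ⟨hND₁, hfr₁⟩ := MFrame.ndOn_sup_span h2 hND hf₁U (hQf₁ ▸ hN)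
      obtain ⟨N, hNdef⟩ : ∃ N, N = u * u + w * w := ⟨_, rfl⟩
      rw [← hNdef] at hN hQf₁
      have hE1 : E 1 = (u / N) • f₁ + (-w / N) • f₂ := by
        rw [hf₁, hf₂, hE, ← linL_apply, ← linL_apply, ← linL_apply, ← map_smul, ← map_smul, ← map_add]
        congr 1
        funext i
        fin_cases i <;> simp <;> field_simp <;> rw [hNdef] <;> ring
      have hE2 : E 2 = (w / N) • f₁ + (u / N) • f₂ := by
        rw [hf₁, hf₂, hE, ← linL_apply, ← linL_apply, ← linL_apply, ← map_smul, ← map_smul, ← map_add]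
        congr 1
        funext i
        fin_cases i <;> simp <;> field_simp <;> rw [hNdef] <;> ring
      have hf₂U : ∀ z ∈ U₀ ⊔ Submodule.span F {f₁}, polar (QW (wt (σ := σ) d)) f₂ z = 0 := by
        intro z hz
        obtain ⟨p, hp', q, hq, rfl⟩ := Submodule.mem_sup.1 hz
        obtain ⟨r, rfl⟩ := Submodule.mem_span_singleton.1 hq
        rw [polar_add_right, polar_smul_right, hf₂, hperp _ rfl p hp', hf₁, polar_lin d j₀ hpj, lin_comp, polar_Qd,
          Fin.sum_univ_three, hd.one _ (hm 0), hd.one _ (hm 1), hd.one _ (hm 2)]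
        simp
        exact Or.inr (Or.inr (by ring))
      refine ⟨_, MFrame.sphere_step h2 one_ne_zero h5 hND₁ (by omega) hs₁ hf₂U (y₀ := (u / N) • f₁)
        (t := -w / N) ?_ (div_ne_zero (neg_ne_zero.2 hw0) hN)
        (Submodule.mem_sup_right (Submodule.smul_mem _ _ (Submodule.mem_span_singleton_self _))) ?_ ?_ ?_,
        le_sup_of_le_left le_sup_left, fun i => ?_⟩
      · rw [hf₂, hQj]
        simp
        intro e
        exact hN (by rw [hNdef]; linear_combination e)
      · rw [QuadraticMap.map_smul, hQf₁, smul_eq_mul]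
        exact mul_ne_zero (mul_ne_zero (div_ne_zero hu0 hN) (div_ne_zero hu0 hN)) hN
      · rw [← hE1, hE, hQj]; simp
      · rw [← hE1, hE]; exact hunit _ (by simp)
      · fin_cases i
        · exact Submodule.mem_sup_left (Submodule.mem_sup_left hE0)
        · show E 1 ∈ _
          rw [hE1]
          exact add_mem (Submodule.mem_sup_left (Submodule.mem_sup_right
            (Submodule.smul_mem _ _ (Submodule.mem_span_singleton_self _))))
            (Submodule.mem_sup_right (Submodule.smul_mem _ _ (Submodule.mem_span_singleton_self _)))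
        · show E 2 ∈ _
          rw [hE2]
          exact add_mem (Submodule.mem_sup_left (Submodule.mem_sup_right
            (Submodule.smul_mem _ _ (Submodule.mem_span_singleton_self _))))
            (Submodule.mem_sup_right (Submodule.smul_mem _ _ (Submodule.mem_span_singleton_self _)))
  have seeded : ∀ x : Fin 3 → F, Qd d x = 0 → Seeded d X l j₀ f x := by
    intro x hx hv
    refine ⟨0, hm 0, fun c _ hc => ?_⟩
    have hfu : Function.update (Function.update f l 0) j₀ c = Function.update f j₀ c := by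
      rw [show (0 : Fin 3) = f l by rw [hf], Function.update_eq_self]
    have hEc : E c = Pi.single (Function.update f j₀ c) 1 := by
      rw [hE, ← lin_single j₀ (Function.update f j₀ c), Function.update_self,
        lin_congr (f := f) (f' := Function.update f j₀ c) (mem_cyl_compl.2 fun i hi => Function.update_of_ne hi _ _)]
    rw [hfu, ← hEc]
    have hc0 : c ≠ 0 := fun e => hc (by rw [e, hf])
    have hQc : QW (wt (σ := σ) d) (E c) = 1 := by
      rw [hE, hQj]
      fin_cases c <;> simp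
    have horth : polar (QW (wt (σ := σ) d)) (lin l f x) (E c) = 0 := by
      rw [polar_comm, hE, hperp _ (by simp [hc0.symm]) _ (hU₀ ▸ ⟨x, rfl⟩)]
    refine G.par_of_pair hv horth hQc (hH ▸ hSU _ (hEU c) hQc) fun r => hH ▸ hSU _
      (sub_mem (hEU c) (U.smul_mem r (hU₀U (hU₀ ▸ ⟨x, rfl⟩)))) ?_
    rw [sub_eq_add_neg, ← neg_smul, QuadraticMap.map_add ⇑(QW (wt (σ := σ) d)), QuadraticMap.map_smul, hv, hQc,
      polar_smul_right, polar_comm, horth]
    simp
  obtain ⟨p, q, hpq⟩ := OOmega.exists_rep h2 (one_ne_zero (α := F)) one_ne_zero (-1)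
  rw [one_mul, one_mul] at hpq
  have hval : ∀ r : F, r * r = 1 → Qd d ![p, q, r] = 0 := fun r hr => by
    rw [Qd_apply, Fin.sum_univ_three, hd.one _ (hm 0), hd.one _ (hm 1), hd.one _ (hm 2)]
    simp
    linear_combination hpq + hr
  refine G.omega_le hlj.symm (fun j => hm _) (hval 1 (one_mul 1)) (hval (-1) (by ring)) ?_
    (seeded _ (hval 1 (one_mul 1))) (seeded _ (hval (-1) (by ring))) hn
  rw [polar_Qd, Fin.sum_univ_three, hd.one _ (hm 0), hd.one _ (hm 1), hd.one _ (hm 2)]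
  simp
  refine ⟨h2, fun h => h2 ?_⟩
  linear_combination hpq - h

end Cfsg.Agent.Classical.OTPow
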