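/-
Groups containing the slot groups are standard or contain the derived group.
-/
import Cfsg.Agent.Lib.Classical.OTPow.Three

set_option autoImplicit false
set_option linter.unusedSectionVars false

namespace Cfsg.Agent.Classical.OTPow

open Matrix
open Cfsg.Agent.Classical

variable {F : Type*} [Field F] [Fintype F] {k : ℕ} {σ : Type} [Fintype σ] [DecidableEq σ]
  {d : Fin k → F} {X : Subgroup (GL (σ → Fin k) F)}

theorem seven_le_card [Nontrivial σ] (hk : 3 ≤ k) : 7 ≤ Fintype.card (σ → Fin k) := by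
  rw [Fintype.card_fun, Fintype.card_fin]
  have h := Nat.pow_le_pow_right (show 0 < k by omega) (show 2 ≤ Fintype.card σ from Fintype.one_lt_card)
  have h9 : 3 ^ 2 ≤ k ^ 2 := Nat.pow_le_pow_left hk 2
  omega

/-- Isometries keep the quadratic form. -/
theorem isoD_preserves {ι : Type} [Fintype ι] [DecidableEq ι] (h2 : (2 : F) ≠ 0) {w : ι → F} {g : GL ι F}
    (hg : g ∈ IsoD w) (x : ι → F) : QW w ((g : Matrix ι ι F) *ᵥ x) = QW w x := by
  have h : ∀ y : ι → F, QW w y = y ⬝ᵥ (Matrix.diagonal w *ᵥ y) := fun y => by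
    rw [QW_apply, dotProduct]
    exact Finset.sum_congr rfl fun i _ => by rw [Matrix.mulVec_diagonal]; ring
  rw [h, h, ← Matrix.vecMul_transpose, ← Matrix.dotProduct_mulVec, Matrix.vecMul_transpose, Matrix.mulVec_mulVec,
    Matrix.mulVec_mulVec, mem_isoD.1 hg]

/-- The dichotomy, for groups of isometries. -/
theorem Ctx.std_or_omega' [Nontrivial σ] (C : Ctx d X) (hcyc : Cyclic X) :
    X ≤ Std F k σ ∨ Cfsg.Geo.omegaGL ⇑(QW (wt (σ := σ) d)) ≤ X := by
  by_cases hP : Pure1 X
  · exact Or.inl (C.std_of_pure hP)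
  have G : Gen1 d X := ⟨C, fun g hg => isoD_preserves C.shape.two (C.iso hg), C.single_fibre hP hcyc⟩
  have hk := C.shape.three
  right
  rcases (show k = 3 ∨ 4 ≤ k by omega) with h | h
  · exact G.omega_of_three h (seven_le_card hk)
  · exact G.omega_of_four h (seven_le_card hk)

/-- The dichotomy. -/
theorem Ctx.std_or_omega [Nontrivial σ] (C : Ctx d X) (_hle : X ≤ Cfsg.Geo.omegaGL ⇑(QW (wt (σ := σ) d)))
    (hcyc : Cyclic X) : X ≤ Std F k σ ∨ Cfsg.Geo.omegaGL ⇑(QW (wt (σ := σ) d)) ≤ X :=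
  C.std_or_omega' hcyc

end Cfsg.Agent.Classical.OTPow
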