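/-
Maximality of the stabiliser of a tensor power of symmetric forms.
-/
import Cfsg.Agent.Lib.Classical.OTPow.Dichotomy
import Cfsg.Agent.Lib.Classical.TensorPowerMax.Basic

set_option autoImplicit false
set_option linter.unusedSectionVars false

namespace Cfsg.Agent.Classical.OTPow

open Matrix QuadraticMap
open Cfsg.Agent.Classical
open scoped commutatorElement

variable {F : Type*} [Field F]

theorem omegaGL_eq {ι : Type} [Fintype ι] [DecidableEq ι] (Q : (ι → F) → F) :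
    Cfsg.Geo.omegaGL Q = ⁅Cfsg.isometryGroup F Q, Cfsg.isometryGroup F Q⁆ := by
  show (commutator ↥(Cfsg.isometryGroup F Q)).map _ = _
  rw [commutator_def, Subgroup.map_commutator, ← MonoidHom.range_eq_map, Subgroup.range_subtype]

theorem mulVec_gram {ι : Type*} [Fintype ι] (A G : Matrix ι ι F) (x : ι → F) :
    (A *ᵥ x) ⬝ᵥ (G *ᵥ (A *ᵥ x)) = x ⬝ᵥ ((Aᵀ * G * A) *ᵥ x) := by
  rw [← Matrix.mulVec_mulVec, ← Matrix.mulVec_mulVec, Matrix.dotProduct_mulVec x, Matrix.vecMul_transpose]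

variable [Fintype F]

theorem QW_dot {ι : Type} [Fintype ι] [DecidableEq ι] (w x : ι → F) : QW w x = x ⬝ᵥ (Matrix.diagonal w *ᵥ x) := by
  rw [QW_apply, dotProduct]
  exact Finset.sum_congr rfl fun i _ => by rw [Matrix.mulVec_diagonal]; ring

theorem isoD_eq_QW {ι : Type} [Fintype ι] [DecidableEq ι] (h2 : (2 : F) ≠ 0) (w : ι → F) :
    IsoD w = Cfsg.isometryGroup F ⇑(QW w) := by
  have hp2 : ∀ x y, polar (QW w) x y = 2 * (x ⬝ᵥ (Matrix.diagonal w *ᵥ y)) := fun x y => by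
    rw [polar_QW, dotProduct]
    exact congrArg (2 * ·) (Finset.sum_congr rfl fun i _ => by rw [Matrix.mulVec_diagonal]; ring)
  ext g
  constructor
  · intro hg u _
    show QW w ((g : Matrix ι ι F) *ᵥ u) = QW w u
    rw [QW_dot, QW_dot, mulVec_gram, mem_isoD.1 hg]
  · intro hg
    have hQ : ∀ x, QW w ((g : Matrix ι ι F) *ᵥ x) = QW w x := fun x => hg x x
    have hp : ∀ x y, polar (QW w) ((g : Matrix ι ι F) *ᵥ x) ((g : Matrix ι ι F) *ᵥ y) = polar (QW w) x y :=
      fun x y => by simp only [polar, ← Matrix.mulVec_add, hQ]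
    refine mem_isoD.2 (Matrix.ext fun i j => ?_)
    have e := hp (Pi.single i 1) (Pi.single j 1)
    rw [hp2, hp2, ← Matrix.vecMul_transpose, ← Matrix.dotProduct_mulVec,
      Matrix.mulVec_mulVec, Matrix.mulVec_mulVec, single_one_dotProduct, single_one_dotProduct,
      Matrix.mulVec_single_one, Matrix.mulVec_single_one] at e
    exact mul_left_cancel₀ h2 e

theorem omegaGL_QW {ι : Type} [Fintype ι] [DecidableEq ι] (h2 : (2 : F) ≠ 0) (w : ι → F) :
    Cfsg.Geo.omegaGL ⇑(QW w) = ⁅IsoD w, IsoD w⁆ := by rw [omegaGL_eq, isoD_eq_QW h2]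

variable {k : ℕ} {σ : Type} [Fintype σ] [DecidableEq σ] {d : Fin k → F}

theorem facG_omega {l : σ} {g : GL (Fin k) F} (hg : g ∈ Om d) : facG l g ∈ ⁅IsoD (wt (σ := σ) d), IsoD (wt d)⁆ := by
  have hle : (Om d).map (facG (F := F) (k := k) l) ≤ ⁅IsoD (wt (σ := σ) d), IsoD (wt d)⁆ := by
    rw [Om, Subgroup.map_commutator]
    have : (IsoD d).map (facG (F := F) (k := k) l) ≤ IsoD (wt (σ := σ) d) :=
      Subgroup.map_le_iff_le_comap.2 fun a ha => facG_iso l ha
    exact Subgroup.commutator_mono this this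
  exact hle ⟨g, hg, rfl⟩

theorem cycle_omega {x y z : σ} (hxy : x ≠ y) (hyz : y ≠ z) (hxz : x ≠ z) :
    permG k F (Equiv.swap x y * Equiv.swap y z) ∈ ⁅IsoD (wt (σ := σ) d), IsoD (wt d)⁆ := by
  have e : Equiv.swap x y * Equiv.swap y z = ⁅Equiv.swap y z, Equiv.swap x y⁆ := by
    rw [commutatorElement_def, Equiv.swap_inv, Equiv.swap_inv]
    ext j
    simp only [Equiv.Perm.mul_apply, Equiv.swap_apply_def]
    split_ifs <;> simp_all
  rw [e, map_commutatorElement]
  exact Subgroup.commutator_mem_commutator (permG_iso _) (permG_iso _)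

/-- Some element of the derived group moves the decomposition. -/
theorem exists_not_std [Nontrivial σ] (hd : Shape d) :
    ∃ g, g ∈ ⁅IsoD (wt (σ := σ) d), IsoD (wt d)⁆ ∧ g ∉ Std F k σ := by
  classical
  obtain ⟨i, j, hij⟩ := exists_pair_ne σ
  have hk := hd.three
  obtain ⟨u0, u1, u2, h01, h02, h12⟩ : ∃ u0 u1 u2 : Fin k, u0 ≠ u1 ∧ u0 ≠ u2 ∧ u1 ≠ u2 :=
    ⟨⟨0, by omega⟩, ⟨1, by omega⟩, ⟨2, by omega⟩, by simp, by simp, by simp [Fin.ext_iff]⟩
  obtain ⟨a, ha⟩ : ∃ a : σ → Fin k, a = Function.update (fun _ => u0) i u1 := ⟨_, rfl⟩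
  let ε : (σ → Fin k) → F := fun x => if x = a then -1 else 1
  have hε : ∀ x, ε x * ε x = 1 := fun x => by simp only [ε]; split_ifs <;> simp
  have hr : diagG ε hε ∈ IsoD (wt d) := by
    rw [mem_isoD, diagG_val, Matrix.diagonal_transpose, Matrix.diagonal_mul_diagonal, Matrix.diagonal_mul_diagonal]
    exact congrArg _ (funext fun x => by rw [mul_right_comm, hε, one_mul])
  obtain ⟨P, hP⟩ : ∃ P : GL (σ → Fin k) F, P = permG k F (Equiv.swap i j) := ⟨_, rfl⟩
  refine ⟨⁅diagG ε hε, P⁆, Subgroup.commutator_mem_commutator hr (hP ▸ permG_iso _), fun hS => ?_⟩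
  have hconj : P * (diagG ε hε)⁻¹ * P⁻¹ = diagG (fun x => ε fun l => x (Equiv.swap i j l)) (fun x => hε _) := by
    refine Units.ext (Matrix.ext fun x y => ?_)
    rw [diagG_inv, hP, ← map_inv, Units.val_mul, Units.val_mul, permG_val, permG_val, diagG_val, diagG_val,
      perm_apply_entry]
    rcases eq_or_ne x y with rfl | hxy
    · simp
    · rw [Matrix.diagonal_apply_ne _ hxy, Matrix.diagonal_apply_ne _ fun h => hxy (funext fun l => by
        simpa using congrFun h (Equiv.swap i j l))]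
  let δ : (σ → Fin k) → F := fun x => ε x * ε fun l => x (Equiv.swap i j l)
  have hval : ((⁅diagG ε hε, P⁆ : GL (σ → Fin k) F) : Matrix (σ → Fin k) (σ → Fin k) F) = Matrix.diagonal δ := by
    rw [commutatorElement_def, mul_assoc (diagG ε hε), mul_assoc (diagG ε hε), hconj, Units.val_mul, diagG_val,
      diagG_val, Matrix.diagonal_mul_diagonal]
  have hδ : ∀ x : σ → Fin k, (x i = u2 ∨ x j = u2) → δ x = 1 := fun x hx => by
    have hai : a i = u1 := by rw [ha, Function.update_self]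
    have haj : a j = u0 := by rw [ha, Function.update_of_ne hij.symm]
    have h1 : x ≠ a := by
      rintro rfl
      rcases hx with hx | hx
      · exact h12 (hai ▸ hx)
      · exact h02 (haj ▸ hx)
    have h2' : (fun l => x (Equiv.swap i j l)) ≠ a := fun h => by
      have h3 : x j = u1 := by rw [← hai, ← h]; simp
      have h4 : x i = u0 := by rw [← haj, ← h]; simp
      rcases hx with hx | hx
      · exact h02 (h4 ▸ hx)
      · exact h12 (h3 ▸ hx)
    simp [δ, ε, h1, h2']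
  obtain ⟨y, hy⟩ : ∃ y, y = Function.update a i u2 := ⟨_, rfl⟩
  obtain ⟨c, hc⟩ : ∃ c, c = Function.update a j u2 := ⟨_, rfl⟩
  obtain ⟨w, hw⟩ : ∃ w, w = Function.update c i u2 := ⟨_, rfl⟩
  have hai : a i = u1 := by rw [ha, Function.update_self]
  have haj : a j = u0 := by rw [ha, Function.update_of_ne hij.symm]
  have hci : c i = u1 := by rw [hc, Function.update_of_ne hij, hai]
  have hδa : δ a = -1 := by
    have : (fun l => a (Equiv.swap i j l)) ≠ a := fun h => h01 (by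
      have := congrFun h i
      simpa [hai, haj] using this)
    simp [δ, ε, this]
  obtain ⟨A, π, he⟩ := hS
  have key := std_facS A π i (Matrix.single u1 u2 (1 : F))
  rw [← he, hval] at key
  obtain ⟨Y', hY'⟩ : ∃ Y', Y' = (A (π i) : Matrix (Fin k) (Fin k) F) * Matrix.single u1 u2 (1 : F) *
    (((A (π i))⁻¹ : GL (Fin k) F) : Matrix (Fin k) (Fin k) F) := ⟨_, rfl⟩
  rw [← hY'] at key
  have k1 := congrFun (congrFun key a) y
  rw [Matrix.diagonal_mul, Matrix.mul_diagonal, hδa, hδ y (Or.inl (by rw [hy, Function.update_self])), mul_one,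
    facS_apply, if_pos (fun l hl => by rw [hy, Function.update_of_ne hl]), hy, Function.update_self, hai,
    Matrix.single_apply_same, mul_one, facS_apply] at k1
  have hπ : π i = i := by
    by_contra hne
    rw [if_neg fun h => h12 (by simpa [hai] using h i (Ne.symm hne))] at k1
    exact neg_ne_zero.2 one_ne_zero k1
  rw [hπ, if_pos (fun l hl => by rw [Function.update_of_ne hl]), Function.update_self, hai] at k1
  have k2 := congrFun (congrFun key c) w
  rw [hπ, Matrix.diagonal_mul, Matrix.mul_diagonal, hδ w (Or.inl (by rw [hw, Function.update_self])),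
    hδ c (Or.inr (by rw [hc, Function.update_self])), one_mul, mul_one,
    facS_apply, if_pos (fun l hl => by rw [hw, Function.update_of_ne hl]), hw, Function.update_self, hci,
    Matrix.single_apply_same, facS_apply, if_pos (fun l hl => by rw [Function.update_of_ne hl]),
    Function.update_self, hci] at k2
  exact hd.two (by linear_combination k2.trans k1.symm)

/-- The standard tensor-wreath group. -/
theorem standard_eq (k t : ℕ) : Cfsg.Geo.tensorWreathStandard k t F = Std F k (Fin t) := by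
  refine le_antisymm ?_ ?_
  · rw [Cfsg.Geo.tensorWreathStandard, Subgroup.closure_le]
    rintro g (⟨A, h⟩ | ⟨π, h⟩)
    · rw [show g = pureG A from Units.ext (Matrix.ext h)]; exact pureG_mem A
    · rw [show g = permG k F π from Units.ext (Matrix.ext h)]; exact permG_mem π
  · rintro g ⟨A, π, rfl⟩
    exact mul_mem (Subgroup.subset_closure (Or.inl ⟨A, fun _ _ => rfl⟩))
      (Subgroup.subset_closure (Or.inr ⟨π, fun _ _ => rfl⟩))

section Transport

variable {ι : Type} [Fintype ι] [DecidableEq ι] {t : ℕ}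

/-- Maximality from a dichotomy for the overgroups of the standard part. -/
theorem isMaximalIn_of_dich (ht : 2 ≤ t) (Qf : QuadraticForm F (ι → F)) (e : ι ≃ (Fin t → Fin k)) (P : GL ι F)
    (A : GL (Fin k) F) (hd : Shape d) {c : F} (hc : c ≠ 0)
    (hQT : ∀ x : (Fin t → Fin k) → F, Qf ((P : Matrix ι ι F) *ᵥ
      ((((pureG (fun _ : Fin t => A) : GL (Fin t → Fin k) F) : Matrix (Fin t → Fin k) (Fin t → Fin k) F) *ᵥ x) ∘ e)) =
        c * QW (wt d) x)
    (hdich : ∀ X ≤ ⁅IsoD (wt (σ := Fin t) d), IsoD (wt d)⁆,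
      (∀ g ∈ Std F k (Fin t), g ∈ ⁅IsoD (wt (σ := Fin t) d), IsoD (wt d)⁆ → g ∈ X) →
        X ≤ Std F k (Fin t) ∨ ⁅IsoD (wt (σ := Fin t) d), IsoD (wt d)⁆ ≤ X) :
    Cfsg.Geo.IsMaximalIn (Cfsg.Geo.omegaGL ⇑Qf)
      (Cfsg.Geo.tensorWreathSubgroup k t e P ⊓ Cfsg.Geo.omegaGL ⇑Qf) := by
  classical
  haveI : Nontrivial (Fin t) := Fin.nontrivial_iff_two_le.2 ht
  obtain ⟨a, ha⟩ : ∃ a : GL (Fin t → Fin k) F, a = pureG fun _ => A := ⟨_, rfl⟩
  obtain ⟨φ, hφdef⟩ : ∃ φ : GL (Fin t → Fin k) F ≃* GL ι F,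
      φ = (MulAut.conj a).trans ((Cfsg.Geo.glReindex (F := F) e.symm).trans (MulAut.conj P)) := ⟨_, rfl⟩
  obtain ⟨T, hT⟩ : ∃ T : ((Fin t → Fin k) → F) → (ι → F),
      ∀ x, T x = (P : Matrix ι ι F) *ᵥ ((((a : GL (Fin t → Fin k) F) : Matrix _ _ F) *ᵥ x) ∘ e) := ⟨_, fun _ => rfl⟩
  have hTsurj : ∀ v, ∃ x, T x = v := fun v =>
    ⟨((a⁻¹ : GL (Fin t → Fin k) F) : Matrix _ _ F) *ᵥ ((((P⁻¹ : GL ι F) : Matrix ι ι F) *ᵥ v) ∘ e.symm), by
      rw [hT, gl_mulVec_inv_cancel, Function.comp_assoc, Equiv.symm_comp_self, Function.comp_id, gl_mulVec_inv_cancel]⟩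
  have hφ : ∀ (g : GL (Fin t → Fin k) F) x, ((φ g : GL ι F) : Matrix ι ι F) *ᵥ T x =
      T ((g : Matrix (Fin t → Fin k) (Fin t → Fin k) F) *ᵥ x) := fun g x => by
    have hre : ∀ g, ((Cfsg.Geo.glReindex (F := F) e.symm g : GL ι F) : Matrix ι ι F) =
        ((g : GL (Fin t → Fin k) F) : Matrix (Fin t → Fin k) (Fin t → Fin k) F).submatrix e e := fun _ => rfl
    simp only [hT, hφdef, MulEquiv.trans_apply, MulAut.conj_apply, gl_mul_mulVec, gl_inv_mulVec_cancel, hre,
      Matrix.submatrix_mulVec_equiv, Function.comp_assoc, Equiv.self_comp_symm, Function.comp_id]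
  have hkr : ∀ g, φ g ∈ Cfsg.Geo.tensorWreathSubgroup k t e P ↔ g ∈ Std F k (Fin t) := fun g => by
    rw [← standard_eq]
    have haS : a ∈ Cfsg.Geo.tensorWreathStandard k t F := by rw [standard_eq, ha]; exact pureG_mem _
    constructor
    · rintro ⟨y, ⟨x, hx, rfl⟩, hy⟩
      have h : (Cfsg.Geo.glReindex (F := F) e.symm).trans (MulAut.conj P) x = φ g := hy
      rw [hφdef] at h
      have hxe : x = a * g * a⁻¹ := ((Cfsg.Geo.glReindex (F := F) e.symm).trans (MulAut.conj P)).injective h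
      rw [show g = a⁻¹ * x * a by rw [hxe]; group]
      exact mul_mem (mul_mem (inv_mem haS) hx) haS
    · intro hg
      exact ⟨_, ⟨a * g * a⁻¹, mul_mem (mul_mem haS hg) (inv_mem haS), rfl⟩, by rw [hφdef]; rfl⟩
  have hiso : (Cfsg.isometryGroup F ⇑Qf).comap φ.toMonoidHom = IsoD (wt (σ := Fin t) d) := by
    rw [isoD_eq_QW hd.two]
    have hQ : ∀ x, Qf (T x) = c * QW (wt d) x := fun x => by rw [hT, ha]; exact hQT x
    ext g
    constructor
    · intro hg x _
      show QW (wt d) ((g : Matrix (Fin t → Fin k) (Fin t → Fin k) F) *ᵥ x) = QW (wt d) x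
      have h : Qf (((φ g : GL ι F) : Matrix ι ι F) *ᵥ T x) = Qf (T x) := hg (T x) (T x)
      rw [hφ, hQ, hQ] at h
      exact mul_left_cancel₀ hc h
    · intro hg v _
      show Qf (((φ g : GL ι F) : Matrix ι ι F) *ᵥ v) = Qf v
      obtain ⟨x, rfl⟩ := hTsurj v
      rw [hφ, hQ, hQ, show QW (wt d) ((g : Matrix (Fin t → Fin k) (Fin t → Fin k) F) *ᵥ x) = QW (wt d) x from hg x x]
  obtain ⟨W, hWdef⟩ : ∃ W, W = (Cfsg.Geo.omegaGL ⇑Qf).comap φ.toMonoidHom := ⟨_, rfl⟩
  have hWeq : W = ⁅IsoD (wt (σ := Fin t) d), IsoD (wt d)⁆ := by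
    have hcm : ∀ K : Subgroup (GL ι F), K.comap φ.toMonoidHom = K.map φ.symm.toMonoidHom := fun K =>
      Subgroup.comap_equiv_eq_map_symm φ K
    rw [hWdef, omegaGL_eq, ← hiso, hcm, hcm, Subgroup.map_commutator]
  have hW : ∀ g, g ∈ W ↔ φ g ∈ Cfsg.Geo.omegaGL ⇑Qf := fun g => by rw [hWdef]; rfl
  refine ⟨lt_of_le_of_ne inf_le_right fun hEq => ?_, fun M hM hMS => ?_⟩
  · obtain ⟨g, hg, hgS⟩ := exists_not_std (σ := Fin t) hd
    rw [← hWeq] at hg
    exact hgS ((hkr g).1 (hEq.symm.le ((hW g).1 hg)).1)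
  obtain ⟨X, hXdef⟩ : ∃ X, X = M.comap φ.toMonoidHom := ⟨_, rfl⟩
  have hX : ∀ g, g ∈ X ↔ φ g ∈ M := fun g => by rw [hXdef]; rfl
  have hSX : ∀ g, g ∈ Std F k (Fin t) → g ∈ ⁅IsoD (wt (σ := Fin t) d), IsoD (wt d)⁆ → g ∈ X := fun g hg hg' =>
    (hX g).2 (hM ⟨(hkr g).2 hg, (hW g).1 (hWeq ▸ hg')⟩)
  have hXW : X ≤ ⁅IsoD (wt (σ := Fin t) d), IsoD (wt d)⁆ := fun g hg => by
    rw [← hWeq]
    exact (hW g).2 (hMS ((hX g).1 hg))
  rcases hdich X hXW hSX with h | h
  · refine Or.inl (le_antisymm (fun g hg => ?_) hM)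
    obtain ⟨g', rfl⟩ := φ.surjective g
    exact ⟨(hkr g').2 (h ((hX g').2 hg)), hMS hg⟩
  · refine Or.inr (le_antisymm hMS fun g hg => ?_)
    obtain ⟨g', rfl⟩ := φ.surjective g
    have hg' := (hW g').2 hg
    rw [hWeq] at hg'
    exact (hX g').1 (h hg')

/-- Maximality from the dichotomy, when every isometry of a slot lies in the derived group. -/
theorem isMaximalIn_of_ext (ht : 2 ≤ t) (Qf : QuadraticForm F (ι → F)) (e : ι ≃ (Fin t → Fin k)) (P : GL ι F)
    (A : GL (Fin k) F) (hd : Shape d) {c : F} (hc : c ≠ 0)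
    (hQT : ∀ x : (Fin t → Fin k) → F, Qf ((P : Matrix ι ι F) *ᵥ
      ((((pureG (fun _ : Fin t => A) : GL (Fin t → Fin k) F) : Matrix (Fin t → Fin k) (Fin t → Fin k) F) *ᵥ x) ∘ e)) =
        c * QW (wt d) x)
    (hext : Even k → ∀ (l : Fin t), ∀ g ∈ IsoD d, facG l g ∈ ⁅IsoD (wt (σ := Fin t) d), IsoD (wt d)⁆) :
    Cfsg.Geo.IsMaximalIn (Cfsg.Geo.omegaGL ⇑Qf)
      (Cfsg.Geo.tensorWreathSubgroup k t e P ⊓ Cfsg.Geo.omegaGL ⇑Qf) :=
  isMaximalIn_of_dich ht Qf e P A hd hc hQT fun X hXW' hSX => by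
    haveI : Nontrivial (Fin t) := Fin.nontrivial_iff_two_le.2 ht
    have hXW : X ≤ Cfsg.Geo.omegaGL ⇑(QW (wt (σ := Fin t) d)) := by rw [omegaGL_QW hd.two]; exact hXW'
    have C : Ctx d X := ⟨hd, fun g hg => Subgroup.commutator_le_self _ (hXW' hg),
      fun l g hg => hSX _ (facG_mem l g) (facG_omega hg),
      fun hev l g hg => hSX _ (facG_mem l g) (hext hev l g hg)⟩
    rw [← omegaGL_QW hd.two]
    exact C.std_or_omega hXW fun x y z hxy hyz hxz => hSX _ (permG_mem _) (cycle_omega hxy hyz hxz)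

end Transport

end Cfsg.Agent.Classical.OTPow
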