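/-
Tensor powers of even dimension: the diagonal shape of the form and the isometries of the slots.
-/
import Cfsg.Agent.Lib.Classical.OTPow.Final
import Cfsg.Agent.Lib.Classical.OTPow.Vect
import Cfsg.Agent.Lib.Classical.FormClassify
import Cfsg.Agent.Lib.Classical.TensorThreeFour.Spinor

set_option autoImplicit false
set_option linter.unusedSectionVars false

namespace Cfsg.Agent.Classical.OTPow

open Matrix QuadraticMap
open Cfsg.Agent.Classical
open Cfsg.Agent.Classical.OCount (PND)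
open Cfsg.Agent.Classical.ORefl (Iso toMat)
open Cfsg.Agent.Classical.OOmega (rf)

variable {F : Type*} [Field F] [Fintype F] {k : ℕ}

/-- A symmetric form has an orthogonal basis whose values are one, but for the last. -/
theorem congr_last (h2 : (2 : F) ≠ 0) {m : ℕ} {f : (Fin (m + 1) → F) → (Fin (m + 1) → F) → F}
    (hf : Cfsg.Geo.IsSymmetricForm f) :
    ∃ (δ : F) (A : GL (Fin (m + 1)) F), δ ≠ 0 ∧
      (A : Matrix (Fin (m + 1)) (Fin (m + 1)) F)ᵀ * Cfsg.Geo.gramMatrix f * (A : Matrix (Fin (m + 1)) (Fin (m + 1)) F) =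
        Matrix.diagonal (Fin.snoc (fun _ : Fin m => (1 : F)) δ) := by
  classical
  have H := reflexForm_of_symmetric hf
  obtain ⟨b, hb⟩ := H.exists_orthonormal (D := m) (fun W hW hlt => exists_norm_one_of_two_le h2 H hW (by
    rw [Fintype.card_fin] at hlt; omega)) m le_rfl (by simp)
  have hli : LinearIndependent F b := H.linearIndependent_of_orthonormal hb
  obtain ⟨v, hv, hv0⟩ : ∃ v ∈ H.perp (Submodule.span F (Set.range b)), v ≠ 0 :=
    Submodule.exists_mem_ne_zero_of_ne_bot fun e => by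
      have h := H.finrank_perp (Submodule.span F (Set.range b))
      rw [e, finrank_bot, finrank_span_eq_card hli] at h
      simp at h
  have hvb : ∀ i, f v (b i) = 0 := fun i => hv _ (Submodule.subset_span ⟨i, rfl⟩)
  let c : Fin (m + 1) → Fin (m + 1) → F := Fin.snoc b v
  let A : Matrix (Fin (m + 1)) (Fin (m + 1)) F := fun r i => c i r
  have hdiag : Aᵀ * Cfsg.Geo.gramMatrix f * A = Matrix.diagonal (Fin.snoc (fun _ : Fin m => (1 : F)) (f v v)) := by
    have e := gram_comp (RingEquiv.refl F) H.semi A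
    refine e.symm.trans ?_
    ext i j
    simp only [Cfsg.Geo.gramMatrix, Matrix.mulVec_single_one, Matrix.diagonal_apply]
    change f (c i) (c j) = _
    refine Fin.lastCases (Fin.lastCases ?_ (fun j => ?_) j) (fun i => Fin.lastCases ?_ (fun j => ?_) j) i
    · simp [c]
    · simpa [c, (Fin.castSucc_lt_last j).ne'] using hvb j
    · simpa [c, (Fin.castSucc_lt_last i).ne] using H.eq_zero_swap (hvb i)
    · simpa [c] using hb i j
  have hG : (Cfsg.Geo.gramMatrix f).det ≠ 0 := det_gram_ne_zero (RingEquiv.refl F) H.semi hf.nondegenerate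
  have hA : A.det ≠ 0 := fun h0 => by
    obtain ⟨x, hx0, hx⟩ := Matrix.exists_mulVec_eq_zero_iff.2 h0
    have e : Matrix.diagonal (Fin.snoc (fun _ : Fin m => (1 : F)) (f v v)) *ᵥ x = 0 := by
      rw [← hdiag, ← Matrix.mulVec_mulVec, hx, Matrix.mulVec_zero]
    have hc : ∀ i : Fin m, x i.castSucc = 0 := fun i => by
      simpa [Matrix.mulVec_diagonal] using congrFun e i.castSucc
    refine hx0 (funext (Fin.lastCases ?_ fun i => by rw [hc]; rfl))
    by_contra hl
    refine hv0 (funext fun r => ?_)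
    have er := congrFun hx r
    rw [Matrix.mulVec, dotProduct, Fin.sum_univ_castSucc] at er
    exact (by simpa [A, c, hc] using er : v r = 0 ∨ x (Fin.last m) = 0).resolve_right hl
  have hδ : f v v ≠ 0 := fun h0 => by
    have h := congrArg Matrix.det hdiag
    rw [Matrix.det_mul, Matrix.det_mul, Matrix.det_transpose, Matrix.det_diagonal,
      Finset.prod_eq_zero (Finset.mem_univ (Fin.last m)) (by simpa using h0)] at h
    simp [hA, hG] at h
  exact ⟨f v v, Matrix.GeneralLinearGroup.mkOfDetNeZero A hA, hδ, hdiag⟩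

/-- In dimension four without halves the last value is not a square. -/
theorem last_nonsquare (h2 : (2 : F) ≠ 0) {f : (Fin (3 + 1) → F) → (Fin (3 + 1) → F) → F}
    (hf : Cfsg.Geo.IsSymmetricForm f) (hminus : ¬ Cfsg.Geo.IsPlusTypeOn (fun v => f v v) ⊤) {δ : F} (hδ : δ ≠ 0)
    {A : GL (Fin (3 + 1)) F}
    (hA : (A : Matrix (Fin (3 + 1)) (Fin (3 + 1)) F)ᵀ * Cfsg.Geo.gramMatrix f *
      (A : Matrix (Fin (3 + 1)) (Fin (3 + 1)) F) = Matrix.diagonal (Fin.snoc (fun _ : Fin 3 => (1 : F)) δ)) :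
    ¬ IsSquare δ := by
  rintro ⟨s, rfl⟩
  have hs : s ≠ 0 := fun e => hδ (by rw [e, mul_zero])
  obtain ⟨a, b, hab⟩ := FiniteField.exists_root_sum_quadratic
    (f := (Polynomial.X ^ 2 : Polynomial F)) (g := (Polynomial.X ^ 2 + Polynomial.C 1 : Polynomial F))
    (Polynomial.degree_X_pow 2) (Polynomial.degree_X_pow_add_C (by norm_num) 1)
    (Nat.odd_iff.mp (odd_card_of_two_ne_zero h2))
  simp at hab
  let M : Matrix (Fin (3 + 1)) (Fin 2) F := !![1, 0; a, -b; b, a; 0, s⁻¹]
  obtain ⟨L, hL⟩ : ∃ L : (Fin 2 → F) →ₗ[F] (Fin (3 + 1) → F),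
      ∀ x, L x = (A : Matrix (Fin (3 + 1)) (Fin (3 + 1)) F) *ᵥ (M *ᵥ x) :=
    ⟨(A : Matrix (Fin (3 + 1)) (Fin (3 + 1)) F).mulVecLin.comp M.mulVecLin, fun _ => rfl⟩
  refine hminus ⟨LinearMap.range L, le_top, ?_, ?_⟩
  · rintro _ ⟨x, rfl⟩
    show f (L x) (L x) = 0
    rw [hL, semiForm_apply (RingEquiv.refl F) (reflexForm_of_symmetric hf).semi, RingEquiv.coe_refl, Function.id_comp,
      mulVec_gram, hA]
    simp [dotProduct, Matrix.mulVec_diagonal, M, Fin.sum_univ_four, Fin.snoc]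
    field_simp
    linear_combination (x 0 ^ 2 + x 1 ^ 2) * hab
  · rw [LinearMap.finrank_range_of_inj, finrank_top, Module.finrank_fin_fun, Module.finrank_fin_fun]
    intro x y h
    rw [hL, hL] at h
    have h' : M *ᵥ x = M *ᵥ y := by
      simpa [gl_inv_mulVec_cancel] using congrArg (fun z => ((A⁻¹ : GL (Fin (3 + 1)) F) : Matrix (Fin (3 + 1)) (Fin (3 + 1)) F) *ᵥ z) h
    funext i
    fin_cases i
    · simpa [M, Matrix.mulVec, dotProduct, Fin.sum_univ_two] using congrFun h' 0
    · simpa [M, Matrix.mulVec, dotProduct, Fin.sum_univ_two, hs] using congrFun h' 3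

/-- A basis of the shape. -/
theorem exists_shape (h2 : (2 : F) ≠ 0) (hk : 4 ≤ k) (hev : Even k) {f : (Fin k → F) → (Fin k → F) → F}
    (hf : Cfsg.Geo.IsSymmetricForm f) (h4 : k = 4 → ¬ Cfsg.Geo.IsPlusTypeOn (fun v => f v v) ⊤) :
    ∃ (d : Fin k → F) (A : GL (Fin k) F), Shape d ∧
      (A : Matrix (Fin k) (Fin k) F)ᵀ * Cfsg.Geo.gramMatrix f * (A : Matrix (Fin k) (Fin k) F) =
        Matrix.diagonal d := by
  obtain ⟨m, rfl⟩ : ∃ m, k = m + 1 := ⟨k - 1, by omega⟩
  obtain ⟨δ, A, hδ, hA⟩ := congr_last h2 hf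
  refine ⟨Fin.snoc (fun _ : Fin m => (1 : F)) δ, A, ⟨h2, by omega, Fin.lastCases (by simpa using hδ) (fun i => by simp),
    fun i hi => ?_, fun h i hi => ?_, fun h => by omega⟩, hA⟩
  · rcases hi with hi | hi
    · rw [show i = Fin.castSucc ⟨i, by omega⟩ from rfl, Fin.snoc_castSucc]
    · exact absurd hev (Nat.not_even_iff_odd.2 hi)
  · obtain rfl : m = 3 := by omega
    have hil : i = Fin.last 3 := Fin.ext (by
      have := not_or.1 hi
      rw [Fin.val_last]; omega)
    rw [hil, Fin.snoc_last]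
    exact last_nonsquare h2 hf (h4 rfl) hδ hA

section Fibres

variable {σ : Type} [Fintype σ] [DecidableEq σ] {d : Fin k → F}

/-- The weight of the other slots. -/
def restW (d : Fin k → F) (l : σ) (c : {j // j ≠ l} → Fin k) : F := ∏ j, d (c j)

theorem wt_split (d : Fin k → F) (l : σ) (a : σ → Fin k) :
    wt d a = restW d l (Equiv.funSplitAt l (Fin k) a).2 * d (a l) := by
  rw [wt, restW, Fintype.prod_eq_mul_prod_subtype_ne _ l, mul_comm]
  rfl

/-- Matrices that act fibre by fibre along one slot. -/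
def fibS (l : σ) : (({j // j ≠ l} → Fin k) → Matrix (Fin k) (Fin k) F) →* Matrix (σ → Fin k) (σ → Fin k) F where
  toFun Y := (Matrix.blockDiagonal Y).submatrix (Equiv.funSplitAt l (Fin k)) (Equiv.funSplitAt l (Fin k))
  map_one' := by rw [Matrix.blockDiagonal_one, Matrix.submatrix_one_equiv]
  map_mul' Y Z := by
    show (Matrix.blockDiagonal fun c => Y c * Z c).submatrix _ _ = _
    rw [Matrix.blockDiagonal_mul, Matrix.submatrix_mul_equiv]

theorem fibS_apply (l : σ) (Y : ({j // j ≠ l} → Fin k) → Matrix (Fin k) (Fin k) F) (a b : σ → Fin k) :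
    fibS l Y a b = if (Equiv.funSplitAt l (Fin k) a).2 = (Equiv.funSplitAt l (Fin k) b).2 then
      Y (Equiv.funSplitAt l (Fin k) a).2 (a l) (b l) else 0 := by
  show Matrix.blockDiagonal Y (Equiv.funSplitAt l (Fin k) a) (Equiv.funSplitAt l (Fin k) b) = _
  rw [Matrix.blockDiagonal_apply]
  rfl

theorem rest_eq_iff (l : σ) (a b : σ → Fin k) :
    (Equiv.funSplitAt l (Fin k) a).2 = (Equiv.funSplitAt l (Fin k) b).2 ↔ ∀ j, j ≠ l → a j = b j :=
  ⟨fun h j hj => congrFun h ⟨j, hj⟩, fun h => funext fun j => h j.1 j.2⟩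

/-- Invertible matrices that act fibre by fibre along one slot. -/
def fibG (l : σ) : (({j // j ≠ l} → Fin k) → GL (Fin k) F) →* GL (σ → Fin k) F :=
  (Units.map (fibS l)).comp (MulEquiv.piUnits (M := fun _ : {j // j ≠ l} → Fin k => Matrix (Fin k) (Fin k) F)).symm.toMonoidHom

theorem fibG_val (l : σ) (G : ({j // j ≠ l} → Fin k) → GL (Fin k) F) :
    ((fibG l G : GL (σ → Fin k) F) : Matrix (σ → Fin k) (σ → Fin k) F) =
      fibS l fun c => (G c : Matrix (Fin k) (Fin k) F) := rfl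

theorem fibG_const (l : σ) (g : GL (Fin k) F) : fibG l (fun _ => g) = facG l g := by
  refine Units.ext (Matrix.ext fun a b => ?_)
  rw [fibG_val, fibS_apply, facG_val, facS_apply]
  exact if_congr (rest_eq_iff l a b) rfl rfl

theorem fibG_iso (l : σ) {G : ({j // j ≠ l} → Fin k) → GL (Fin k) F} (hG : ∀ c, G c ∈ IsoD d) :
    fibG l G ∈ IsoD (wt d) := by
  have hD : Matrix.diagonal (wt (σ := σ) d) = fibS l fun c => restW d l c • Matrix.diagonal d := by
    ext a b
    rw [fibS_apply, Matrix.smul_apply]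
    rcases eq_or_ne a b with rfl | h
    · rw [if_pos rfl, Matrix.diagonal_apply_eq, Matrix.diagonal_apply_eq, wt_split d l, smul_eq_mul]
    · rw [Matrix.diagonal_apply_ne _ h]
      split_ifs with he
      · rw [Matrix.diagonal_apply_ne _ (fun e => h (funext fun j => by
          rcases eq_or_ne j l with rfl | hj
          exacts [e, (rest_eq_iff l a b).1 he j hj])), smul_zero]
      · rfl
  have hT : ∀ Y, (fibS (F := F) (k := k) l Y)ᵀ = fibS l fun c => (Y c)ᵀ := fun Y => by
    show ((Matrix.blockDiagonal Y).submatrix _ _)ᵀ = _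
    rw [Matrix.transpose_submatrix, Matrix.blockDiagonal_transpose]
    rfl
  rw [mem_isoD, fibG_val, hD, hT, ← map_mul, ← map_mul]
  congr 1
  funext c
  rw [Pi.mul_apply, Pi.mul_apply, Matrix.mul_smul, Matrix.smul_mul, mem_isoD.1 (hG c)]

/-- A vector of one fibre. -/
def fibV (l : σ) (c : {j // j ≠ l} → Fin k) (v : Fin k → F) (a : σ → Fin k) : F :=
  if (Equiv.funSplitAt l (Fin k) a).2 = c then v (a l) else 0

theorem QW_fibV (l : σ) (c : {j // j ≠ l} → Fin k) (v : Fin k → F) :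
    QW (wt d) (fibV l c v) = restW d l c * Qd d v := by
  rw [QW_apply, ← (Equiv.funSplitAt l (Fin k)).symm.sum_comp, Fintype.sum_prod_type, Qd_apply, Finset.mul_sum]
  refine Finset.sum_congr rfl fun x _ => ?_
  rw [Finset.sum_eq_single c]
  · simp [fibV, wt_split d l, Equiv.funSplitAt]
    ring
  · intro c' _ hc'
    simp [fibV, Equiv.funSplitAt, hc']
  · simp

theorem refl_entry {ι : Type} [Fintype ι] [DecidableEq ι] (w v : ι → F) (a b : ι) :
    (((toMat (QW w) (rf (QW w) v)).1 : GL ι F) : Matrix ι ι F) a b =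
      (Pi.single b 1 : ι → F) a - (QW w v)⁻¹ * (2 * (w b * v b)) * v a := by
  have e := congrFun (ORefl.toMat_apply (rf (QW w) v) (Pi.single b 1)) a
  rw [Matrix.mulVec_single_one, show (rf (QW w) v).1 = ORefl.refl (QW w) v from rfl, ORefl.refl_apply, Pi.sub_apply,
    Pi.smul_apply, polar_QW, smul_eq_mul, Finset.sum_eq_single b (fun j _ hj => by simp [Pi.single_eq_of_ne hj])
    (by simp), Pi.single_eq_same, mul_one] at e
  exact e

theorem fibG_single (hd : Shape d) (l : σ) (c : {j // j ≠ l} → Fin k) (v : Fin k → F) :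
    fibG l (Pi.mulSingle c (slotHom d (rf (Qd d) v))) =
      ((toMat (QW (wt (σ := σ) d)) (rf (QW (wt d)) (fibV l c v))).1 : GL (σ → Fin k) F) := by
  have hR : restW d l c ≠ 0 := Finset.prod_ne_zero_iff.2 fun j _ => hd.ne _
  refine Units.ext (Matrix.ext fun a b => ?_)
  rw [fibG_val, fibS_apply, refl_entry, QW_fibV, wt_split d l b]
  simp only [fibV]
  by_cases hab : (Equiv.funSplitAt l (Fin k) a).2 = (Equiv.funSplitAt l (Fin k) b).2
  · rw [if_pos hab]
    have hs : (Pi.single b 1 : (σ → Fin k) → F) a = (Pi.single (b l) 1 : Fin k → F) (a l) := by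
      rw [Pi.single_apply, Pi.single_apply]
      exact if_congr ⟨fun h => by rw [h], fun h => funext fun j => by
        rcases eq_or_ne j l with rfl | hj
        exacts [h, (rest_eq_iff l a b).1 hab j hj]⟩ rfl rfl
    rw [hs, ← hab]
    by_cases hc : (Equiv.funSplitAt l (Fin k) a).2 = c
    · rw [hc, Pi.mulSingle_eq_same, slot_rf_entry, if_pos rfl, if_pos rfl]
      field_simp
    · rw [Pi.mulSingle_eq_of_ne hc, if_neg hc, if_neg hc, Units.val_one, Matrix.one_apply, Pi.single_apply]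
      simp
  · rw [if_neg hab, Pi.single_apply, if_neg fun h => hab (by rw [h])]
    by_cases hc : (Equiv.funSplitAt l (Fin k) a).2 = c
    · rw [if_neg fun h => hab (hc.trans h.symm)]
      simp
    · rw [if_neg hc]
      simp

open scoped _root_.Classical in
/-- Determinant and spinor norm of a slot reflection in the tensor power. -/
theorem facG_refl_both (hd : Shape d) (hcard : 2 ≤ Fintype.card (σ → Fin k)) (l : σ) :
    ∃ L : ↥(Iso (Qd d)) →* ↥(Iso (QW (wt (σ := σ) d))),
      (∀ x, ((toMat (QW (wt (σ := σ) d)) (L x)).1 : GL (σ → Fin k) F) = facG l (slotHom d x)) ∧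
      ∀ v, Qd d v ≠ 0 →
        OOmega.dsign hd.two (pnd_QW hd.two fun a => wt_ne_zero hd.ne a) (L (rf (Qd d) v)) =
          (-1 : ℤˣ) ^ Fintype.card ({j // j ≠ l} → Fin k) ∧
        ((OOmega.spinor (QW (wt (σ := σ) d)) (L (rf (Qd d) v)) : ℤˣ) : ℤ) =
          quadraticChar F (∏ c : {j // j ≠ l} → Fin k, restW d l c * Qd d v) := by
  classical
  have h2 := hd.two
  obtain ⟨Q, hQdef⟩ : ∃ Q, Q = QW (wt (σ := σ) d) := ⟨_, rfl⟩
  have hQ : PND Q := hQdef ▸ pnd_QW h2 fun a => wt_ne_zero hd.ne a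
  have hn : 2 ≤ Module.finrank F ((σ → Fin k) → F) := by rwa [Module.finrank_fintype_fun_eq_card]
  obtain ⟨L, hL⟩ : ∃ L : (({j // j ≠ l} → Fin k) → ↥(Iso (Qd d))) →* ↥(Iso Q),
      ∀ G, ((toMat Q (L G)).1 : GL (σ → Fin k) F) = fibG l fun c => slotHom d (G c) := by
    have hm : ∀ G : ({j // j ≠ l} → Fin k) → ↥(Iso (Qd d)),
        (fibG l fun c => slotHom d (G c)) ∈ Cfsg.isometryGroup F ⇑Q := fun G => by
      rw [hQdef, ← isoD_eq_QW h2]
      exact fibG_iso l fun c => slotHom_range h2 ▸ ⟨_, rfl⟩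
    exact ⟨(toMat Q).symm.toMonoidHom.comp (((fibG l).comp (MonoidHom.compLeft (slotHom d) _)).codRestrict _ hm),
      fun G => congrArg Subtype.val ((toMat Q).apply_symm_apply _)⟩
  obtain ⟨f, hf⟩ : ∃ f : (({j // j ≠ l} → Fin k) → ↥(Iso (Qd d))) →* ℤˣ × ℤˣ, f = (OOmega.both Q h2 hQ).comp L :=
    ⟨_, rfl⟩
  have hsum : ∀ x, f (fun _ => x) = ∏ c, f (Pi.mulSingle c x) := fun x => by
    have e : f = ∏ c, (f.comp (MonoidHom.mulSingle (fun _ : {j // j ≠ l} → Fin k => ↥(Iso (Qd d))) c)).comp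
        (Pi.evalMonoidHom _ c) := by
      refine MonoidHom.pi_ext fun i x => ?_
      rw [MonoidHom.finsetProd_apply, Finset.prod_eq_single i (fun c _ hc => by simp [hc]) (by simp)]
      simp
    conv_lhs => rw [e, MonoidHom.finsetProd_apply]
    rfl
  obtain ⟨D, hD⟩ : ∃ D : ↥(Iso (Qd d)) →* (({j // j ≠ l} → Fin k) → ↥(Iso (Qd d))), ∀ x, D x = fun _ => x :=
    ⟨Pi.constMonoidHom _ _, fun _ => rfl⟩
  subst hQdef
  refine ⟨L.comp D, fun x => ?_, fun v hv => ?_⟩
  · rw [MonoidHom.comp_apply, hL, hD, fibG_const]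
  have hs : ∀ c, L (Pi.mulSingle c (rf (Qd d) v)) = rf (QW (wt d)) (fibV l c v) := fun c => by
    refine (toMat _).injective (Subtype.ext ?_)
    rw [hL, ← fibG_single hd l c v]
    congr 1
    funext c'
    exact Pi.apply_mulSingle (fun _ => slotHom d) (fun _ => map_one _) c _ c'
  have hne : ∀ c, QW (wt d) (fibV l c v) ≠ 0 := fun c => by
    rw [QW_fibV]
    exact mul_ne_zero (Finset.prod_ne_zero_iff.2 fun j _ => hd.ne _) hv
  have hprod := hsum (rf (Qd d) v)
  simp only [hf, MonoidHom.comp_apply, hs] at hprod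
  rw [MonoidHom.comp_apply, hD]
  refine ⟨?_, ?_⟩
  · refine (congrArg Prod.fst hprod).trans ?_
    rw [Prod.fst_prod]
    show ∏ c, OOmega.dsign h2 hQ (rf (QW (wt d)) (fibV l c v)) = _
    rw [Finset.prod_congr rfl fun c _ => OOmega.dsign_rf h2 hQ (hne c), Finset.prod_const, Finset.card_univ]
  · refine (congrArg (fun p => ((p.2 : ℤˣ) : ℤ)) hprod).trans ?_
    show ((((∏ c, OOmega.both _ h2 hQ (rf (QW (wt d)) (fibV l c v))) : ℤˣ × ℤˣ).2 : ℤˣ) : ℤ) = _
    rw [Prod.snd_prod, Units.coe_prod]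
    have hsp : ∀ c, ((OOmega.spinor (QW (wt d)) (rf (QW (wt d)) (fibV l c v)) : ℤˣ) : ℤ) =
        quadraticChar F (QW (wt d) (fibV l c v)) := fun c => by
      rcases Int.units_eq_one_or (OOmega.spinor (QW (wt d)) (rf (QW (wt d)) (fibV l c v))) with e | e
      · rw [e, Units.val_one, (quadraticChar_one_iff_isSquare (hne c)).mpr
          ((OOmega.spinor_rf h2 hQ hn (hne c)).mp e)]
      · rw [e, quadraticChar_neg_one_iff_not_isSquare.mpr fun hs => by
          rw [(OOmega.spinor_rf h2 hQ hn (hne c)).mpr hs] at e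
          exact absurd e (by decide)]
        rfl
    refine (Finset.prod_congr rfl fun c _ => hsp c).trans ?_
    simp only [← map_prod, QW_fibV]

/-- With three slots or more, the isometries of a slot lie in the derived group. -/
theorem facG_mem_omega (hd : Shape d) (hev : Even k) (ht : 3 ≤ Fintype.card σ) (l : σ) {g : GL (Fin k) F}
    (hg : g ∈ IsoD d) : facG l g ∈ ⁅IsoD (wt (σ := σ) d), IsoD (wt d)⁆ := by
  classical
  have h2 := hd.two
  have hk3 := hd.three
  have hcard : 2 ≤ Fintype.card (σ → Fin k) := by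
    rw [Fintype.card_fun, Fintype.card_fin]
    exact le_trans (by omega : 2 ≤ k) (Nat.le_self_pow (by omega) k)
  have hQ : PND (QW (wt (σ := σ) d)) := pnd_QW h2 fun a => wt_ne_zero hd.ne a
  obtain ⟨L, hL, hr⟩ := facG_refl_both hd hcard l
  have h1 : (OOmega.both (QW (wt (σ := σ) d)) h2 hQ).comp L = 1 := by
    refine OOmega.hom_ext (pnd_Qd h2 hd.ne) (OOmega.two_ne h2) fun v hv => ?_
    obtain ⟨e1, e2⟩ := hr v hv
    have hN : Fintype.card ({j // j ≠ l} → Fin k) = k ^ (Fintype.card σ - 1) := by simp [Fintype.card_subtype_compl]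
    refine Prod.ext ?_ ?_
    · show OOmega.dsign h2 hQ (L (rf (Qd d) v)) = 1
      rw [e1, hN]
      exact (hev.pow_of_ne_zero (by omega)).neg_one_pow
    · show OOmega.spinor (QW (wt (σ := σ) d)) (L (rf (Qd d) v)) = 1
      refine Units.ext (e2.trans ?_)
      refine (quadraticChar_one_iff_isSquare
        (Finset.prod_ne_zero_iff.2 fun c _ => mul_ne_zero (Finset.prod_ne_zero_iff.2 fun j _ => hd.ne _) hv)).2 ?_
      rw [Finset.prod_mul_distrib, Finset.prod_const, Finset.card_univ, hN]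
      refine IsSquare.mul ?_ ((hev.pow_of_ne_zero (by omega)).isSquare_pow _)
      rw [Finset.prod_comm]
      refine Finset.isSquare_prod _ fun j _ => ?_
      rw [← (Equiv.funSplitAt j (Fin k)).symm.prod_comp]
      simp only [Equiv.funSplitAt, Equiv.piSplitAt_symm_apply, dite_true, Fintype.prod_prod_type, Finset.prod_const,
        Finset.card_univ]
      refine Finset.isSquare_prod _ fun u _ => Even.isSquare_pow ?_ _
      rw [Fintype.card_fun, Fintype.card_fin, Fintype.card_subtype_compl, Fintype.card_subtype_compl]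
      try simp only [Fintype.card_subtype_eq]
      exact hev.pow_of_ne_zero (by simp; omega)
  obtain ⟨x, rfl⟩ : ∃ x, slotHom d x = g := by rw [← MonoidHom.mem_range, slotHom_range h2]; exact hg
  have hmem := (TThreeFour.mem_omega_iff h2 hQ hcard _).2 (DFunLike.congr_fun h1 x)
  rw [hL, omegaGL_QW h2] at hmem
  exact hmem

end Fibres

section Transport

variable {ι : Type} [Fintype ι] [DecidableEq ι] {t : ℕ}

/-- The stabiliser of a tensor power of even dimension and at least three factors is maximal in Ω. -/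
theorem isMaximalIn_even (h2 : (2 : F) ≠ 0) (ht : 3 ≤ t) (hk : 4 ≤ k) (hev : Even k) (Qf : QuadraticForm F (ι → F))
    (e : ι ≃ (Fin t → Fin k)) (P : GL ι F) {f : (Fin k → F) → (Fin k → F) → F} (hf : Cfsg.Geo.IsSymmetricForm f)
    (h4 : k = 4 → ¬ Cfsg.Geo.IsPlusTypeOn (fun v => f v v) ⊤)
    (hT : Cfsg.Geo.IsTensorPowerFormStructure id (QuadraticMap.polar Qf) f e P) :
    Cfsg.Geo.IsMaximalIn (Cfsg.Geo.omegaGL ⇑Qf)
      (Cfsg.Geo.tensorWreathSubgroup k t e P ⊓ Cfsg.Geo.omegaGL ⇑Qf) := by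
  classical
  obtain ⟨d, A, hd, hA⟩ := exists_shape h2 hk hev hf h4
  obtain ⟨c₀, hc₀, hT⟩ := hT
  refine isMaximalIn_of_ext (d := d) (c := c₀ / 2) (by omega) Qf e P A hd (div_ne_zero hc₀ h2) (fun x => ?_)
    fun _ l g hg => facG_mem_omega hd hev (by rw [Fintype.card_fin]; exact ht) l hg
  obtain ⟨z, hz⟩ : ∃ z, z = ((pureG (fun _ : Fin t => A) :
      GL (Fin t → Fin k) F) : Matrix (Fin t → Fin k) (Fin t → Fin k) F) *ᵥ x := ⟨_, rfl⟩
  have h := hT z z
  rw [QuadraticMap.polar_self, nsmul_eq_mul] at h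
  have hsum : (∑ a, ∑ b, z a * (∏ i, Cfsg.Geo.gramMatrix f (a i) (b i)) * id (z b)) =
      z ⬝ᵥ (pureS (fun _ : Fin t => Cfsg.Geo.gramMatrix f) *ᵥ z) := by
    simp only [dotProduct, Matrix.mulVec, pureS_apply, id, Finset.mul_sum]
    exact Finset.sum_congr rfl fun a _ => Finset.sum_congr rfl fun b _ => by ring
  rw [hsum, hz, mulVec_gram, pureG_val, pureS_transpose, pureS_mul, pureS_mul, hA, pureS_diagonal,
    Nat.cast_ofNat] at h
  rw [← hz, eq_comm, div_mul_eq_mul_div, div_eq_iff h2]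
  rw [hz, pureG_val, ← mul_comm (2 : F), h, QW_dot]
  rfl

end Transport

end Cfsg.Agent.Classical.OTPow
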